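import Cfsg.Agent.Mrg.Omega.NoFF.ThmJ
import Cfsg.Agent.MinSimple.VModule

section


/-!
# NO-3S, natural lines, critical distance 2: the basic facts (TEXT 426-1, bb OMEGA #15163, section 0)

Points: conjugates of `Z`; lines: conjugates of `V`; `W_X = ws V X`, `K_X = kx V X` (`PointTI.lean`, `PointFTwo.lean`).

* `Adj V Z X Y` : `X ≠ Y` are points of a line; `Com V X Y` : `W_X` and `W_Y` commute; `Cr V Z X R Y` : `(X, Y)` is
  critical with middle point `R`; `UU V Z R = ⟨W_A : A ~ R⟩`;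
* `Mid S P V Z` : `PL`, (F1), `Ω₁(Z(C_S(V))) = V`, and `W_X`, `W_Y` commute if `X ~ Y`;
* `Mid.flag` : every flag `(X, L)` is as good as `(Z, V)`; `Adj.line_unique`, `Mid.K_trans`, `Mid.stab`;
* `Mid.UU_le_o2`, `Mid.UU_le_centralizer` : (0.1);
* `Mid.star` : (0.2) `X ∩ W_Y = 1` for a critical pair;
* `Mid.cent_of_mod` : (0.3).
-/

set_option autoImplicit false
set_option linter.unusedSectionVars false

namespace Cfsg.Agent.Omega.NO3S.MidQ

open Subgroup Cfsg.Agent.Omega.NO3S.PT Cfsg.Agent.Omega.NoFF.Basic Cfsg.Agent.ZN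
open Cfsg.Agent.MinSimple.VModule (le_o2)
open scoped Pointwise

variable {G : Type*} [Group G]

/-- two different points of a line -/
structure Adj (V Z X Y : Subgroup G) : Prop where
  left : IsCj Z X
  right : IsCj Z Y
  ne : X ≠ Y
  line : ∃ L, IsCj V L ∧ X ≤ L ∧ Y ≤ L

/-- `W_X` and `W_Y` commute -/
def Com (V X Y : Subgroup G) : Prop := ws V X ≤ centralizer ((ws V Y : Subgroup G) : Set G)

/-- `(X, Y)` is a critical pair with middle point `R` -/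
structure Cr (V Z X R Y : Subgroup G) : Prop where
  l : Adj V Z X R
  r : Adj V Z R Y
  ne : ¬ Com V X Y

/-- the group generated by the `W_A`, `A ~ R` -/
def UU (V Z R : Subgroup G) : Subgroup G := sSup {W | ∃ A, Adj V Z A R ∧ W = ws V A}

variable {V Z X Y R L : Subgroup G}

/-! ### Change of the base flag -/

theorem ws_of (hL : IsCj V L) (X : Subgroup G) : ws L X = ws V X := by
  obtain ⟨g, rfl⟩ := hL
  exact ws_cj_left V X g

theorem kx_of (hL : IsCj V L) (X : Subgroup G) : kx L X = kx V X := by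
  obtain ⟨g, rfl⟩ := hL
  exact kx_cj_left V X g

theorem isCj_iff (hL : IsCj V L) {M : Subgroup G} : IsCj L M ↔ IsCj V M := by
  obtain ⟨g, rfl⟩ := hL
  exact isCj_cj

theorem adj_iff (hL : IsCj V L) (hX : IsCj Z X) {A B : Subgroup G} : Adj L X A B ↔ Adj V Z A B := by
  constructor
  · rintro ⟨h1, h2, h3, M, h4, h5⟩
    exact ⟨(isCj_iff hX).1 h1, (isCj_iff hX).1 h2, h3, M, (isCj_iff hL).1 h4, h5⟩
  · rintro ⟨h1, h2, h3, M, h4, h5⟩
    exact ⟨(isCj_iff hX).2 h1, (isCj_iff hX).2 h2, h3, M, (isCj_iff hL).2 h4, h5⟩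

theorem com_iff (hL : IsCj V L) {A B : Subgroup G} : Com L A B ↔ Com V A B := by
  rw [Com, Com, ws_of hL, ws_of hL]

theorem cr_iff (hL : IsCj V L) (hX : IsCj Z X) {A B C : Subgroup G} : Cr L X A B C ↔ Cr V Z A B C := by
  constructor
  · rintro ⟨h1, h2, h3⟩
    exact ⟨(adj_iff hL hX).1 h1, (adj_iff hL hX).1 h2, fun h => h3 ((com_iff hL).2 h)⟩
  · rintro ⟨h1, h2, h3⟩
    exact ⟨(adj_iff hL hX).2 h1, (adj_iff hL hX).2 h2, fun h => h3 ((com_iff hL).1 h)⟩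

theorem UU_of (hL : IsCj V L) (hX : IsCj Z X) (R : Subgroup G) : UU L X R = UU V Z R := by
  unfold UU
  congr 1
  ext W
  constructor
  · rintro ⟨A, h1, rfl⟩
    exact ⟨A, (adj_iff hL hX).1 h1, ws_of hL A⟩
  · rintro ⟨A, h1, rfl⟩
    exact ⟨A, (adj_iff hL hX).2 h1, (ws_of hL A).symm⟩

theorem isCj_symm (h : IsCj V L) : IsCj L V := by
  obtain ⟨g, rfl⟩ := h
  exact ⟨g⁻¹, by rw [cj_cj, inv_mul_cancel, cj_one]⟩

theorem isCj_trans {A B C : Subgroup G} (h : IsCj A B) (h' : IsCj B C) : IsCj A C := (isCj_iff h).1 h'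

/-! ### Symmetry and conjugation -/

theorem Adj.symm (h : Adj V Z X Y) : Adj V Z Y X := by
  obtain ⟨h1, h2, h3, M, h4, h5, h6⟩ := h
  exact ⟨h2, h1, h3.symm, M, h4, h6, h5⟩

theorem Adj.cj (h : Adj V Z X Y) (g : G) : Adj V Z (cj g X) (cj g Y) := by
  obtain ⟨h1, h2, h3, M, h4, h5, h6⟩ := h
  exact ⟨h1.cj g, h2.cj g, fun e => h3 (cj_inj.1 e), PT.cj g M, h4.cj g, cj_le_cj.2 h5, cj_le_cj.2 h6⟩

theorem Com.symm (h : Com V X Y) : Com V Y X := comm_symm h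

theorem Com.cj (h : Com V X Y) (g : G) : Com V (cj g X) (cj g Y) := by
  rw [Com, ws_cj, ws_cj]
  exact conj_le_centralizer h

theorem com_cj {g : G} : Com V (cj g X) (cj g Y) ↔ Com V X Y := by
  refine ⟨fun h => ?_, fun h => h.cj g⟩
  have := h.cj g⁻¹
  rwa [cj_cj, cj_cj, inv_mul_cancel, cj_one, cj_one] at this

theorem Cr.symm (h : Cr V Z X R Y) : Cr V Z Y R X := ⟨h.r.symm, h.l.symm, fun e => h.ne e.symm⟩

theorem Cr.cj (h : Cr V Z X R Y) (g : G) : Cr V Z (cj g X) (cj g R) (cj g Y) :=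
  ⟨h.l.cj g, h.r.cj g, fun e => h.ne (com_cj.1 e)⟩

theorem UU_cj (V Z R : Subgroup G) (g : G) : UU V Z (cj g R) = cj g (UU V Z R) := by
  have key : ∀ (g : G) (R : Subgroup G), cj g (UU V Z R) ≤ UU V Z (cj g R) := by
    intro g R
    rw [cj_le_iff]
    refine sSup_le ?_
    rintro _ ⟨A, hA, rfl⟩
    rw [le_cj_iff, inv_inv, ← ws_cj]
    exact le_sSup ⟨_, hA.cj g, rfl⟩
  refine le_antisymm ?_ (key g R)
  have h1 := key g⁻¹ (cj g R)
  rw [cj_cj, inv_mul_cancel, cj_one, cj_le_iff, inv_inv] at h1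
  exact h1

theorem le_UU (h : Adj V Z X R) : ws V X ≤ UU V Z R := le_sSup ⟨X, h, rfl⟩

/-- `N_G(R)` normalises `UU R`. -/
theorem normalizer_le_UU (V Z R : Subgroup G) : normalizer (R : Set G) ≤ normalizer ((UU V Z R : Subgroup G) : Set G) := by
  intro g hg
  rw [← cj_eq_iff] at hg ⊢
  rw [← UU_cj, hg]

/-- a family of 2-groups which normalise each other generates a 2-group -/
theorem isPGroup_sSup [Finite G] (F : Set (Subgroup G)) (h2 : ∀ A ∈ F, IsPGroup 2 A)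
    (hn : ∀ A ∈ F, ∀ B ∈ F, A ≤ normalizer (B : Set G)) : IsPGroup 2 (sSup F : Subgroup G) := by
  classical
  have hfin : F.Finite := Set.toFinite F
  have key : ∀ s : Finset (Subgroup G), (s : Set (Subgroup G)) ⊆ F → IsPGroup 2 (s.sup id : Subgroup G) := by
    intro s
    induction s using Finset.induction_on with
    | empty =>
      intro _
      rw [Finset.sup_empty]
      exact IsPGroup.of_bot
    | insert A s hA ih =>
      intro hs
      rw [Finset.coe_insert, Set.insert_subset_iff] at hs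
      rw [Finset.sup_insert, id, sup_comm]
      refine (ih hs.2).to_sup_of_normal_right' (h2 A hs.1) ?_
      rw [Finset.sup_le_iff]
      exact fun B hB => hn B (hs.2 hB) A hs.1
  have h1 : sSup F = hfin.toFinset.sup id := by
    rw [Finset.sup_id_eq_sSup, Set.Finite.coe_toFinset]
  rw [h1]
  exact key _ (by rw [Set.Finite.coe_toFinset])

/-! ### The hypotheses -/

/-- **The hypotheses**: natural lines, (F1), `Ω₁(Z(C_S(V))) ≤ V`, critical distance at least 2. -/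
structure Mid [Finite G] (S : Sylow 2 G) (P V Z : Subgroup G) : Prop where
  pl : PL S P V Z
  hf : ¬ kx V Z ≤ centralizer (V : Set G)
  hO : OmQ S V
  com : ∀ X Y, Adj V Z X Y → Com V X Y

namespace Mid

variable [Finite G] {S : Sylow 2 G} {P : Subgroup G}

theorem omQ_conj (hO : OmQ S V) (g : G) : OmQ (g • S) (cj g V) := by
  intro y hy hy1 hy2 hy3
  rw [mem_cj]
  refine hO _ (mem_cj.1 hy) ?_ ?_ fun s hs hs1 => ?_
  · rw [← cj_centralizer, mem_cj] at hy1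
    exact hy1
  · calc g⁻¹ * y * g * (g⁻¹ * y * g) = g⁻¹ * (y * y) * g := by group
      _ = 1 := by rw [hy2]; group
  · have h1 := hy3 _ (conj_mem_cj (g := g) hs) (by
      rw [← cj_centralizer]
      exact conj_mem_cj hs1)
    have h2 := congrArg (fun t => g⁻¹ * t * g) h1
    simpa [mul_assoc] using h2

theorem conj (h : Mid S P V Z) (g : G) : Mid (g • S) (cj g P) (cj g V) (cj g Z) where
  pl := h.pl.conj g
  hf := by
    rw [kx_cj_left, kx_cj, ← cj_centralizer, cj_le_cj]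
    exact h.hf
  hO := omQ_conj h.hO g
  com X Y hXY := by
    have h1 : Adj V Z X Y := (adj_iff (V := V) (Z := Z) ⟨g, rfl⟩ ⟨g, rfl⟩).1 hXY
    exact (com_iff (V := V) ⟨g, rfl⟩).2 (h.com X Y h1)

variable (h : Mid S P V Z)
include h

/-- **every flag is as good as `(Z, V)`** -/
theorem exists_conj {X L : Subgroup G} (hX : IsCj Z X) (hL : IsCj V L) (hXL : X ≤ L) :
    ∃ g : G, X = cj g Z ∧ L = cj g V := by
  obtain ⟨g, rfl⟩ := hL
  have h1 : cj g⁻¹ X ≤ V := by rwa [cj_le_iff, inv_inv]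
  obtain ⟨p, hp, hpX⟩ := h.pl.exists_pt (hX.cj g⁻¹) h1
  refine ⟨g * p, ?_, ?_⟩
  · rw [← cj_cj, ← hpX, cj_cj, mul_inv_cancel, cj_one]
  · rw [← cj_cj, cj_eq_iff.2 (h.pl.PN hp)]

/-- **every flag is as good as `(Z, V)`** -/
theorem flag {X L : Subgroup G} (hX : IsCj Z X) (hL : IsCj V L) (hXL : X ≤ L) :
    ∃ (T : Sylow 2 G) (Q : Subgroup G), Mid T Q L X := by
  obtain ⟨g, rfl, rfl⟩ := h.exists_conj hX hL hXL
  exact ⟨g • S, cj g P, h.conj g⟩

/-- two flags are conjugate -/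
theorem exists_conj₂ {X L X' L' : Subgroup G} (hX : IsCj Z X) (hL : IsCj V L) (hXL : X ≤ L) (hX' : IsCj Z X')
    (hL' : IsCj V L') (hXL' : X' ≤ L') : ∃ g : G, X' = cj g X ∧ L' = cj g L := by
  obtain ⟨g, rfl, rfl⟩ := h.exists_conj hX hL hXL
  obtain ⟨g', rfl, rfl⟩ := h.exists_conj hX' hL' hXL'
  exact ⟨g' * g⁻¹, by rw [cj_cj, inv_mul_cancel_right], by rw [cj_cj, inv_mul_cancel_right]⟩

/-- every point is on a line -/
theorem exists_line (hX : IsCj Z X) : ∃ L, IsCj V L ∧ X ≤ L := by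
  obtain ⟨g, rfl⟩ := hX
  exact ⟨cj g V, ⟨g, rfl⟩, cj_le_cj.2 h.pl.ZV⟩

theorem card_line (hL : IsCj V L) : Nat.card L = Nat.card V := by
  obtain ⟨g, rfl⟩ := hL
  exact card_cj g V

/-- two points are on at most one line -/
theorem line_unique {M : Subgroup G} (hX : IsCj Z X) (hY : IsCj Z Y) (hne : X ≠ Y) (hL : IsCj V L) (hM : IsCj V M)
    (h1 : X ≤ L) (h2 : Y ≤ L) (h3 : X ≤ M) (h4 : Y ≤ M) : L = M := by
  obtain ⟨T, Q, h'⟩ := h.flag hX hL h1
  have hle : L ≤ M := by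
    intro v hv
    obtain ⟨x, hx, y, hy, rfl⟩ := h'.pl.exists_mul h'.pl.isCj_self h1 ((isCj_iff hX).2 hY) h2 hne hv
    exact mul_mem (h3 hx) (h4 hy)
  exact Subgroup.eq_of_le_of_card_ge hle (by rw [h.card_line hL, h.card_line hM])

/-- a second point on a line -/
theorem exists_second (hX : IsCj Z X) (hL : IsCj V L) (hXL : X ≤ L) : ∃ Y, IsCj Z Y ∧ Y ≤ L ∧ Y ≠ X := by
  obtain ⟨T, Q, h'⟩ := h.flag hX hL hXL
  obtain ⟨Y, h1, h2, h3⟩ := h'.pl.exists_second h'.pl.isCj_self hXL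
  exact ⟨Y, (isCj_iff hX).1 h1, h2, h3⟩

/-- a third point on a line -/
theorem exists_third (hX : IsCj Z X) (hY : IsCj Z Y) (hL : IsCj V L) (hXL : X ≤ L) (hYL : Y ≤ L) (hne : X ≠ Y) :
    ∃ T, IsCj Z T ∧ T ≤ L ∧ T ≠ X ∧ T ≠ Y := by
  obtain ⟨_, Q, h'⟩ := h.flag hX hL hXL
  obtain ⟨T, h1, h2, h3⟩ := h'.pl.exists_third h'.pl.isCj_self hXL ((isCj_iff hX).2 hY) hYL hne
  exact ⟨T, (isCj_iff hX).1 h1, h2, h3⟩

/-- every nontrivial element of a line is in a point -/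
theorem exists_point (hL : IsCj V L) {v : G} (hv : v ∈ L) (hv1 : v ≠ 1) : ∃ X, IsCj Z X ∧ X ≤ L ∧ v ∈ X := by
  obtain ⟨g, rfl⟩ := hL
  obtain ⟨X, h1, h2, h3⟩ := (h.conj g).pl.exists_point hv hv1
  exact ⟨X, isCj_cj.1 h1, h2, h3⟩

theorem line_le (hL : IsCj V L) (hXL : X ≤ L) : L ≤ ws V X := le_ws hL hXL

theorem pt_ne_bot (hX : IsCj Z X) : ∃ x ∈ X, x ≠ 1 := h.pl.pt_ne_bot hX

theorem pts_eq (hX : IsCj Z X) (hY : IsCj Z Y) {z : G} (hz : z ∈ X) (hz' : z ∈ Y) (hz1 : z ≠ 1) : X = Y :=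
  h.pl.pts_eq hX hY hz hz' hz1

theorem com_self (hX : IsCj Z X) : Com V X X := h.pl.ws_comm hX

theorem ws_sq (hX : IsCj Z X) {w : G} (hw : w ∈ ws V X) : w * w = 1 := by
  obtain ⟨g, rfl⟩ := hX
  have h1 := (h.conj g).pl.ws_sq
  rw [ws_cj_left] at h1
  exact h1 w hw

theorem ws_comm (hX : IsCj Z X) {a b : G} (ha : a ∈ ws V X) (hb : b ∈ ws V X) : a * b = b * a :=
  (mem_centralizer_iff.1 (h.com_self hX ha) b hb).symm

theorem isPGroup_ws (hX : IsCj Z X) : IsPGroup 2 (ws V X) := fun w => ⟨1, by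
  rw [pow_one, pow_two]; exact Subtype.ext (h.ws_sq hX w.2)⟩

theorem pt_le_ws (hX : IsCj Z X) : X ≤ ws V X := by
  obtain ⟨L, hL, hXL⟩ := h.exists_line hX
  exact hXL.trans (le_ws hL hXL)

theorem adj_le_ws (hXY : Adj V Z X Y) : Y ≤ ws V X := by
  obtain ⟨h1, h2, h3, M, h4, h5, h6⟩ := hXY
  exact h6.trans (le_ws h4 h5)

/-- `W_X` commutes with `B` if `X ~ R ~ B` or `B = R` .. -/
theorem ws_le_cent (hXR : Adj V Z X R) (hRY : Adj V Z R Y) : ws V X ≤ centralizer (Y : Set G) :=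
  (h.com X R hXR).trans (centralizer_le (h.adj_le_ws hRY))

theorem ws_le_cent' (hXR : Adj V Z X R) : ws V X ≤ centralizer (R : Set G) :=
  (h.com X R hXR).trans (centralizer_le (h.pt_le_ws hXR.right))

theorem ws_norm (hXR : Adj V Z X R) (hRY : Adj V Z R Y) : ws V X ≤ normalizer ((ws V Y : Subgroup G) : Set G) :=
  (h.ws_le_cent hXR hRY).trans ((centralizer_le_normalizer _).trans (normalizer_le_ws V Y))

/-! ### (0.1) -/

/-- the `W_A`, `A ~ R`, normalise each other -/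
theorem ws_norm_ws {A B : Subgroup G} (hA : Adj V Z A R) (hB : Adj V Z B R) :
    ws V A ≤ normalizer ((ws V B : Subgroup G) : Set G) := h.ws_norm hA hB.symm

theorem isPGroup_UU (R : Subgroup G) : IsPGroup 2 (UU V Z R) := by
  refine isPGroup_sSup _ ?_ ?_
  · rintro _ ⟨A, hA, rfl⟩
    exact h.isPGroup_ws hA.left
  · rintro _ ⟨A, hA, rfl⟩ _ ⟨B, hB, rfl⟩
    exact h.ws_norm_ws hA hB

/-- **(0.1)** `U_R` centralises `W_R` -/
theorem UU_le_centralizer (R : Subgroup G) : UU V Z R ≤ centralizer ((ws V R : Subgroup G) : Set G) := by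
  refine sSup_le ?_
  rintro _ ⟨A, hA, rfl⟩
  exact h.com A R hA

theorem UU_le_cent_pt (hR : IsCj Z R) : UU V Z R ≤ centralizer (R : Set G) :=
  (h.UU_le_centralizer R).trans (centralizer_le (h.pt_le_ws hR))

/-- `U_R` normalises every `W_B`, `B ~ R` -/
theorem UU_norm {B : Subgroup G} (hB : Adj V Z B R) : UU V Z R ≤ normalizer ((ws V B : Subgroup G) : Set G) := by
  refine sSup_le ?_
  rintro _ ⟨A, hA, rfl⟩
  exact h.ws_norm_ws hA hB

/-- `U_R` centralises every point `B ~ R` -/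
theorem UU_le_cent_adj {B : Subgroup G} (hB : Adj V Z B R) : UU V Z R ≤ centralizer (B : Set G) :=
  (h.UU_le_centralizer R).trans (centralizer_le (h.adj_le_ws hB.symm))

/-- **(0.1)** `U_R ≤ O₂(N_G(R))` -/
theorem UU_le_o2 (hR : IsCj Z R) : UU V Z R ≤ o2 (normalizer (R : Set G)) :=
  le_o2 ((h.UU_le_cent_pt hR).trans (centralizer_le_normalizer _)) (h.isPGroup_UU R)
    (normalizer_le_UU V Z R)

/-- `W_R ≤ U_R` -/
theorem ws_le_UU (hR : IsCj Z R) : ws V R ≤ UU V Z R := by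
  refine ws_le fun L hL hRL => ?_
  obtain ⟨Y, hY, hYL, hYR⟩ := h.exists_second hR hL hRL
  exact (le_ws hL hYL).trans (le_UU ⟨hY, hR, hYR, L, hL, hYL, hRL⟩)

/-! ### Stabilisers of lines modulo a point -/

/-- `K_X` is transitive on the points `≠ X` of a line on `X` -/
theorem K_trans {A B : Subgroup G} (hX : IsCj Z X) (hL : IsCj V L) (hXL : X ≤ L) (hA : IsCj Z A) (hAL : A ≤ L)
    (hB : IsCj Z B) (hBL : B ≤ L) (hAX : A ≠ X) (hBX : B ≠ X) : ∃ k ∈ kx V X, cj k A = B := by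
  obtain ⟨T, Q, h'⟩ := h.flag hX hL hXL
  obtain ⟨k, hk, -, hkA⟩ := h'.pl.K_trans h'.hf ((isCj_iff hX).2 hA) hAL ((isCj_iff hX).2 hB) hBL hAX hBX
  rw [kx_of hL] at hk
  exact ⟨k, hk, hkA⟩

/-- `K_X` maps `v ∈ L - X` to every element of `X v` -/
theorem K_act (hX : IsCj Z X) (hL : IsCj V L) (hXL : X ≤ L) {v x : G} (hv : v ∈ L) (hvX : v ∉ X) (hx : x ∈ X) :
    ∃ k ∈ kx V X, k * v * k⁻¹ * v⁻¹ = x := by
  obtain ⟨T, Q, h'⟩ := h.flag hX hL hXL
  obtain ⟨k, hk, -, hkv⟩ := h'.pl.K_act h'.hf hv hvX hx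
  rw [kx_of hL] at hk
  exact ⟨k, hk, hkv⟩

/-- an element of `N_G(X)` fixing `v ∈ L - X` modulo `X` fixes the line `L` -/
theorem stab (hX : IsCj Z X) (hL : IsCj V L) (hXL : X ≤ L) {g v : G} (hg : g ∈ normalizer (X : Set G)) (hv : v ∈ L)
    (hvX : v ∉ X) (hgv : g * v * g⁻¹ ∈ L) : cj g L = L := by
  have hv1 : v ≠ 1 := fun e => hvX (e ▸ one_mem _)
  obtain ⟨T, hT, hTL, hvT⟩ := h.exists_point hL hv hv1
  obtain ⟨T', hT', hTL', hvT'⟩ := h.exists_point hL hgv (by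
    intro e
    exact hv1 (conj_eq_one_iff.1 e))
  have h1 : cj g T = T' := h.pts_eq (hT.cj g) hT' (conj_mem_cj hvT) hvT' (fun e => hv1 (conj_eq_one_iff.1 e))
  have h2 : cj g X = X := cj_eq_iff.2 hg
  have hne : X ≠ T' := by
    intro e
    rw [← h1, ← h2] at e
    exact hvX ((cj_inj.1 e) ▸ hvT)
  exact h.line_unique hX hT' hne (hL.cj g) hL (by rw [← h2]; exact cj_le_cj.2 hXL) (by rw [← h1]; exact cj_le_cj.2 hTL)
    hXL hTL'

/-- **(0.1), (F4)** an element of `N_G(X)` fixing `v ∈ L - X` modulo `X` is a product of an element of `K_X` and an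
element of `N_G(X)` which fixes the line `L` and the point `Y` of `L`. -/
theorem stab_pt (hX : IsCj Z X) (hL : IsCj V L) (hXL : X ≤ L) (hY : IsCj Z Y) (hYL : Y ≤ L) (hYX : Y ≠ X) {g v : G}
    (hg : g ∈ normalizer (X : Set G)) (hv : v ∈ L) (hvX : v ∉ X) (hgv : g * v * g⁻¹ ∈ L) :
    ∃ k ∈ kx V X, cj (k * g) L = L ∧ cj (k * g) Y = Y := by
  have h1 := h.stab hX hL hXL hg hv hvX hgv
  have h2 : cj g Y ≤ L := by rw [← h1]; exact cj_le_cj.2 hYL
  obtain ⟨k, hk, hkY⟩ := h.K_trans hX hL hXL (hY.cj g) h2 hY hYL (by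
    intro e
    rw [← cj_eq_iff.2 hg] at e
    exact hYX (cj_inj.1 e)) hYX
  refine ⟨k, hk, ?_, ?_⟩
  · rw [← cj_cj, h1, cj_eq_iff]
    exact kx_normalizes hXL (le_ws hL hXL) hk
  · rw [← cj_cj, hkY]

/-! ### Critical pairs -/

theorem cr_ne (hc : Cr V Z X R Y) : X ≠ Y := by
  rintro rfl
  exact hc.ne (h.com_self hc.l.left)

theorem cr_not_adj (hc : Cr V Z X R Y) : ¬ Adj V Z X Y := fun e => hc.ne (h.com X Y e)

/-- the line `RY` does not contain `X` -/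
theorem cr_not_le (hc : Cr V Z X R Y) (hL : IsCj V L) (hYL : Y ≤ L) : ¬ X ≤ L := fun e =>
  h.cr_not_adj hc ⟨hc.l.left, hc.r.right, h.cr_ne hc, L, hL, e, hYL⟩

theorem cr_norm (hc : Cr V Z X R Y) : ws V X ≤ normalizer ((ws V Y : Subgroup G) : Set G) := h.ws_norm hc.l hc.r

/-- `I_L` for the line `L` on the points `A ≠ B` -/
theorem inf_ws {A B A' B' : Subgroup G} (hL : IsCj V L) (hA : IsCj Z A) (hB : IsCj Z B) (hA' : IsCj Z A')
    (hB' : IsCj Z B') (hAL : A ≤ L) (hBL : B ≤ L) (hAL' : A' ≤ L) (hBL' : B' ≤ L) (hne : A ≠ B) (hne' : A' ≠ B') :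
    ws V A ⊓ ws V B = ws V A' ⊓ ws V B' := by
  obtain ⟨T, Q, h'⟩ := h.flag hA hL hAL
  have h1 := h'.pl.IV_eq h'.hf h'.pl.isCj_self hAL ((isCj_iff hA).2 hB) hBL hne
  have h2 := h'.pl.IV_eq h'.hf ((isCj_iff hA).2 hA') hAL' ((isCj_iff hA).2 hB') hBL' hne'
  rw [ws_of hL, ws_of hL] at h1 h2
  rw [h1, h2]

/-- `W_A ∩ W_B ≤ W_C` for three points of a line, `A ≠ B` -/
theorem inf_le {A B C : Subgroup G} (hL : IsCj V L) (hA : IsCj Z A) (hB : IsCj Z B) (hC : IsCj Z C)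
    (hAL : A ≤ L) (hBL : B ≤ L) (hCL : C ≤ L) (hne : A ≠ B) : ws V A ⊓ ws V B ≤ ws V C := by
  by_cases h1 : A = C
  · rw [← h1]; exact inf_le_left
  · rw [h.inf_ws hL hA hB hA hC hAL hBL hAL hCL hne h1]
    exact inf_le_right

/-- **(F2)**: `u ∈ I_L - L`; any two points of `L` are interchanged by a 2-element centralising `u` which fixes `L`
and lies in `⟨K_X : X ≤ L⟩`. -/
theorem F2_swap {A B C D : Subgroup G} (hL : IsCj V L) (hA : IsCj Z A) (hB : IsCj Z B) (hAL : A ≤ L) (hBL : B ≤ L)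
    (hne : A ≠ B) (hC : IsCj Z C) (hD : IsCj Z D) (hCL : C ≤ L) (hDL : D ≤ L) {u : G} (hu : u ∈ ws V A)
    (hu' : u ∈ ws V B) (huL : u ∉ L) :
    ∃ x : G, TwoEl x ∧ x * u = u * x ∧ cj x C = D ∧ cj x D = C ∧ cj x L = L ∧
      ∀ w ∈ ws V A ⊓ ws V B, x * w * x⁻¹ * w⁻¹ ∈ L := by
  obtain ⟨T, Q, h'⟩ := h.flag hA hL hAL
  have h1 := h'.pl.IV_eq h'.hf h'.pl.isCj_self hAL ((isCj_iff hA).2 hB) hBL hne
  rw [ws_of hL, ws_of hL] at h1
  obtain ⟨x, hx, hx2, hxu, hxC, hxD⟩ := h'.pl.F2_swap h'.hf h'.hO (by rw [← h1]; exact ⟨hu, hu'⟩) huL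
    ((isCj_iff hA).2 hC) hCL ((isCj_iff hA).2 hD) hDL
  refine ⟨x, hx2, hxu, hxC, hxD, cj_eq_iff.2 (h'.pl.XV_le_N hx), fun w hw => ?_⟩
  rw [h1] at hw
  exact h'.pl.XV_act hx hw

/-- **(STAR)**, (0.2): `X ∩ W_Y = 1` for a critical pair. -/
theorem star (hc : Cr V Z X R Y) {u : G} (hu : u ∈ X) (hu' : u ∈ ws V Y) : u = 1 := by
  by_contra hu1
  obtain ⟨M, hM, hRM, hYM⟩ := hc.r.line
  have hXM : ¬ X ≤ M := h.cr_not_le hc hM hYM
  obtain ⟨T, Q, h'⟩ := h.flag hc.r.left hM hRM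
  have hR := hc.r.left
  have h1 := h'.pl.IV_eq h'.hf h'.pl.isCj_self hRM ((isCj_iff hR).2 hc.r.right) hYM hc.r.ne
  rw [ws_of hM, ws_of hM] at h1
  have h2 := h'.pl.star h'.hf h'.hO ((isCj_iff hR).2 hc.l.left) hXM ((isCj_iff hR).2 hR) hRM
    ((isCj_iff hR).2 hc.r.right) hYM hu hu1 (by
      rw [← h1]
      exact ⟨h.adj_le_ws hc.l.symm hu, hu'⟩) (by
      rw [ws_of hM, ws_of hM]
      exact h.com X R hc.l)
  rw [ws_of hM, ws_of hM] at h2
  exact hc.ne h2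

theorem star' (hc : Cr V Z X R Y) {u : G} (hu : u ∈ Y) (hu' : u ∈ ws V X) : u = 1 := h.star hc.symm hu hu'

/-- `[a, b] ∈ W_X ∩ W_Y` for `a ∈ W_X`, `b ∈ W_Y` -/
theorem comm_mem (hc : Cr V Z X R Y) {a b : G} (ha : a ∈ ws V X) (hb : b ∈ ws V Y) :
    a * b * a⁻¹ * b⁻¹ ∈ ws V X ⊓ ws V Y := by
  have h1 := (mem_normalizer_iff.1 (h.cr_norm hc ha) b).1 hb
  have h2 := (mem_normalizer_iff.1 (h.cr_norm hc.symm hb) a⁻¹).1 (inv_mem ha)
  refine ⟨?_, (ws V Y).mul_mem h1 ((ws V Y).inv_mem hb)⟩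
  have e : a * b * a⁻¹ * b⁻¹ = a * (b * a⁻¹ * b⁻¹) := by group
  rw [e]
  exact (ws V X).mul_mem ha h2

/-- **(0.3)** an element of `W_Y` which centralises `W_X` modulo `X` centralises `W_X` -/
theorem cent_of_mod (hc : Cr V Z X R Y) {w : G} (hw : w ∈ ws V Y)
    (hwX : ∀ x ∈ ws V X, w * x * w⁻¹ * x⁻¹ ∈ X) : ∀ x ∈ ws V X, w * x = x * w := by
  intro x hx
  have h1 := (h.comm_mem hc.symm hw hx).1
  have h2 := h.star hc (hwX x hx) h1
  rwa [mul_inv_eq_one, mul_inv_eq_iff_eq_mul] at h2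

/-- **(0.3)** an element of `W_X` which is centralised modulo `X` by `W_Y` is centralised by `W_Y` -/
theorem cent_of_mod' (hc : Cr V Z X R Y) {x : G} (hx : x ∈ ws V X)
    (hxX : ∀ w ∈ ws V Y, w * x * w⁻¹ * x⁻¹ ∈ X) : ∀ w ∈ ws V Y, w * x = x * w := by
  intro w hw
  have h1 := (h.comm_mem hc.symm hw hx).1
  have h2 := h.star hc (hxX w hw) h1
  rwa [mul_inv_eq_one, mul_inv_eq_iff_eq_mul] at h2

/-- `W_Y ∩ K_X = C_{W_Y}(W_X)` -/
theorem inf_kx (hc : Cr V Z X R Y) :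
    ws V Y ⊓ kx V X = ws V Y ⊓ centralizer ((ws V X : Subgroup G) : Set G) := by
  apply le_antisymm
  · rintro w ⟨hw, hwK⟩
    refine ⟨hw, mem_centralizer_iff.2 fun x hx => ?_⟩
    exact (h.cent_of_mod hc hw (mem_kx.1 hwK).2 x hx).symm
  · rintro w ⟨hw, hwC⟩
    refine ⟨hw, mem_kx.2 ⟨fun x hx => ?_, fun x hx => ?_⟩⟩
    · exact (mem_centralizer_iff.1 hwC x (h.pt_le_ws hc.l.left hx)).symm
    · have h1 := mem_centralizer_iff.1 hwC x hx
      have e : w * x * w⁻¹ * x⁻¹ = 1 := by rw [← h1]; group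
      rw [e]
      exact one_mem _

/-- the commutator group `R(X, Y) = [W_X, W_Y]` -/
theorem comm_le (hc : Cr V Z X R Y) : ⁅ws V X, ws V Y⁆ ≤ ws V X ⊓ ws V Y := by
  rw [commutator_le]
  intro a ha b hb
  exact h.comm_mem hc ha hb

theorem comm_inf_left (hc : Cr V Z X R Y) : ⁅ws V X, ws V Y⁆ ⊓ X = ⊥ := by
  rw [eq_bot_iff]
  rintro u ⟨hu, hu'⟩
  exact mem_bot.2 (h.star hc hu' (h.comm_le hc hu).2)

theorem comm_inf_right (hc : Cr V Z X R Y) : ⁅ws V X, ws V Y⁆ ⊓ Y = ⊥ := by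
  rw [eq_bot_iff]
  rintro u ⟨hu, hu'⟩
  exact mem_bot.2 (h.star' hc hu' (h.comm_le hc hu).1)

end Mid

end Cfsg.Agent.Omega.NO3S.MidQ

end

section


/-!
# NO-3S, natural lines, critical distance 2: LEMMA F (TEXT 426-1, bb OMEGA #15163, section 1)

* `Mid.lemF` : a subgroup `E X L` attached canonically to the flags `(X, L)`, `X ≤ E X L ≤ I_L`, `E X L ∩ Y = 1` for
  the points `Y ≠ X` of `L`, is `X`;
* `Mid.lemF_flag` : so `C_{I_L / X}(N X L) = 1` if `N X L ≤ C_G(X)` is canonical and does not centralise `L / X`;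
* `Mid.lemF_pt` : the same if `N X ≤ C_G(X)` is canonical and `N X ≰ K_X`.
-/

set_option autoImplicit false
set_option linter.unusedSectionVars false

namespace Cfsg.Agent.Omega.NO3S.MidQ

open Subgroup Cfsg.Agent.Omega.NO3S.PT Cfsg.Agent.Omega.NoFF.Basic Cfsg.Agent.ZN
open scoped Pointwise

variable {G : Type*} [Group G] [Finite G] {S : Sylow 2 G} {P V Z X Y L : Subgroup G}

/-- a subgroup attached canonically to the flags -/
def FlagCan (V Z : Subgroup G) (E : Subgroup G → Subgroup G → Subgroup G) : Prop :=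
  ∀ (g : G) (X L : Subgroup G), IsCj Z X → IsCj V L → X ≤ L → E (cj g X) (cj g L) = cj g (E X L)

/-- a subgroup attached canonically to the points -/
def PtCan (Z : Subgroup G) (E : Subgroup G → Subgroup G) : Prop :=
  ∀ (g : G) (X : Subgroup G), IsCj Z X → E (cj g X) = cj g (E X)

theorem PtCan.flag {E : Subgroup G → Subgroup G} (h : PtCan Z E) (V : Subgroup G) : FlagCan V Z fun X _ => E X :=
  fun g X _ hX _ _ => h g X hX

/-- `{u ∈ C_G(X) : u ∈ W_Y for all points Y of L, [N, u] ≤ X}` -/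
def ff (V Z X L N : Subgroup G) : Subgroup G where
  carrier := {u | u ∈ centralizer (X : Set G) ∧ (∀ Y, IsCj Z Y → Y ≤ L → u ∈ ws V Y) ∧
    ∀ n ∈ N, n * u * n⁻¹ * u⁻¹ ∈ X}
  one_mem' := ⟨one_mem _, fun Y _ _ => one_mem _, fun n _ => by simp⟩
  mul_mem' := by
    rintro a b ⟨ha1, ha2, ha3⟩ ⟨hb1, hb2, hb3⟩
    refine ⟨mul_mem ha1 hb1, fun Y hY hYL => mul_mem (ha2 Y hY hYL) (hb2 Y hY hYL), fun n hn => ?_⟩
    have e : n * (a * b) * n⁻¹ * (a * b)⁻¹ = n * a * n⁻¹ * a⁻¹ * (a * (n * b * n⁻¹ * b⁻¹) * a⁻¹) := by group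
    have e2 : a * (n * b * n⁻¹ * b⁻¹) * a⁻¹ = n * b * n⁻¹ * b⁻¹ := by
      rw [← mem_centralizer_iff.1 ha1 _ (hb3 n hn), mul_inv_cancel_right]
    rw [e, e2]
    exact X.mul_mem (ha3 n hn) (hb3 n hn)
  inv_mem' := by
    rintro a ⟨ha1, ha2, ha3⟩
    refine ⟨inv_mem ha1, fun Y hY hYL => inv_mem (ha2 Y hY hYL), fun n hn => ?_⟩
    have e : n * a⁻¹ * n⁻¹ * a⁻¹⁻¹ = a⁻¹ * (n * a * n⁻¹ * a⁻¹)⁻¹ * a := by group
    have h1 := X.inv_mem (ha3 n hn)
    rw [e, mul_assoc, mem_centralizer_iff.1 ha1 _ h1, inv_mul_cancel_left]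
    exact h1

theorem mem_ff {V Z X L N : Subgroup G} {u : G} : u ∈ ff V Z X L N ↔ u ∈ centralizer (X : Set G) ∧
    (∀ Y, IsCj Z Y → Y ≤ L → u ∈ ws V Y) ∧ ∀ n ∈ N, n * u * n⁻¹ * u⁻¹ ∈ X := Iff.rfl

theorem ff_cj_le (V Z X L N : Subgroup G) (g : G) : cj g (ff V Z X L N) ≤ ff V Z (cj g X) (cj g L) (cj g N) := by
  intro u hu
  rw [mem_cj, mem_ff] at hu
  obtain ⟨h1, h2, h3⟩ := hu
  refine ⟨?_, fun Y hY hYL => ?_, fun n hn => ?_⟩
  · rw [← cj_centralizer, mem_cj]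
    exact h1
  · have h4 := h2 _ (hY.cj g⁻¹) (by rwa [cj_le_iff, inv_inv])
    rw [ws_cj, mem_cj] at h4
    have e : g⁻¹⁻¹ * (g⁻¹ * u * g) * g⁻¹ = u := by group
    rwa [e] at h4
  · have h4 := h3 _ (mem_cj.1 hn)
    rw [mem_cj]
    have e : g⁻¹ * (n * u * n⁻¹ * u⁻¹) * g =
      g⁻¹ * n * g * (g⁻¹ * u * g) * (g⁻¹ * n * g)⁻¹ * (g⁻¹ * u * g)⁻¹ := by group
    rwa [e]

theorem ff_cj (V Z X L N : Subgroup G) (g : G) : ff V Z (cj g X) (cj g L) (cj g N) = cj g (ff V Z X L N) := by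
  refine le_antisymm ?_ (ff_cj_le V Z X L N g)
  have h1 := ff_cj_le V Z (cj g X) (cj g L) (cj g N) g⁻¹
  rw [cj_cj, cj_cj, cj_cj, inv_mul_cancel, cj_one, cj_one, cj_one, cj_le_iff, inv_inv] at h1
  exact h1

namespace Mid

variable (h : Mid S P V Z)
include h

/-- **LEMMA F** -/
theorem lemF {E : Subgroup G → Subgroup G → Subgroup G} (hE : FlagCan V Z E)
    (h1 : ∀ X L, IsCj Z X → IsCj V L → X ≤ L → X ≤ E X L ∧ ∀ Y, IsCj Z Y → Y ≤ L → E X L ≤ ws V Y)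
    (h2 : ∀ X L, IsCj Z X → IsCj V L → X ≤ L → ∀ Y, IsCj Z Y → Y ≤ L → Y ≠ X → E X L ⊓ Y = ⊥)
    (hX : IsCj Z X) (hL : IsCj V L) (hXL : X ≤ L) : E X L = X := by
  refine le_antisymm ?_ (h1 X L hX hL hXL).1
  intro u hu
  by_contra huX
  have huL : ∀ v ∈ E X L, v ∉ X → v ∉ L := by
    intro v hv hvX hvL
    have hv1 : v ≠ 1 := fun e => hvX (e ▸ one_mem _)
    obtain ⟨Y, hY, hYL, hvY⟩ := h.exists_point hL hvL hv1
    have hYX : Y ≠ X := fun e => hvX (e ▸ hvY)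
    have h3 : v ∈ E X L ⊓ Y := ⟨hv, hvY⟩
    rw [h2 X L hX hL hXL Y hY hYL hYX, mem_bot] at h3
    exact hv1 h3
  obtain ⟨Y, hY, hYL, hYX⟩ := h.exists_second hX hL hXL
  -- `u` is in `E Y L`
  have key : ∀ v ∈ E X L, v ∉ X → v ∈ E Y L := by
    intro v hv hvX
    have hvW := (h1 X L hX hL hXL).2
    obtain ⟨g, -, hgv, hgX, -, hgL, -⟩ := h.F2_swap hL hX hY hXL hYL hYX.symm hX hY hXL hYL
      (hvW X hX hXL hv) (hvW Y hY hYL hv) (huL v hv hvX)
    rw [← hgX, ← hgL, hE g X L hX hL hXL, mem_cj, mul_assoc, ← hgv, inv_mul_cancel_left]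
    exact hv
  obtain ⟨c, hc, hc1⟩ := h.pt_ne_bot hX
  have h3 : u * c ∈ E X L := (E X L).mul_mem hu ((h1 X L hX hL hXL).1 hc)
  have h4 : u * c ∉ X := fun e => huX ((X.mul_mem_cancel_right hc).1 e)
  have h5 : c ∈ E Y L := ((E Y L).mul_mem_cancel_left (key u hu huX)).1 (key _ h3 h4)
  have h6 : c ∈ E Y L ⊓ X := ⟨h5, hc⟩
  rw [h2 Y L hY hL hYL X hX hXL hYX.symm, mem_bot] at h6
  exact hc1 h6

/-- (LIN) for an arbitrary flag -/
theorem lin (hX : IsCj Z X) (hL : IsCj V L) (hXL : X ≤ L) {g v : G} (hg : g ∈ centralizer (X : Set G))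
    (hv : v ∈ L) (hvX : v ∉ X) (hgv : g * v * g⁻¹ * v⁻¹ ∈ X) : ∀ u ∈ L, g * u * g⁻¹ * u⁻¹ ∈ X := by
  obtain ⟨T, Q, h'⟩ := h.flag hX hL hXL
  exact h'.pl.lin (fun z hz => (mem_centralizer_iff.1 hg z hz).symm) hv hvX hgv

/-- **LEMMA F**, the form for centralisers: `u ∈ I_L` centralised by `N X L` modulo `X` is in `X`. -/
theorem lemF_flag {N : Subgroup G → Subgroup G → Subgroup G} (hN : FlagCan V Z N)
    (hc : ∀ X L, IsCj Z X → IsCj V L → X ≤ L → N X L ≤ centralizer (X : Set G))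
    (hn : ∀ X L, IsCj Z X → IsCj V L → X ≤ L → ∃ n ∈ N X L, ∃ v ∈ L, n * v * n⁻¹ * v⁻¹ ∉ X)
    (hX : IsCj Z X) (hL : IsCj V L) (hXL : X ≤ L) (hY : IsCj Z Y) (hYL : Y ≤ L) (hYX : Y ≠ X) {u : G}
    (hu : u ∈ ws V X) (hu' : u ∈ ws V Y) (huN : ∀ n ∈ N X L, n * u * n⁻¹ * u⁻¹ ∈ X) : u ∈ X := by
  have hE : FlagCan V Z fun X L => ff V Z X L (N X L) := by
    intro g X L hX hL hXL
    show ff V Z (cj g X) (cj g L) (N (cj g X) (cj g L)) = cj g (ff V Z X L (N X L))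
    rw [hN g X L hX hL hXL]
    exact ff_cj V Z X L (N X L) g
  have key := h.lemF hE (X := X) (L := L) ?_ ?_ hX hL hXL
  · rw [← key]
    refine ⟨?_, fun T hT hTL => ?_, huN⟩
    · rw [mem_centralizer_iff]
      exact fun x hx => (h.ws_comm hX hu (h.pt_le_ws hX hx)).symm
    · exact h.inf_le hL hX hY hT hXL hYL hTL hYX.symm ⟨hu, hu'⟩
  · intro X L hX hL hXL
    refine ⟨fun x hx => ⟨?_, fun Y hY hYL => ?_, fun n hn => ?_⟩, fun Y hY hYL u hu => hu.2.1 Y hY hYL⟩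
    · rw [mem_centralizer_iff]
      exact fun y hy => h.ws_comm hX (h.pt_le_ws hX hy) (h.pt_le_ws hX hx)
    · exact (hXL.trans (le_ws hL hYL)) hx
    · have h1 := mem_centralizer_iff.1 (hc X L hX hL hXL hn) x hx
      rw [← h1, mul_inv_cancel_right, mul_inv_cancel]
      exact one_mem _
  · intro X L hX hL hXL Y hY hYL hYX
    rw [eq_bot_iff]
    intro y hy
    by_contra hy1
    rw [mem_bot] at hy1
    obtain ⟨n, hnN, v, hvL, hnv⟩ := hn X L hX hL hXL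
    exact hnv (h.lin hX hL hXL (hc X L hX hL hXL hnN) (hYL hy.2)
      (fun e => hYX (h.pts_eq hY hX hy.2 e hy1)) (hy.1.2.2 n hnN) v hvL)

/-- a canonical subgroup `N X ≤ C_G(X)` centralising `L / X` for one line `L` is in `K_X` -/
theorem le_kx_of_line {N : Subgroup G → Subgroup G} (hN : PtCan Z N) (hX : IsCj Z X) (hL : IsCj V L) (hXL : X ≤ L)
    (hc : N X ≤ centralizer (X : Set G)) (hn : ∀ n ∈ N X, ∀ v ∈ L, n * v * n⁻¹ * v⁻¹ ∈ X) : N X ≤ kx V X := by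
  intro n hnN
  have hnX := mem_centralizer_iff.1 (hc hnN)
  refine mem_kx.2 ⟨fun x hx => (hnX x hx).symm, ?_⟩
  -- the subgroup of `ws V X` centralised modulo `X`
  have key : ∀ M, IsCj V M → X ≤ M → ∀ v ∈ M, n * v * n⁻¹ * v⁻¹ ∈ X := by
    intro M hM hXM v hv
    obtain ⟨g, hg1, rfl⟩ := h.exists_conj₂ hX hL hXL hX hM hXM
    have h1 : g⁻¹ * n * g ∈ N X := by
      rw [← mem_cj, ← hN g X hX, ← hg1]
      exact hnN
    have h2 := hn _ h1 _ (mem_cj.1 hv)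
    rw [hg1, mem_cj]
    have e : g⁻¹ * (n * v * n⁻¹ * v⁻¹) * g =
      g⁻¹ * n * g * (g⁻¹ * v * g) * (g⁻¹ * n * g)⁻¹ * (g⁻¹ * v * g)⁻¹ := by group
    rwa [e]
  let E : Subgroup G :=
    { carrier := {w | w ∈ centralizer (X : Set G) ∧ n * w * n⁻¹ * w⁻¹ ∈ X}
      one_mem' := ⟨one_mem _, by simp⟩
      mul_mem' := by
        rintro a b ⟨ha1, ha3⟩ ⟨hb1, hb3⟩
        refine ⟨mul_mem ha1 hb1, ?_⟩
        have e : n * (a * b) * n⁻¹ * (a * b)⁻¹ = n * a * n⁻¹ * a⁻¹ * (a * (n * b * n⁻¹ * b⁻¹) * a⁻¹) := by group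
        have e2 : a * (n * b * n⁻¹ * b⁻¹) * a⁻¹ = n * b * n⁻¹ * b⁻¹ := by
          rw [← mem_centralizer_iff.1 ha1 _ hb3, mul_inv_cancel_right]
        rw [e, e2]
        exact X.mul_mem ha3 hb3
      inv_mem' := by
        rintro a ⟨ha1, ha3⟩
        refine ⟨inv_mem ha1, ?_⟩
        have e : n * a⁻¹ * n⁻¹ * a⁻¹⁻¹ = a⁻¹ * (n * a * n⁻¹ * a⁻¹)⁻¹ * a := by group
        have h1 := X.inv_mem ha3
        rw [e, mul_assoc, mem_centralizer_iff.1 ha1 _ h1, inv_mul_cancel_left]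
        exact h1 }
  have hE : ws V X ≤ E := by
    refine ws_le fun M hM hXM v hv => ⟨?_, key M hM hXM v hv⟩
    rw [mem_centralizer_iff]
    exact fun x hx => h.ws_comm hX (h.pt_le_ws hX hx) (h.line_le hM hXM hv)
  exact fun w hw => (hE hw).2

/-- **COROLLARY of LEMMA F**: `u ∈ I_L` centralised by `N X` modulo `X` is in `X`, if `N X ≤ C_G(X)` is canonical and
not contained in `K_X`. -/
theorem lemF_pt {N : Subgroup G → Subgroup G} (hN : PtCan Z N)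
    (hc : ∀ X, IsCj Z X → N X ≤ centralizer (X : Set G)) (hn : ∀ X, IsCj Z X → ¬ N X ≤ kx V X)
    (hX : IsCj Z X) (hL : IsCj V L) (hXL : X ≤ L) (hY : IsCj Z Y) (hYL : Y ≤ L) (hYX : Y ≠ X) {u : G}
    (hu : u ∈ ws V X) (hu' : u ∈ ws V Y) (huN : ∀ n ∈ N X, n * u * n⁻¹ * u⁻¹ ∈ X) : u ∈ X := by
  refine h.lemF_flag (hN.flag V) (fun X L hX _ _ => hc X hX) (fun X L hX hL hXL => ?_) hX hL hXL hY hYL hYX hu hu' huN
  by_contra hcon
  push Not at hcon
  exact hn X hX (h.le_kx_of_line hN hX hL hXL (hc X hX) hcon)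

end Mid

end Cfsg.Agent.Omega.NO3S.MidQ

end

section


/-!
# NO-3S, natural lines, critical distance 2: TYPE N, the basic facts (TEXT 426-2, bb OMEGA #16785, section 0)

`TypN V Z` : `[W_X, W_Y] ≤ R` for every critical pair `(X, Y)` with middle `R`.

* `Mid.mid_mem` : `[W_X, W_Y] ≤ R` for `X ~ R ~ Y`;
* `Mid.UU_comm`, `Mid.UU_sq` : (0.a) `[U_R, U_R] ≤ R`, `g² ∈ R` for `g ∈ U_R`;
* `Mid.UU_ws` : (0.b) `[U_A, W_R] ≤ A` for `A ~ R`;
* `Mid.mid_unique` : (0.c) the middle of a critical pair is unique;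
* `Mid.two_UU`, `Mid.comm_pt` : (T3) for elements of `U_R`.
-/

set_option autoImplicit false
set_option linter.unusedSectionVars false

namespace Cfsg.Agent.Omega.NO3S.MidQ

open Subgroup Cfsg.Agent.Omega.NO3S.PT Cfsg.Agent.Omega.NoFF.Basic Cfsg.Agent.ZN
open scoped Pointwise

variable {G : Type*} [Group G]

/-- **(N)** -/
def TypN (V Z : Subgroup G) : Prop :=
  ∀ X R Y, Cr V Z X R Y → ∀ a ∈ ws V X, ∀ b ∈ ws V Y, a * b * a⁻¹ * b⁻¹ ∈ R

variable [Finite G] {S : Sylow 2 G} {P V Z X Y R A B L : Subgroup G}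

namespace Mid

theorem comm_one {a b : G} (h : a * b = b * a) : a * b * a⁻¹ * b⁻¹ = 1 := by rw [h]; group

theorem comm_eq {a b : G} (h : a * b * a⁻¹ * b⁻¹ = 1) : a * b = b * a := by
  rwa [mul_inv_eq_one, mul_inv_eq_iff_eq_mul] at h

variable (h : Mid S P V Z)
include h

theorem adj_le_ws' (hXY : Adj V Z X Y) : X ≤ ws V Y := h.adj_le_ws hXY.symm

/-- elements of `U_R` are 2-elements -/
theorem two_UU {g : G} (hg : g ∈ UU V Z R) : TwoEl g := by
  obtain ⟨n, hn⟩ := h.isPGroup_UU R ⟨g, hg⟩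
  exact ⟨n, by simpa using congrArg Subtype.val hn⟩

theorem two_ws (hX : IsCj Z X) {g : G} (hg : g ∈ ws V X) : TwoEl g := ⟨1, by
  rw [pow_one, pow_two]; exact h.ws_sq hX hg⟩

/-- **(T3)** -/
theorem comm_pt (hX : IsCj Z X) {g z : G} (hg : TwoEl g) (hz : z ∈ X) (hz1 : z ≠ 1) (hgz : g * z = z * g) :
    ∀ x ∈ X, g * x = x * g := h.pl.two_comm' hX hg hz hz1 hgz

/-- an element commuting with an element of `X#` normalises `X` -/
theorem fix_of_comm (hX : IsCj Z X) {g z : G} (hz : z ∈ X) (hz1 : z ≠ 1) (hgz : g * z = z * g) : cj g X = X := by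
  refine h.pts_eq (hX.cj g) hX (z := z) ?_ hz hz1
  rw [mem_cj, mul_assoc, ← hgz, inv_mul_cancel_left]
  exact hz

/-- **(T3)**: a 2-element normalising a point centralises it -/
theorem two_fix (hX : IsCj Z X) {g : G} (hg : TwoEl g) (hgX : cj g X = X) : ∀ x ∈ X, g * x = x * g := by
  obtain ⟨x, rfl⟩ := hX
  exact (h.conj x).pl.two_cent hg (cj_eq_iff.1 hgX)

theorem pt_sq (hX : IsCj Z X) {x : G} (hx : x ∈ X) : x * x = 1 := h.ws_sq hX (h.pt_le_ws hX hx)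

theorem ws_inv (hX : IsCj Z X) {w : G} (hw : w ∈ ws V X) : w⁻¹ = w :=
  inv_eq_of_mul_eq_one_left (h.ws_sq hX hw)

theorem pt_inf (hX : IsCj Z X) (hY : IsCj Z Y) (hne : X ≠ Y) {u : G} (hu : u ∈ X) (hu' : u ∈ Y) : u = 1 := by
  by_contra hu1
  exact hne (h.pts_eq hX hY hu hu' hu1)

/-- the line through two points is their product -/
theorem line_eq (hX : IsCj Z X) (hY : IsCj Z Y) (hne : X ≠ Y) (hL : IsCj V L) (h1 : X ≤ L) (h2 : Y ≤ L) {v : G}
    (hv : v ∈ L) : ∃ x ∈ X, ∃ y ∈ Y, v = x * y := by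
  obtain ⟨T, Q, h'⟩ := h.flag hX hL h1
  obtain ⟨x, hx, y, hy, e⟩ := h'.pl.exists_mul h'.pl.isCj_self h1 ((isCj_iff hX).2 hY) h2 hne hv
  exact ⟨x, hx, y, hy, e⟩

theorem line_le_of (hX : IsCj Z X) (hY : IsCj Z Y) (hne : X ≠ Y) (hL : IsCj V L) (h1 : X ≤ L) (h2 : Y ≤ L)
    {H : Subgroup G} (hXH : X ≤ H) (hYH : Y ≤ H) : L ≤ H := by
  intro v hv
  obtain ⟨x, hx, y, hy, rfl⟩ := h.line_eq hX hY hne hL h1 h2 hv
  exact mul_mem (hXH hx) (hYH hy)

/-- `U_A` fixes `R` if `A ~ R` -/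
theorem UU_norm_UU (hA : Adj V Z A R) : UU V Z A ≤ normalizer ((UU V Z R : Subgroup G) : Set G) :=
  (h.UU_le_cent_adj hA.symm).trans ((centralizer_le_normalizer _).trans (normalizer_le_UU V Z R))

theorem UU_norm_ws (hA : Adj V Z A R) : UU V Z A ≤ normalizer ((ws V R : Subgroup G) : Set G) :=
  (h.UU_le_cent_adj hA.symm).trans ((centralizer_le_normalizer _).trans (normalizer_le_ws V R))

/-- `W_Y` normalises `W_X` and `U_X`.. if `X ~ R ~ Y` -/
theorem ws_norm_UU (hXR : Adj V Z X R) (hRY : Adj V Z R Y) : ws V X ≤ normalizer ((UU V Z Y : Subgroup G) : Set G) :=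
  (h.ws_le_cent hXR hRY).trans ((centralizer_le_normalizer _).trans (normalizer_le_UU V Z Y))

variable (hN : TypN V Z)
include hN

/-- `[W_X, W_Y] ≤ R` for `X ~ R ~ Y` -/
theorem mid_mem (hX : Adj V Z X R) (hY : Adj V Z R Y) {a b : G} (ha : a ∈ ws V X) (hb : b ∈ ws V Y) :
    a * b * a⁻¹ * b⁻¹ ∈ R := by
  by_cases hc : Com V X Y
  · rw [comm_one (mem_centralizer_iff.1 (hc ha) b hb).symm]
    exact one_mem _
  · exact hN X R Y ⟨hX, hY, hc⟩ a ha b hb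

/-- **(0.c)** the middle is unique -/
theorem mid_unique {R' : Subgroup G} (hc : Cr V Z X R Y) (h1 : Adj V Z X R') (h2 : Adj V Z R' Y) : R' = R := by
  by_contra hne
  refine hc.ne fun a ha => mem_centralizer_iff.2 fun b hb => ?_
  have h3 := h.mid_mem hN hc.l hc.r ha hb
  have h4 := h.mid_mem hN h1 h2 ha hb
  exact (comm_eq (h.pt_inf h1.right hc.l.right hne h4 h3)).symm

/-- **(0.a)** `[U_R, U_R] ≤ R` -/
theorem UU_comm (hR : IsCj Z R) {g k : G} (hg : g ∈ UU V Z R) (hk : k ∈ UU V Z R) : g * k * g⁻¹ * k⁻¹ ∈ R := by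
  have hcen : ∀ x ∈ R, ∀ u ∈ UU V Z R, u * x = x * u := fun x hx u hu =>
    (mem_centralizer_iff.1 (h.UU_le_cent_pt hR hu) x hx).symm
  -- first: one element in some `W_B`
  have step : ∀ B, Adj V Z B R → ∀ k ∈ ws V B, ∀ g ∈ UU V Z R, g * k * g⁻¹ * k⁻¹ ∈ R := by
    intro B hB k hk
    have hkU := le_UU hB hk
    let E : Subgroup G :=
      { carrier := {g | g ∈ centralizer (R : Set G) ∧ g * k * g⁻¹ * k⁻¹ ∈ R}
        one_mem' := ⟨one_mem _, by simp⟩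
        mul_mem' := by
          rintro a b ⟨ha, ha'⟩ ⟨hb, hb'⟩
          refine ⟨mul_mem ha hb, ?_⟩
          have e : a * b * k * (a * b)⁻¹ * k⁻¹ = a * (b * k * b⁻¹ * k⁻¹) * a⁻¹ * (a * k * a⁻¹ * k⁻¹) := by group
          rw [e, ← mem_centralizer_iff.1 ha _ hb', mul_inv_cancel_right]
          exact R.mul_mem hb' ha'
        inv_mem' := by
          rintro a ⟨ha, ha'⟩
          refine ⟨inv_mem ha, ?_⟩
          have e : a⁻¹ * k * a⁻¹⁻¹ * k⁻¹ = a⁻¹ * (a * k * a⁻¹ * k⁻¹)⁻¹ * a := by group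
          rw [e, mul_assoc, mem_centralizer_iff.1 ha _ (R.inv_mem ha'), inv_mul_cancel_left]
          exact R.inv_mem ha' }
    have hE : UU V Z R ≤ E := by
      refine sSup_le ?_
      rintro _ ⟨C, hC, rfl⟩ c hc
      exact ⟨h.UU_le_cent_pt hR (le_UU hC hc), h.mid_mem hN hC hB.symm hc hk⟩
    exact fun g hg => (hE hg).2
  let E : Subgroup G :=
    { carrier := {k | k ∈ centralizer (R : Set G) ∧ g * k * g⁻¹ * k⁻¹ ∈ R}
      one_mem' := ⟨one_mem _, by simp⟩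
      mul_mem' := by
        rintro a b ⟨ha, ha'⟩ ⟨hb, hb'⟩
        refine ⟨mul_mem ha hb, ?_⟩
        have e : g * (a * b) * g⁻¹ * (a * b)⁻¹ = g * a * g⁻¹ * a⁻¹ * (a * (g * b * g⁻¹ * b⁻¹) * a⁻¹) := by group
        rw [e, ← mem_centralizer_iff.1 ha _ hb', mul_inv_cancel_right]
        exact R.mul_mem ha' hb'
      inv_mem' := by
        rintro a ⟨ha, ha'⟩
        refine ⟨inv_mem ha, ?_⟩
        have e : g * a⁻¹ * g⁻¹ * a⁻¹⁻¹ = a⁻¹ * (g * a * g⁻¹ * a⁻¹)⁻¹ * a := by group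
        rw [e, mul_assoc, mem_centralizer_iff.1 ha _ (R.inv_mem ha'), inv_mul_cancel_left]
        exact R.inv_mem ha' }
  have hE : UU V Z R ≤ E := by
    refine sSup_le ?_
    rintro _ ⟨C, hC, rfl⟩ c hc
    exact ⟨h.UU_le_cent_pt hR (le_UU hC hc), step C hC c hc g hg⟩
  exact (hE hk).2

/-- **(0.a)** `g² ∈ R` for `g ∈ U_R` -/
theorem UU_sq (hR : IsCj Z R) {g : G} (hg : g ∈ UU V Z R) : g * g ∈ R := by
  let E : Subgroup G :=
    { carrier := {g | g ∈ UU V Z R ∧ g * g ∈ R}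
      one_mem' := ⟨one_mem _, by simp⟩
      mul_mem' := by
        rintro a b ⟨ha, ha'⟩ ⟨hb, hb'⟩
        refine ⟨mul_mem ha hb, ?_⟩
        have e : a * b * (a * b) = a * a * (a⁻¹ * b * a⁻¹⁻¹ * b⁻¹) * (b * b) := by group
        rw [e]
        exact R.mul_mem (R.mul_mem ha' (h.UU_comm hN hR (inv_mem ha) hb)) hb'
      inv_mem' := by
        rintro a ⟨ha, ha'⟩
        refine ⟨inv_mem ha, ?_⟩
        have e : a⁻¹ * a⁻¹ = (a * a)⁻¹ := by group
        rw [e]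
        exact R.inv_mem ha' }
  have hE : UU V Z R ≤ E := by
    refine sSup_le ?_
    rintro _ ⟨C, hC, rfl⟩ c hc
    exact ⟨le_UU hC hc, by rw [h.ws_sq hC.left hc]; exact one_mem _⟩
  exact (hE hg).2

/-- **(0.b)** `[U_A, W_R] ≤ A` for `A ~ R` -/
theorem UU_ws (hA : Adj V Z A R) {g w : G} (hg : g ∈ UU V Z A) (hw : w ∈ ws V R) : g * w * g⁻¹ * w⁻¹ ∈ A := by
  have hcen : ∀ x ∈ A, ∀ u ∈ UU V Z A, u * x = x * u := fun x hx u hu =>
    (mem_centralizer_iff.1 (h.UU_le_cent_pt hA.left hu) x hx).symm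
  let E : Subgroup G :=
    { carrier := {g | g ∈ centralizer (A : Set G) ∧ g * w * g⁻¹ * w⁻¹ ∈ A}
      one_mem' := ⟨one_mem _, by simp⟩
      mul_mem' := by
        rintro a b ⟨ha, ha'⟩ ⟨hb, hb'⟩
        refine ⟨mul_mem ha hb, ?_⟩
        have e : a * b * w * (a * b)⁻¹ * w⁻¹ = a * (b * w * b⁻¹ * w⁻¹) * a⁻¹ * (a * w * a⁻¹ * w⁻¹) := by group
        rw [e, ← mem_centralizer_iff.1 ha _ hb', mul_inv_cancel_right]
        exact A.mul_mem hb' ha'
      inv_mem' := by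
        rintro a ⟨ha, ha'⟩
        refine ⟨inv_mem ha, ?_⟩
        have e : a⁻¹ * w * a⁻¹⁻¹ * w⁻¹ = a⁻¹ * (a * w * a⁻¹ * w⁻¹)⁻¹ * a := by group
        rw [e, mul_assoc, mem_centralizer_iff.1 ha _ (A.inv_mem ha'), inv_mul_cancel_left]
        exact A.inv_mem ha' }
  have hE : UU V Z A ≤ E := by
    refine sSup_le ?_
    rintro _ ⟨C, hC, rfl⟩ c hc
    exact ⟨h.UU_le_cent_pt hA.left (le_UU hC hc), h.mid_mem hN hC hA hc hw⟩
  exact (hE hg).2

end Mid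

end Cfsg.Agent.Omega.NO3S.MidQ

end

section


/-!
# NO-3S, natural lines, critical distance 2, TYPE N: the hypotheses (TEXT 426-2, bb OMEGA)

* `TN S P V Z` : `Mid` and **(N)** `[W_A, W_B] ≤ R` for every critical pair `(A, B)` with middle `R`;
  **(H3)** `C_{W_R}(⟨U_A : A ~ R⟩) = R`; there is a critical pair;
* `TN.H2` : `|W_R : C_{W_R}(U_A)| = |Z|` for `A ~ R`;
* `Jo V Z R A B` : `A`, `B ~ R` are joined at `R` : `U_A` does not centralise `B`.

THEOREM N1 : `TN S P V Z → H2 V Z → False`.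
-/

set_option autoImplicit false
set_option linter.unusedSectionVars false

namespace Cfsg.Agent.Omega.NO3S.MidQ

open Subgroup Cfsg.Agent.Omega.NO3S.PT Cfsg.Agent.Omega.NoFF.Basic Cfsg.Agent.ZN
open scoped Pointwise

variable {G : Type*} [Group G]

/-- **TYPE N** -/
structure TN [Finite G] (S : Sylow 2 G) (P V Z : Subgroup G) : Prop extends Mid S P V Z where
  comm : ∀ A R B, Cr V Z A R B → ∀ a ∈ ws V A, ∀ b ∈ ws V B, a * b * a⁻¹ * b⁻¹ ∈ R
  cen : ∀ R, IsCj Z R → ∀ w ∈ ws V R, (∀ A, Adj V Z A R → ∀ u ∈ UU V Z A, u * w = w * u) → w ∈ R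
  ex : ∃ A R B, Cr V Z A R B

/-- (H2) -/
def H2 (V Z : Subgroup G) : Prop :=
  ∀ R A, Adj V Z A R → (centralizer ((UU V Z A : Subgroup G) : Set G)).relIndex (ws V R) = Nat.card Z

/-- `C_{W_R}(U_A)` -/
def cw (V Z R A : Subgroup G) : Subgroup G := ws V R ⊓ centralizer ((UU V Z A : Subgroup G) : Set G)

/-- `A`, `B ~ R` are joined at `R` -/
structure Jo (V Z R A B : Subgroup G) : Prop where
  l : Adj V Z A R
  r : Adj V Z B R
  mv : ¬ B ≤ centralizer ((UU V Z A : Subgroup G) : Set G)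

end Cfsg.Agent.Omega.NO3S.MidQ

end

section


/-!
# TYPE N: the first facts about `cw`, `Jo` (TEXT 426-2)

* `cw_cj`, `Jo.cj` : equivariance; `Mid.cw_line` : `C_{W_R}(U_A)` depends only on the line `RA`;
* `Mid.t3` : a 2-element centralising one element of `X#` centralises `X`;
* `TNG` : **the output of (a) - (g)** (input of (h) - (k)), `zu V Z R = Z(U_R)`;
* `Mid.inf_cw` : `B ∩ C_{W_R}(U_A) = 1` if `Jo V Z R A B`;
* `Mid.line_le_cw` : lines on `R` and `A` are in `C_{W_R}(U_A)`; `Jo.line` : `Jo` depends only on the lines.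
-/

set_option autoImplicit false
set_option linter.unusedSectionVars false

namespace Cfsg.Agent.Omega.NO3S.MidQ

open Subgroup Cfsg.Agent.Omega.NO3S.PT Cfsg.Agent.Omega.NoFF.Basic Cfsg.Agent.ZN
open scoped Pointwise

variable {G : Type*} [Group G] {V Z X Y R L A A' B B' : Subgroup G}

theorem mem_cw {x : G} : x ∈ cw V Z R A ↔ x ∈ ws V R ∧ ∀ u ∈ UU V Z A, u * x = x * u := by
  rw [cw, mem_inf, mem_centralizer_iff]
  rfl

theorem cw_le : cw V Z R A ≤ ws V R := inf_le_left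

theorem cw_cj (V Z R A : Subgroup G) (g : G) : cw V Z (cj g R) (cj g A) = cj g (cw V Z R A) := by
  rw [cw, cw, ws_cj, UU_cj, cj_inf, ← cj_centralizer]

theorem Jo.cj (h : Jo V Z R A B) (g : G) : Jo V Z (cj g R) (cj g A) (cj g B) where
  l := h.l.cj g
  r := h.r.cj g
  mv := by
    rw [UU_cj, ← cj_centralizer, cj_le_cj]
    exact h.mv

theorem jo_cj {g : G} : Jo V Z (cj g R) (cj g A) (cj g B) ↔ Jo V Z R A B := by
  refine ⟨fun h => ?_, fun h => h.cj g⟩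
  have := h.cj g⁻¹
  rwa [cj_cj, cj_cj, cj_cj, inv_mul_cancel, cj_one, cj_one, cj_one] at this

namespace Mid

variable [Finite G] {S : Sylow 2 G} {P : Subgroup G} (h : Mid S P V Z)
include h

/-- (T3) -/
theorem t3 (hX : IsCj Z X) {b x : G} (hb : TwoEl b) (hx : x ∈ X) (hx1 : x ≠ 1) (hbx : b * x = x * b) :
    ∀ y ∈ X, b * y = y * b := h.pl.two_comm' hX hb hx hx1 hbx

theorem twoEl_UU {u : G} (hu : u ∈ UU V Z R) : TwoEl u := twoEl_of_isPGroup (h.isPGroup_UU R) hu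

theorem twoEl_ws (hX : IsCj Z X) {u : G} (hu : u ∈ ws V X) : TwoEl u := twoEl_of_isPGroup (h.isPGroup_ws hX) hu

/-- (T3), normaliser form -/
theorem t3n (hX : IsCj Z X) {b : G} (hb : TwoEl b) (hbX : PT.cj b X = X) : ∀ y ∈ X, b * y = y * b := by
  obtain ⟨g, rfl⟩ := hX
  exact (h.pl.conj g).two_cent hb (cj_eq_iff.1 hbX)

theorem R_le_cw (hA : Adj V Z A R) : R ≤ cw V Z R A := by
  intro x hx
  rw [mem_cw]
  refine ⟨h.pt_le_ws hA.right hx, fun u hu => ?_⟩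
  exact (mem_centralizer_iff.1 (h.UU_le_cent_adj hA.symm hu) x hx).symm

/-- `C_{W_R}(U_A)` depends only on the line `RA` -/
theorem cw_line (hA : Adj V Z A R) (hA' : Adj V Z A' R) (hL : IsCj V L) (hRL : R ≤ L) (hAL : A ≤ L)
    (hAL' : A' ≤ L) : cw V Z R A = cw V Z R A' := by
  obtain ⟨k, hk, rfl⟩ := h.K_trans hA.right hL hRL hA.left hAL hA'.left hAL' hA.ne hA'.ne
  have hkR : PT.cj k R = R := cj_eq_iff.2 (kx_normalizes le_rfl (h.pt_le_ws hA.right) hk)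
  have h1 := cw_cj V Z R A k
  rw [hkR] at h1
  rw [h1]
  exact (cj_eq_iff.2 (kx_normalizes (h.R_le_cw hA) cw_le hk)).symm

/-- `V_{RA} ≤ C_{W_R}(U_A)` -/
theorem line_le_cw (hL : IsCj V L) (hRL : R ≤ L) (hAL : A ≤ L) : L ≤ cw V Z R A := by
  intro x hx
  rw [mem_cw]
  refine ⟨le_ws hL hRL hx, fun u hu => ?_⟩
  exact (mem_centralizer_iff.1 (h.UU_le_centralizer A hu) x (le_ws hL hAL hx)).symm

theorem jo_iff (hA : Adj V Z A R) (hB : Adj V Z B R) : Jo V Z R A B ↔ ¬ B ≤ cw V Z R A := by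
  constructor
  · rintro ⟨-, -, h3⟩ h4
    exact h3 (h4.trans inf_le_right)
  · intro h3
    exact ⟨hA, hB, fun h4 => h3 (le_inf (h.adj_le_ws hB.symm) h4)⟩

/-- `Jo` depends only on the lines -/
theorem jo_line_left (hj : Jo V Z R A B) (hA' : Adj V Z A' R) (hL : IsCj V L) (hRL : R ≤ L) (hAL : A ≤ L)
    (hAL' : A' ≤ L) : Jo V Z R A' B := by
  rw [h.jo_iff hA' hj.r, ← h.cw_line hj.l hA' hL hRL hAL hAL', ← h.jo_iff hj.l hj.r]
  exact hj

/-- a line through `R` is in `U_A`-centralised part as soon as one of its points `≠ R` is -/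
theorem line_le_of_pt (hA : Adj V Z A R) (hB : Adj V Z B R) (hL : IsCj V L) (hRL : R ≤ L) (hBL : B ≤ L)
    (hBC : B ≤ cw V Z R A) : L ≤ cw V Z R A := by
  obtain ⟨T, Q, h'⟩ := h.flag hB.right hL hRL
  intro v hv
  have h1 : v ∈ L := hv
  obtain ⟨x, hx, y, hy, rfl⟩ := h'.pl.exists_mul h'.pl.isCj_self hRL ((isCj_iff hB.right).2 hB.left) hBL
    hB.ne.symm h1
  exact mul_mem (h.R_le_cw hA hx) (hBC hy)

theorem jo_line_right (hj : Jo V Z R A B) (hB' : Adj V Z B' R) (hL : IsCj V L) (hRL : R ≤ L) (hBL : B ≤ L)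
    (hBL' : B' ≤ L) : Jo V Z R A B' := by
  rw [h.jo_iff hj.l hB']
  intro h1
  exact (h.jo_iff hj.l hj.r).1 hj (hBL.trans (h.line_le_of_pt hj.l hB' hL hRL hBL' h1))

/-- `B ∩ C_{W_R}(U_A) = 1` if `A → B` -/
theorem inf_cw (hj : Jo V Z R A B) {x : G} (hx : x ∈ B) (hx' : x ∈ cw V Z R A) : x = 1 := by
  by_contra hx1
  refine hj.mv fun y hy => mem_centralizer_iff.2 fun u hu => ?_
  exact h.t3 hj.r.left (h.twoEl_UU hu) hx hx1 ((mem_cw.1 hx').2 u hu) y hy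

end Mid

/-- `Z(U_R)` -/
def zu (V Z R : Subgroup G) : Subgroup G := UU V Z R ⊓ centralizer ((UU V Z R : Subgroup G) : Set G)

/-- the output of (a) - (g) -/
structure TNG [Finite G] (S : Sylow 2 G) (P V Z : Subgroup G) : Prop extends TN S P V Z where
  h2 : H2 V Z
  /-- (c) -/
  symm : ∀ R A B, Jo V Z R A B → Jo V Z R B A
  /-- (a) -/
  cent : ∀ R A, Adj V Z A R → ∀ g ∈ UU V Z A, ∀ w ∈ ws V R, g * w = w * g →
    w ∈ cw V Z R A ∨ g ∈ centralizer ((ws V R : Subgroup G) : Set G)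
  /-- (d) -/
  infc : ∀ R A B Y, Jo V Z R A B → IsCj Z Y → Y ≤ A ⊔ B → Y ≠ A → ws V A ⊓ ws V Y = ws V A ⊓ ws V B
  /-- (g) -/
  wz : ∀ R A B, Jo V Z R A B → ws V A ⊔ zu V Z R = ws V B ⊔ zu V Z R

end Cfsg.Agent.Omega.NO3S.MidQ

end

section


/-!
# NO-3S, natural lines, critical distance 2, TYPE N, blocks `SL_m`, `m ≥ 3`: the hypotheses (TEXT 426-2, THEOREM N2)

* `Sb V Z Blk R A B` : `A`, `B ~ R` are in one block at `R`, on different lines;
* `SLB V Z Blk m` : the hypotheses (SL): `Blk X` the set of blocks at `X`;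
* `bk Blk R A` : the block at `R` which contains `A`.

THEOREM N2 : `TN S P V Z → SLB V Z Blk m → False`.
-/

set_option autoImplicit false
set_option linter.unusedSectionVars false

namespace Cfsg.Agent.Omega.NO3S.MidQ

open Subgroup Cfsg.Agent.Omega.NO3S.PT Cfsg.Agent.Omega.NoFF.Basic Cfsg.Agent.ZN
open scoped Pointwise

variable {G : Type*} [Group G]

/-- `A`, `B ~ R` are in one block at `R`, on different lines -/
structure Sb (V Z : Subgroup G) (Blk : Subgroup G → Set (Subgroup G)) (R A B : Subgroup G) : Prop where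
  l : Adj V Z A R
  r : Adj V Z B R
  blk : ∃ D ∈ Blk R, A ≤ D ∧ B ≤ D
  ne : ∀ L, IsCj V L → R ≤ L → A ≤ L → ¬ B ≤ L

/-- **(SL)**: the hypotheses of THEOREM N2 about the blocks -/
structure SLB (V Z : Subgroup G) (Blk : Subgroup G → Set (Subgroup G)) (m : ℕ) : Prop where
  three : 3 ≤ m
  can : ∀ (g : G) (X : Subgroup G), IsCj Z X → ∀ B ∈ Blk X, cj g B ∈ Blk (cj g X)
  le : ∀ X, IsCj Z X → ∀ B ∈ Blk X, X ≤ B ∧ B ≤ ws V X
  line : ∀ X, IsCj Z X → ∀ L, IsCj V L → X ≤ L → ∃ B ∈ Blk X, L ≤ B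
  inf : ∀ X, IsCj Z X → ∀ B ∈ Blk X, ∀ B' ∈ Blk X, B' ≠ B → ∀ b ∈ B, b ∈ B' → b ∈ X
  all : ∀ X, IsCj Z X → ∀ B ∈ Blk X, ∀ b ∈ B, b ∉ X → ∃ L, IsCj V L ∧ X ≤ L ∧ b ∈ L
  card : ∀ X, IsCj Z X → ∀ B ∈ Blk X, Nat.card B = Nat.card Z ^ (m + 1)
  /-- `U_A` centralises the blocks at `R` which do not contain `A` -/
  other : ∀ R A, Adj V Z A R → ∀ B ∈ Blk R, ¬ A ≤ B → ∀ b ∈ B, ∀ u ∈ UU V Z A, u * b = b * u
  /-- `C_B(U_A)` is the line `RA` for the block `B` which contains `A` -/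
  cent : ∀ R A, Adj V Z A R → ∀ B ∈ Blk R, A ≤ B → ∀ L, IsCj V L → R ≤ L → A ≤ L →
    ∀ b ∈ B, (∀ u ∈ UU V Z A, u * b = b * u) → b ∈ L
  /-- `N_G(R)` is transitive on the pairs of points `A`, `B ~ R` in one block, on different lines -/
  two : ∀ R A B A' B', Sb V Z Blk R A B → Sb V Z Blk R A' B' → ∃ g : G, cj g R = R ∧ cj g A = A' ∧ cj g B = B'

/-- the block at `R` which contains `A` -/
def bk (Blk : Subgroup G → Set (Subgroup G)) (R A : Subgroup G) : Subgroup G := sSup {B | B ∈ Blk R ∧ A ≤ B}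

end Cfsg.Agent.Omega.NO3S.MidQ

end

section


/-!
# NO-3S, natural lines, TYPE N, blocks `SL_m`, `m ≥ 3`: basic facts (TEXT 426-2, THEOREM N2)

* `card_le_mul`, `surj_of_inj`, `mul_of_card`, `card_mul_le`, `card_dec` : counting;
* `NT S P V Z Blk m` : `Mid`, (N) and (SL);
* `NT.bk_mem`, `NT.bk_unique`, `NT.bk_cj`, `NT.exists_pt`, `NT.dec` : blocks;
* `Sb.symm`, `Sb.cj`, `NT.sb_mv`, `NT.sb_move`.
-/

set_option autoImplicit false
set_option linter.unusedSectionVars false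

namespace Cfsg.Agent.Omega.NO3S.MidQ

open Subgroup Cfsg.Agent.Omega.NO3S.PT Cfsg.Agent.Omega.NoFF.Basic Cfsg.Agent.ZN
open scoped Pointwise

variable {G : Type*} [Group G]

/-! ### Counting -/

section Count

variable [Finite G]

/-- `f : H → T` with fibres in cosets of `K` -/
theorem card_le_mul {H T K : Subgroup G} (f : G → G) (hf : ∀ y ∈ H, f y ∈ T)
    (hk : ∀ y ∈ H, ∀ y' ∈ H, f y = f y' → y⁻¹ * y' ∈ K) :
    Nat.card H ≤ Nat.card T * Nat.card (H ⊓ K : Subgroup G) := by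
  classical
  have hr : ∀ t : T, ∃ y : H, (∃ x : H, f x = t) → f y = t := by
    intro t
    by_cases ht : ∃ x : H, f x = t
    · obtain ⟨x, hx⟩ := ht
      exact ⟨x, fun _ => hx⟩
    · exact ⟨1, fun h => absurd h ht⟩
  choose r hr using hr
  have hr' : ∀ y : H, f (r ⟨f y, hf y y.2⟩) = f y := fun y => hr ⟨f y, hf y y.2⟩ ⟨y, rfl⟩
  let F : H → T × (H ⊓ K : Subgroup G) := fun y =>
    (⟨f y, hf y y.2⟩, ⟨((r ⟨f y, hf y y.2⟩ : H) : G)⁻¹ * y,
      H.mul_mem (H.inv_mem (r _).2) y.2, hk _ (r _).2 _ y.2 (hr' y)⟩)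
  have hF : Function.Injective F := by
    intro y y' hyy
    have h1 : (⟨f y, hf y y.2⟩ : T) = ⟨f y', hf y' y'.2⟩ := congrArg Prod.fst hyy
    have h2 : ((r ⟨f y, hf y y.2⟩ : H) : G)⁻¹ * y = ((r ⟨f y', hf y' y'.2⟩ : H) : G)⁻¹ * y' :=
      congrArg Subtype.val (congrArg Prod.snd hyy)
    rw [h1] at h2
    exact Subtype.ext (mul_left_cancel h2)
  have h3 := Nat.card_le_card_of_injective F hF
  rwa [Nat.card_prod] at h3

theorem surj_of_inj {A B : Subgroup G} (hc : Nat.card B ≤ Nat.card A) (f : G → G) (hf : ∀ a ∈ A, f a ∈ B)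
    (hi : ∀ a ∈ A, ∀ a' ∈ A, f a = f a' → a = a') : ∀ b ∈ B, ∃ a ∈ A, f a = b := by
  let F : A → B := fun a => ⟨f a, hf a a.2⟩
  have hF : Function.Injective F := fun a a' h => Subtype.ext (hi a a.2 a' a'.2 (congrArg Subtype.val h))
  have h1 := hF.bijective_of_nat_card_le hc
  intro b hb
  obtain ⟨a, ha⟩ := h1.2 ⟨b, hb⟩
  exact ⟨a, a.2, congrArg Subtype.val ha⟩

/-- `A ∩ B = 1`, `A, B ≤ K` -/
theorem card_mul_le {A B K : Subgroup G} (hA : A ≤ K) (hB : B ≤ K) (hi : ∀ x ∈ A, x ∈ B → x = 1) :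
    Nat.card A * Nat.card B ≤ Nat.card K := by
  let F : A × B → K := fun x => ⟨x.1 * x.2, mul_mem (hA x.1.2) (hB x.2.2)⟩
  have hF : Function.Injective F := by
    rintro ⟨a, b⟩ ⟨a', b'⟩ hx
    have h1 : (a : G) * b = a' * b' := congrArg Subtype.val hx
    have h2 : (a' : G)⁻¹ * a = b' * (b : G)⁻¹ := by
      rw [inv_mul_eq_iff_eq_mul, ← mul_assoc, ← h1, mul_inv_cancel_right]
    have h3 : (a' : G)⁻¹ * a = 1 := hi _ (mul_mem (inv_mem a'.2) a.2) (h2 ▸ mul_mem b'.2 (inv_mem b.2))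
    have h4 : (b' : G) * (b : G)⁻¹ = 1 := by rw [← h2, h3]
    exact Prod.ext (Subtype.ext (inv_mul_eq_one.1 h3).symm) (Subtype.ext (mul_inv_eq_one.1 h4).symm)
  have h3 := Nat.card_le_card_of_injective F hF
  rwa [Nat.card_prod] at h3

theorem mul_of_card {A B K : Subgroup G} (hA : A ≤ K) (hB : B ≤ K) (hi : ∀ x ∈ A, x ∈ B → x = 1)
    (hc : Nat.card K ≤ Nat.card A * Nat.card B) : ∀ x ∈ K, ∃ a ∈ A, ∃ b ∈ B, x = a * b := by
  let F : A × B → K := fun x => ⟨x.1 * x.2, mul_mem (hA x.1.2) (hB x.2.2)⟩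
  have hF : Function.Injective F := by
    rintro ⟨a, b⟩ ⟨a', b'⟩ hx
    have h1 : (a : G) * b = a' * b' := congrArg Subtype.val hx
    have h2 : (a' : G)⁻¹ * a = b' * (b : G)⁻¹ := by
      rw [inv_mul_eq_iff_eq_mul, ← mul_assoc, ← h1, mul_inv_cancel_right]
    have h3 : (a' : G)⁻¹ * a = 1 := hi _ (mul_mem (inv_mem a'.2) a.2) (h2 ▸ mul_mem b'.2 (inv_mem b.2))
    have h4 : (b' : G) * (b : G)⁻¹ = 1 := by rw [← h2, h3]
    exact Prod.ext (Subtype.ext (inv_mul_eq_one.1 h3).symm) (Subtype.ext (mul_inv_eq_one.1 h4).symm)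
  have h1 := hF.bijective_of_nat_card_le (by rwa [Nat.card_prod])
  intro x hx
  obtain ⟨⟨a, b⟩, hab⟩ := h1.2 ⟨x, hx⟩
  exact ⟨a, a.2, b, b.2, (congrArg Subtype.val hab).symm⟩

/-- `|H| |B ∩ C| ≤ |B| |C|` if `H = B C` -/
theorem card_dec {H B C : Subgroup G} (hd : ∀ w ∈ H, ∃ b ∈ B, ∃ d ∈ C, w = b * d) :
    Nat.card H * Nat.card (B ⊓ C : Subgroup G) ≤ Nat.card B * Nat.card C := by
  have hd' : ∀ w : H, ∃ b : B, ∃ d : C, (w : G) = b * d := by
    intro w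
    obtain ⟨b, hb, d, hd, e⟩ := hd w w.2
    exact ⟨⟨b, hb⟩, ⟨d, hd⟩, e⟩
  choose b d hbd using hd'
  let F : H × (B ⊓ C : Subgroup G) → B × C := fun x =>
    (⟨b x.1 * x.2, mul_mem (b x.1).2 x.2.2.1⟩, ⟨(x.2 : G)⁻¹ * d x.1, mul_mem (inv_mem x.2.2.2) (d x.1).2⟩)
  have hF : Function.Injective F := by
    rintro ⟨w, x⟩ ⟨w', x'⟩ hx
    have h1 : (b w : G) * x = b w' * x' := congrArg Subtype.val (congrArg Prod.fst hx)
    have h2 : (x : G)⁻¹ * d w = (x' : G)⁻¹ * d w' := congrArg Subtype.val (congrArg Prod.snd hx)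
    have h3 : (w : G) = w' := by
      rw [hbd w, hbd w']
      calc (b w : G) * d w = b w * x * ((x : G)⁻¹ * d w) := by group
        _ = b w' * x' * ((x' : G)⁻¹ * d w') := by rw [h1, h2]
        _ = b w' * d w' := by group
    have h4 : w = w' := Subtype.ext h3
    subst h4
    have h5 : (x : G) = x' := mul_left_cancel h1
    rw [Subtype.ext h5]
  have h3 := Nat.card_le_card_of_injective F hF
  rwa [Nat.card_prod, Nat.card_prod] at h3

end Count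

theorem comm_inj {y y' w : G} (h : y * w * y⁻¹ * w⁻¹ = y' * w * y'⁻¹ * w⁻¹) :
    y⁻¹ * y' * w = w * (y⁻¹ * y') := by
  have h1 : y * w * y⁻¹ = y' * w * y'⁻¹ := mul_right_cancel h
  have h2 : y⁻¹ * (y * w * y⁻¹) * y' = y⁻¹ * (y' * w * y'⁻¹) * y' := by rw [h1]
  have e1 : y⁻¹ * (y * w * y⁻¹) * y' = w * (y⁻¹ * y') := by group
  have e2 : y⁻¹ * (y' * w * y'⁻¹) * y' = y⁻¹ * y' * w := by group
  rw [← e1, ← e2, h2]

/-- conjugation -/
theorem cj_of_cent {g : G} {H : Subgroup G} (h : ∀ x ∈ H, g * x = x * g) : cj g H = H := by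
  rw [cj_eq_iff, mem_normalizer_iff]
  intro x
  constructor
  · intro hx
    have hx' : x ∈ H := hx
    rw [h x hx', mul_inv_cancel_right]
    exact hx
  · intro hx
    have hx' : g * x * g⁻¹ ∈ H := hx
    have h1 := h _ hx'
    have h2 : g * x * g⁻¹ = x := by
      have h3 : g * (g * x * g⁻¹) = g * x := by rw [h1]; group
      exact mul_left_cancel h3
    rw [h2] at hx'
    exact hx'

/-! ### Pairs in a block -/

variable {V Z X Y R A B A' B' L : Subgroup G} {Blk : Subgroup G → Set (Subgroup G)} {m : ℕ}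

/-- `Mid`, (N) and (SL) -/
structure NT [Finite G] (S : Sylow 2 G) (P V Z : Subgroup G) (Blk : Subgroup G → Set (Subgroup G)) (m : ℕ) : Prop
    extends Mid S P V Z where
  typ : TypN V Z
  slb : SLB V Z Blk m

namespace NT

variable [Finite G] {S : Sylow 2 G} {P : Subgroup G} (h : NT S P V Z Blk m)
include h

theorem card_pt (hX : IsCj Z X) : Nat.card X = Nat.card Z := h.pl.card_pt hX

theorem card_ln (hL : IsCj V L) : Nat.card L = Nat.card Z * Nat.card Z := by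
  rw [h.card_line hL, h.pl.card]

theorem two_le : 2 ≤ Nat.card Z := h.pl.one_lt_card

/-- a point which is contained in a line and in a point -/
theorem not_le_of_ne (hX : IsCj Z X) (hY : IsCj Z Y) (hne : X ≠ Y) : ¬ X ≤ Y := by
  intro e
  obtain ⟨x, hx, hx1⟩ := h.pt_ne_bot hX
  exact hne (h.pts_eq hX hY hx (e hx) hx1)

/-- a point meets a line which does not contain it trivially -/
theorem line_inf (hX : IsCj Z X) (hL : IsCj V L) (hXL : ¬ X ≤ L) {x : G} (hx : x ∈ X) (hx' : x ∈ L) : x = 1 := by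
  by_contra hx1
  obtain ⟨T, hT, hTL, hxT⟩ := h.exists_point hL hx' hx1
  exact hXL ((h.pts_eq hX hT hx hxT hx1).symm ▸ hTL)

theorem bk_unique (hA : Adj V Z A R) {D : Subgroup G} (hD : D ∈ Blk R) (hAD : A ≤ D) : bk Blk R A = D := by
  refine le_antisymm (sSup_le ?_) (le_sSup ⟨hD, hAD⟩)
  rintro D' ⟨hD', hAD'⟩
  by_cases e : D' = D
  · rw [e]
  · exact absurd (fun x hx => h.slb.inf R hA.right D hD D' hD' e x (hAD hx) (hAD' hx))
      (h.not_le_of_ne hA.left hA.right hA.ne)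

theorem bk_mem' (hA : Adj V Z A R) : ∃ D ∈ Blk R, A ≤ D ∧ bk Blk R A = D := by
  obtain ⟨L, hL, hAL, hRL⟩ := hA.line
  obtain ⟨D, hD, hLD⟩ := h.slb.line R hA.right L hL hRL
  exact ⟨D, hD, hAL.trans hLD, h.bk_unique hA hD (hAL.trans hLD)⟩

theorem bk_mem (hA : Adj V Z A R) : bk Blk R A ∈ Blk R := by
  obtain ⟨D, hD, -, h1⟩ := h.bk_mem' hA
  rwa [h1]

theorem le_bk (hA : Adj V Z A R) : A ≤ bk Blk R A := by
  obtain ⟨D, hD, h1, h2⟩ := h.bk_mem' hA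
  rwa [h2]

theorem mid_le_bk (hA : Adj V Z A R) : R ≤ bk Blk R A := (h.slb.le R hA.right _ (h.bk_mem hA)).1

theorem bk_le (hA : Adj V Z A R) : bk Blk R A ≤ ws V R := (h.slb.le R hA.right _ (h.bk_mem hA)).2

theorem card_bk (hA : Adj V Z A R) : Nat.card (bk Blk R A) = Nat.card Z ^ (m + 1) :=
  h.slb.card R hA.right _ (h.bk_mem hA)

theorem bk_cj (hA : Adj V Z A R) (g : G) : bk Blk (cj g R) (cj g A) = cj g (bk Blk R A) :=
  h.bk_unique (hA.cj g) (h.slb.can g R hA.right _ (h.bk_mem hA)) (cj_le_cj.2 (h.le_bk hA))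

theorem bk_eq (hA : Adj V Z A R) (hB : Adj V Z B R) (hAB : B ≤ bk Blk R A) : bk Blk R B = bk Blk R A :=
  h.bk_unique hB (h.bk_mem hA) hAB

theorem line_le_bk (hA : Adj V Z A R) (hL : IsCj V L) (hRL : R ≤ L) (hAL : A ≤ L) : L ≤ bk Blk R A := by
  obtain ⟨D, hD, hLD⟩ := h.slb.line R hA.right L hL hRL
  rwa [h.bk_unique hA hD (hAL.trans hLD)]

/-- the block at `R` depends only on the line -/
theorem bk_line (hA : Adj V Z A R) (hB : Adj V Z B R) (hL : IsCj V L) (hRL : R ≤ L) (hAL : A ≤ L) (hBL : B ≤ L) :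
    bk Blk R B = bk Blk R A := h.bk_eq hA hB (hBL.trans (h.line_le_bk hA hL hRL hAL))

/-- **(S3)** -/
theorem exists_pt (hA : Adj V Z A R) {x : G} (hx : x ∈ bk Blk R A) (hxR : x ∉ R) :
    ∃ B, Adj V Z B R ∧ B ≤ bk Blk R A ∧ x ∈ B := by
  obtain ⟨L, hL, hRL, hxL⟩ := h.slb.all R hA.right _ (h.bk_mem hA) x hx hxR
  obtain ⟨B, hB, hBL, hxB⟩ := h.exists_point hL hxL (fun e => hxR (e ▸ one_mem _))
  have hBR : Adj V Z B R := ⟨hB, hA.right, fun e => hxR (e ▸ hxB), L, hL, hBL, hRL⟩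
  refine ⟨B, hBR, ?_, hxB⟩
  by_cases e : bk Blk R A = bk Blk R B
  · rw [e]; exact h.le_bk hBR
  · exact absurd (h.slb.inf R hA.right _ (h.bk_mem hBR) _ (h.bk_mem hA) e x (h.le_bk hBR hxB) hx) hxR

/-- `C_B(U_A)` is the line `RA` -/
theorem cent (hA : Adj V Z A R) (hL : IsCj V L) (hRL : R ≤ L) (hAL : A ≤ L) {b : G} (hb : b ∈ bk Blk R A)
    (hu : ∀ u ∈ UU V Z A, u * b = b * u) : b ∈ L :=
  h.slb.cent R A hA _ (h.bk_mem hA) (h.le_bk hA) L hL hRL hAL b hb hu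

/-- **the decomposition** `W_R = B D`, `D` centralised by all `U_C`, `C ≤ B` -/
theorem dec (hA : Adj V Z A R) {w : G} (hw : w ∈ ws V R) : ∃ b ∈ bk Blk R A, ∃ d ∈ ws V R, w = b * d ∧
    ∀ C, Adj V Z C R → C ≤ bk Blk R A → ∀ u ∈ UU V Z C, u * d = d * u := by
  have hR := hA.right
  let E : Subgroup G :=
    { carrier := {w | ∃ b ∈ bk Blk R A, ∃ d ∈ ws V R, w = b * d ∧
        ∀ C, Adj V Z C R → C ≤ bk Blk R A → ∀ u ∈ UU V Z C, u * d = d * u}
      one_mem' := ⟨1, one_mem _, 1, one_mem _, (mul_one 1).symm, fun C _ _ u _ => by simp⟩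
      mul_mem' := by
        rintro _ _ ⟨b, hb, d, hd, rfl, h1⟩ ⟨b', hb', d', hd', rfl, h2⟩
        refine ⟨b * b', mul_mem hb hb', d * d', mul_mem hd hd', ?_, fun C hC hCB u hu => ?_⟩
        · have e := h.ws_comm hR hd (h.bk_le hA hb')
          calc b * d * (b' * d') = b * (d * b') * d' := by group
            _ = b * (b' * d) * d' := by rw [e]
            _ = b * b' * (d * d') := by group
        · calc u * (d * d') = (u * d) * d' := by group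
            _ = d * (u * d') := by rw [h1 C hC hCB u hu]; group
            _ = d * d' * u := by rw [h2 C hC hCB u hu]; group
      inv_mem' := by
        rintro _ ⟨b, hb, d, hd, rfl, h1⟩
        refine ⟨b⁻¹, inv_mem hb, d⁻¹, inv_mem hd, ?_, fun C hC hCB u hu => ?_⟩
        · rw [h.ws_comm hR (h.bk_le hA hb) hd, mul_inv_rev]
        · exact (Commute.inv_right (h1 C hC hCB u hu : Commute u d)) }
  have hE : ws V R ≤ E := by
    refine ws_le fun L hL hRL x hx => ?_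
    obtain ⟨D, hD, hLD⟩ := h.slb.line R hR L hL hRL
    by_cases e : D = bk Blk R A
    · exact ⟨x, e ▸ hLD hx, 1, one_mem _, (mul_one x).symm, fun C _ _ u _ => by simp⟩
    · refine ⟨1, one_mem _, x, le_ws hL hRL hx, (one_mul x).symm, fun C hC hCB u hu => ?_⟩
      refine h.slb.other R C hC D hD (fun hCD => ?_) x (hLD hx) u hu
      exact e ((h.bk_unique hC hD hCD).symm.trans (h.bk_eq hA hC hCB))
  exact hE hw

end NT

namespace Sb

variable (hs : Sb V Z Blk R A B)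
include hs

theorem ne' : A ≠ B := by
  rintro rfl
  obtain ⟨L, hL, hAL, hRL⟩ := hs.l.line
  exact hs.ne L hL hRL hAL hAL

variable [Finite G] {S : Sylow 2 G} {P : Subgroup G} (h : NT S P V Z Blk m)
include h

theorem symm : Sb V Z Blk R B A where
  l := hs.r
  r := hs.l
  blk := by
    obtain ⟨D, hD, h1, h2⟩ := hs.blk
    exact ⟨D, hD, h2, h1⟩
  ne := fun L hL hRL hBL hAL => hs.ne L hL hRL hAL hBL

theorem bk_eq : bk Blk R B = bk Blk R A := by
  obtain ⟨D, hD, h1, h2⟩ := hs.blk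
  rw [h.bk_unique hs.l hD h1, h.bk_unique hs.r hD h2]

theorem le_bk : B ≤ bk Blk R A := by
  rw [← hs.bk_eq h]
  exact h.le_bk hs.r

theorem cj (g : G) : Sb V Z Blk (PT.cj g R) (PT.cj g A) (PT.cj g B) where
  l := hs.l.cj g
  r := hs.r.cj g
  blk := ⟨PT.cj g (bk Blk R A), h.slb.can g R hs.l.right _ (h.bk_mem hs.l), cj_le_cj.2 (h.le_bk hs.l),
    cj_le_cj.2 (hs.le_bk h)⟩
  ne := fun L hL hRL hAL hBL => hs.ne (PT.cj g⁻¹ L) (hL.cj g⁻¹) (by rwa [le_cj_iff, inv_inv])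
    (by rwa [le_cj_iff, inv_inv]) (by rwa [le_cj_iff, inv_inv])

end Sb

namespace NT

variable [Finite G] {S : Sylow 2 G} {P : Subgroup G} (h : NT S P V Z Blk m)
include h

theorem sb_mk (hA : Adj V Z A R) (hB : Adj V Z B R) (hAB : B ≤ bk Blk R A)
    (hne : ∀ L, IsCj V L → R ≤ L → A ≤ L → ¬ B ≤ L) : Sb V Z Blk R A B :=
  ⟨hA, hB, ⟨bk Blk R A, h.bk_mem hA, h.le_bk hA, hAB⟩, hne⟩

/-- the same with a given line -/
theorem sb_mk' (hA : Adj V Z A R) (hB : Adj V Z B R) (hAB : B ≤ bk Blk R A) (hL : IsCj V L) (hRL : R ≤ L)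
    (hAL : A ≤ L) (hne : ¬ B ≤ L) : Sb V Z Blk R A B :=
  h.sb_mk hA hB hAB fun M hM hRM hAM => by
    rwa [h.line_unique hA.right hA.left hA.ne.symm hM hL hRM hAM hRL hAL]

/-- `B ∩ C(U_A) = 1` -/
theorem sb_mv (hs : Sb V Z Blk R A B) {b : G} (hb : b ∈ B) (hu : ∀ u ∈ UU V Z A, u * b = b * u) : b = 1 := by
  obtain ⟨L, hL, hAL, hRL⟩ := hs.l.line
  exact h.line_inf hs.r.left hL (hs.ne L hL hRL hAL) hb (h.cent hs.l hL hRL hAL (hs.le_bk h hb) hu)

/-- the points of `R`, `A`, `B`, in one block on different lines, can be moved -/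
theorem sb_move {R' : Subgroup G} (hs : Sb V Z Blk R A B) (hs' : Sb V Z Blk R' A' B') :
    ∃ g : G, cj g R = R' ∧ cj g A = A' ∧ cj g B = B' := by
  obtain ⟨x, hx⟩ := hs.l.right
  obtain ⟨y, hy⟩ := hs'.l.right
  have h1 : cj (y * x⁻¹) R = R' := by rw [hx, hy, cj_cj, inv_mul_cancel_right]
  have h2 := hs.cj h (y * x⁻¹)
  rw [h1] at h2
  obtain ⟨g, hg1, hg2, hg3⟩ := h.slb.two R' _ _ _ _ h2 hs'
  exact ⟨g * (y * x⁻¹), by rw [← cj_cj, h1, hg1], by rw [← cj_cj, hg2], by rw [← cj_cj, hg3]⟩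

end NT

end Cfsg.Agent.Omega.NO3S.MidQ

end

section


/-!
# NO-3S, natural lines, TYPE N, blocks `SL_m`, `m ≥ 3`: section (A1), first part (TEXT 426-2, THEOREM N2)

* `NT.inf_bk` : (5.0);
* `NT.exists_sb`, `Path`, `NT.exists_path` : paths;
* `NT.bk_UU` : (5.1);  `NT.m_le` : (5.2) `m ≤ 3`;  `NT.big` : (5.3);  `NT.cent_ln` : `C_{B_a(r)}(W_b)` is the line `ar`.
-/

set_option autoImplicit false
set_option linter.unusedSectionVars false

namespace Cfsg.Agent.Omega.NO3S.MidQ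

open Subgroup Cfsg.Agent.Omega.NO3S.PT Cfsg.Agent.Omega.NoFF.Basic Cfsg.Agent.ZN
open scoped Pointwise

variable {G : Type*} [Group G] {V Z X Y L : Subgroup G} {Blk : Subgroup G → Set (Subgroup G)} {m : ℕ}

/-- (A1) -/
def AOne (V Z : Subgroup G) (Blk : Subgroup G → Set (Subgroup G)) : Prop :=
  ∀ R A B, Sb V Z Blk R A B → ¬ Com V A B

/-- **PATH** `c ~ p ~ r ~ a` -/
structure Path (V Z : Subgroup G) (Blk : Subgroup G → Set (Subgroup G)) (c p r a : Subgroup G) (w : G) : Prop where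
  cr : Sb V Z Blk p c r
  pa : Sb V Z Blk r p a
  hw : w ∈ bk Blk c p
  mv : ∀ x ∈ a, w * x = x * w → x = 1

namespace NT

variable [Finite G] {S : Sylow 2 G} {P : Subgroup G} (h : NT S P V Z Blk m)
include h

/-- **(5.0)** -/
theorem inf_bk {A R B : Subgroup G} (hc : Cr V Z A R B) {x : G} (hx : x ∈ bk Blk A R) (hx' : x ∈ bk Blk B R) :
    x ∈ R := by
  by_cases hx1 : x = 1
  · rw [hx1]; exact one_mem _
  have hA : Adj V Z R A := hc.l.symm
  have hB : Adj V Z R B := hc.r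
  obtain ⟨E, hE, -, hxE⟩ := h.exists_pt hA hx fun e => hx1 (h.star hc e (h.bk_le hB hx'))
  obtain ⟨E', hE', -, hxE'⟩ := h.exists_pt hB hx' fun e => hx1 (h.star' hc e (h.bk_le hA hx))
  have e1 := h.pts_eq hE.left hE'.left hxE hxE' hx1
  have e2 := h.mid_unique h.typ hc hE.symm (e1 ▸ hE')
  rwa [← e2]

/-- a point in the block on a different line -/
theorem exists_sb {A R : Subgroup G} (hA : Adj V Z A R) : ∃ B, Sb V Z Blk R A B := by
  obtain ⟨L, hL, hAL, hRL⟩ := hA.line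
  have h1 : ∃ x ∈ bk Blk R A, x ∉ L := by
    by_contra hcon
    push Not at hcon
    have h2 : Nat.card (bk Blk R A) ≤ Nat.card L := Subgroup.card_le_of_le hcon
    rw [h.card_bk hA, h.card_ln hL, ← pow_two] at h2
    have h3 := (Nat.pow_le_pow_iff_right (h.two_le)).1 h2
    have h4 := h.slb.three
    omega
  obtain ⟨x, hx, hxL⟩ := h1
  obtain ⟨B, hB, hBA, hxB⟩ := h.exists_pt hA hx (fun e => hxL (hRL e))
  exact ⟨B, h.sb_mk' hA hB hBA hL hRL hAL fun e => hxL (e hxB)⟩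

/-- an element not centralising a point, as an element of a block -/
theorem exists_bk {A B R : Subgroup G} (hc : Cr V Z A R B) :
    ∃ x ∈ bk Blk A R, ∃ y ∈ bk Blk B R, x * y ≠ y * x := by
  have h1 : ∃ w ∈ ws V A, ∃ v ∈ ws V B, w * v ≠ v * w := by
    by_contra hcon
    push Not at hcon
    exact hc.ne fun w hw => mem_centralizer_iff.2 fun v hv => (hcon w hw v hv).symm
  obtain ⟨w, hw, v, hv, hwv⟩ := h1
  obtain ⟨x, hx, d, hd, rfl, hd'⟩ := h.dec hc.l.symm hw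
  have h2 := hd' R hc.l.symm (h.le_bk hc.l.symm) v (le_UU hc.r.symm hv)
  have hxv : x * v ≠ v * x := by
    intro e
    apply hwv
    calc x * d * v = x * (d * v) := by group
      _ = (x * v) * d := by rw [← h2]; group
      _ = v * (x * d) := by rw [e]; group
  obtain ⟨y, hy, d2, hd2, rfl, hd2'⟩ := h.dec hc.r hv
  have h3 := hd2' R hc.r (h.le_bk hc.r) x (le_UU hc.l (h.bk_le hc.l.symm hx))
  refine ⟨x, hx, y, hy, fun e => hxv ?_⟩
  calc x * (y * d2) = (x * y) * d2 := by group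
    _ = y * (x * d2) := by rw [e]; group
    _ = y * d2 * x := by rw [h3]; group

variable (h1 : AOne V Z Blk)
include h1

theorem cr_of_sb {R A B : Subgroup G} (hs : Sb V Z Blk R A B) : Cr V Z A R B := ⟨hs.l, hs.r.symm, h1 R A B hs⟩

/-- **a path** from `Sb p c r` -/
theorem exists_path' {c p r : Subgroup G} (hs : Sb V Z Blk p c r) : ∃ a w, Path V Z Blk c p r a w := by
  have hc := h.cr_of_sb h1 hs
  obtain ⟨w, hw, y, hy, hwy⟩ := h.exists_bk hc
  have hwc := h.bk_le hs.l.symm hw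
  have hwr : ∀ x ∈ r, w * x = x * w := fun x hx =>
    (mem_centralizer_iff.1 (h.ws_le_cent hs.l hs.r.symm hwc) x hx).symm
  have hwp : ∀ x ∈ p, w * x = x * w := fun x hx => (mem_centralizer_iff.1 (h.ws_le_cent' hs.l hwc) x hx).symm
  have hy' : y ∈ bk Blk r p := hy
  obtain ⟨a, ha, hap, hya⟩ := h.exists_pt hs.r.symm hy' (fun e => hwy (hwr y e))
  refine ⟨a, w, hs, h.sb_mk hs.r.symm ha hap (fun L hL hrL hpL haL => ?_), hw, fun x hx e => ?_⟩
  · obtain ⟨u, hu, v, hv, e⟩ := h.line_eq hs.r.left hs.l.right hs.r.ne hL hrL hpL (haL hya)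
    apply hwy
    rw [e]
    calc w * (u * v) = (w * u) * v := by group
      _ = u * (w * v) := by rw [hwr u hu]; group
      _ = u * v * w := by rw [hwp v hv]; group
  · by_contra hx1
    exact hwy (h.comm_pt ha.left (h.two_ws hs.l.left hwc) hx hx1 e y hya)

theorem path_cj {c p r a : Subgroup G} {w : G} (hp : Path V Z Blk c p r a w) (g : G) :
    Path V Z Blk (cj g c) (cj g p) (cj g r) (cj g a) (g * w * g⁻¹) where
  cr := hp.cr.cj h g
  pa := hp.pa.cj h g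
  hw := by
    rw [h.bk_cj hp.cr.l.symm]
    exact conj_mem_cj hp.hw
  mv := by
    intro x hx e
    have h2 := hp.mv _ (mem_cj.1 hx) (by
      have := congrArg (fun t => g⁻¹ * t * g) e
      simpa [mul_assoc] using this)
    have h3 : x = g * (g⁻¹ * x * g) * g⁻¹ := by group
    rw [h3, h2]; group

/-- **a path** to `Sb r p a` -/
theorem exists_path {p r a : Subgroup G} (hs : Sb V Z Blk r p a) : ∃ c w, Path V Z Blk c p r a w := by
  obtain ⟨c, hc⟩ := h.exists_sb hs.l.symm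
  obtain ⟨a', w, hp⟩ := h.exists_path' h1 (hc.symm h)
  obtain ⟨g, hg1, hg2, hg3⟩ := h.sb_move hp.pa hs
  have h2 := h.path_cj h1 hp g
  rw [hg1, hg2, hg3] at h2
  exact ⟨_, _, h2⟩

/-- **(5.1)** -/
theorem bk_UU {c p r : Subgroup G} (hs : Sb V Z Blk p c r) (hL : IsCj V L) (hcL : c ≤ L) (hpL : p ≤ L) {x : G}
    (hx : x ∈ bk Blk c p) (hxU : x ∈ UU V Z r) : x ∈ L := by
  have hcp := hs.l
  have hrp := hs.r
  obtain ⟨γ, hγ, hγ1⟩ := h.pt_ne_bot hcp.left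
  obtain ⟨t, ht, htγ⟩ : ∃ t ∈ UU V Z r, t * γ ≠ γ * t := by
    by_contra hcon
    push Not at hcon
    exact hγ1 (h.sb_mv (hs.symm h) hγ hcon)
  have htc : ∀ y ∈ c, t * y = y * t → y = 1 := by
    intro y hy e
    by_contra hy1
    exact htγ (h.comm_pt hcp.left (h.two_UU ht) hy hy1 e γ hγ)
  have htp : ∀ y ∈ p, t * y = y * t := fun y hy =>
    (mem_centralizer_iff.1 (h.UU_le_cent_adj hrp.symm ht) y hy).symm
  have htr : ∀ y ∈ r, t * y = y * t := fun y hy => (mem_centralizer_iff.1 (h.UU_le_cent_pt hrp.left ht) y hy).symm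
  have hcU : ∀ y ∈ c, y ∈ UU V Z r := fun y hy => le_UU hrp.symm (h.adj_le_ws' hcp hy)
  obtain ⟨y, hy, hyx⟩ := surj_of_inj (A := c) (B := r) (by rw [h.card_pt hcp.left, h.card_pt hrp.left])
    (fun y => y * t * y⁻¹ * t⁻¹) (fun y hy => h.UU_comm h.typ hrp.left (hcU y hy) ht) (fun y hy y' hy' e => by
      have h2 := comm_inj e
      have h3 := htc (y⁻¹ * y') (mul_mem (inv_mem hy) hy') h2.symm
      exact inv_mul_eq_one.1 h3) _ (r.inv_mem (h.UU_comm h.typ hrp.left hxU ht))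
  -- `x y` commutes with `t`
  have hxr : x * (y * t * y⁻¹ * t⁻¹) = y * t * y⁻¹ * t⁻¹ * x :=
    (mem_centralizer_iff.1 (h.UU_le_cent_pt hrp.left hxU) _ (h.UU_comm h.typ hrp.left (hcU y hy) ht)).symm
  have hxy : x * y * t = t * (x * y) := by
    apply Mid.comm_eq
    have e : x * y * t * (x * y)⁻¹ * t⁻¹ = x * (y * t * y⁻¹ * t⁻¹) * x⁻¹ * (x * t * x⁻¹ * t⁻¹) := by group
    rw [e, hxr, mul_inv_cancel_right, hyx, inv_mul_cancel]
  have hpc : cj t p = p := cj_of_cent htp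
  have hadj : Adj V Z (cj t c) p := by
    have := hcp.cj t
    rwa [hpc] at this
  have hblk : cj t (bk Blk p c) = bk Blk p c := by
    rw [← hs.bk_eq h, ← h.bk_cj hrp, hpc, cj_of_cent htr]
  have hle : cj t c ≤ bk Blk p c := by
    rw [← hblk]
    exact cj_le_cj.2 (h.le_bk hcp)
  have hnot : ¬ cj t c ≤ L := by
    intro e
    have h2 : γ * t * γ⁻¹ * t⁻¹ ∈ r := h.UU_comm h.typ hrp.left (hcU γ hγ) ht
    have h3 : γ * t * γ⁻¹ * t⁻¹ ∈ L := by
      have e2 : γ * t * γ⁻¹ * t⁻¹ = γ * (t * γ * t⁻¹)⁻¹ := by group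
      rw [e2]
      exact mul_mem (hcL hγ) (inv_mem (e (conj_mem_cj hγ)))
    have h4 := h.line_inf hrp.left hL (fun e' => hs.ne L hL hpL hcL e') h2 h3
    exact htγ (Mid.comm_eq h4).symm
  have hs2 : Sb V Z Blk p c (cj t c) := h.sb_mk' hcp hadj hle hL hpL hcL hnot
  have hxy2 : x * y ∈ bk Blk c p := mul_mem hx (h.mid_le_bk hcp.symm hy)
  have hxy3 : x * y ∈ bk Blk (cj t c) p := by
    have h2 : bk Blk (cj t c) p = cj t (bk Blk c p) := by
      rw [← h.bk_cj hcp.symm, hpc]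
    rw [h2, mem_cj, mul_assoc, hxy, inv_mul_cancel_left]
    exact hxy2
  have h5 := h.inf_bk (h.cr_of_sb h1 hs2) hxy2 hxy3
  have e : x = x * y * y⁻¹ := by group
  rw [e]
  exact mul_mem (hpL h5) (inv_mem (hcL hy))

end NT

end Cfsg.Agent.Omega.NO3S.MidQ

end
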