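import Cfsg.Agent.Mrg.Omega.NO3S.MidQ.NTwoBig

section


/-!
# NO-3S, natural lines, TYPE N, blocks `SL_m`, `m ≥ 3`: section (A1), end (TEXT 426-2, THEOREM N2, (6.3), (6.4))

* `NT.card_cg` : `|C_{B_z(a)}(g)| = s³` for `g ∈ U_p ∩ C(a) - C(W_z)`;
* `NT.exists_del` : (6.3) for a flag `(z, L)` an element `δ` which centralises `L` and the blocks `B_x(L)`, `x ≠ z` on
  `L`, and acts nontrivially on `B_z(L) / L`;
* `NT.not_AOne` : (6.4).
-/

set_option autoImplicit false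
set_option linter.unusedSectionVars false

namespace Cfsg.Agent.Omega.NO3S.MidQ

open Subgroup Cfsg.Agent.Omega.NO3S.PT Cfsg.Agent.Omega.NoFF.Basic Cfsg.Agent.ZN
open scoped Pointwise

variable {G : Type*} [Group G] {V Z X Y L : Subgroup G} {Blk : Subgroup G → Set (Subgroup G)} {m : ℕ}

/-- `C_A(g)` -/
def cg (A : Subgroup G) (g : G) : Subgroup G := A ⊓ centralizer ({g} : Set G)

theorem mem_cg {A : Subgroup G} {g x : G} : x ∈ cg A g ↔ x ∈ A ∧ x * g = g * x := by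
  rw [cg, mem_inf, mem_cs]

/-- `g y = l y g`, `l` commutes with `g'`, etc. -/
theorem comm_act {g g' y k k' : G} (h1 : g * y * g⁻¹ = k * y) (h2 : g' * y * g'⁻¹ = k' * y) (h3 : g * k' = k' * g)
    (h4 : g' * k = k * g') (h5 : k * k' = k' * k) :
    g * g' * y * (g * g')⁻¹ = g' * g * y * (g' * g)⁻¹ := by
  have e1 : g * g' * y * (g * g')⁻¹ = g * (g' * y * g'⁻¹) * g⁻¹ := by group
  have e2 : g' * g * y * (g' * g)⁻¹ = g' * (g * y * g⁻¹) * g'⁻¹ := by group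
  rw [e1, e2, h1, h2]
  calc g * (k' * y) * g⁻¹ = (g * k') * y * g⁻¹ := by group
    _ = k' * (g * y * g⁻¹) := by rw [h3]; group
    _ = (k' * k) * y := by rw [h1]; group
    _ = k * (g' * y * g'⁻¹) := by rw [← h5, h2]; group
    _ = (k * g') * y * g'⁻¹ := by group
    _ = g' * (k * y) * g'⁻¹ := by rw [← h4]; group

namespace NT

variable [Finite G] {S : Sylow 2 G} {P : Subgroup G} (h : NT S P V Z Blk m) (h1 : AOne V Z Blk)
include h h1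

theorem pt_dich {p z : Subgroup G} (hpz : Adj V Z p z) {g : G} (hg : TwoEl g) {x : G} (hx : x ∈ p)
    (hxg : x * g ≠ g * x) : ∀ y ∈ p, y * g = g * y → y = 1 := by
  intro y hy e
  by_contra hy1
  exact hxg (h.comm_pt hpz.left hg hy hy1 e.symm x hx).symm

/-- `|C_{B_z(a)}(g)| = s³` -/
theorem card_cg {z p a : Subgroup G} (hs : Sb V Z Blk z p a) (hL : IsCj V L) (hzL : z ≤ L) (haL : a ≤ L) {g : G}
    (hg : g ∈ UU V Z p) (hga : ∀ x ∈ a, g * x = x * g) (hgW : ∃ v ∈ ws V z, g * v ≠ v * g) :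
    Nat.card (cg (bk Blk z a) g) = Nat.card Z ^ 3 ∧ L ≤ cg (bk Blk z a) g ∧ p ≤ cg (bk Blk z a) g := by
  have hpz := hs.l
  have haz := hs.r
  have hgz : ∀ x ∈ z, g * x = x * g := fun x hx =>
    (mem_centralizer_iff.1 (h.UU_le_cent_adj hpz.symm hg) x hx).symm
  have hgp : ∀ x ∈ p, g * x = x * g := fun x hx =>
    (mem_centralizer_iff.1 (h.UU_le_cent_pt hpz.left hg) x hx).symm
  have hLC : L ≤ cg (bk Blk z a) g := by
    intro y hy
    refine mem_cg.2 ⟨h.line_le_bk haz hL hzL haL hy, ?_⟩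
    obtain ⟨u, hu, v, hv, rfl⟩ := h.line_eq haz.right haz.left haz.ne.symm hL hzL haL hy
    calc u * v * g = u * (g * v) := by rw [hga v hv]; group
      _ = g * (u * v) := by rw [← mul_assoc, ← hgz u hu]; group
  have hpC : p ≤ cg (bk Blk z a) g := fun y hy => mem_cg.2 ⟨(hs.symm h).le_bk h hy, (hgp y hy).symm⟩
  refine ⟨?_, hLC, hpC⟩
  -- lower bound
  have h2 : Nat.card p * Nat.card L ≤ Nat.card (cg (bk Blk z a) g) :=
    card_mul_le hpC hLC fun y hy hyL =>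
      h.line_inf hpz.left hL ((hs.symm h).ne L hL hzL haL) hy hyL
  -- a point meeting `C` trivially
  obtain ⟨v, hv, hgv⟩ := hgW
  obtain ⟨β, hβ, d, hd, rfl, hd'⟩ := h.dec haz hv
  have hgd := hd' p hpz ((hs.symm h).le_bk h) g hg
  have hgβ : β * g ≠ g * β := by
    intro e
    apply hgv
    calc g * (β * d) = (g * β) * d := by group
      _ = β * (g * d) := by rw [← e]; group
      _ = β * d * g := by rw [hgd]; group
  obtain ⟨E, hE, hEz, hβE⟩ := h.exists_pt haz hβ (fun e => hgβ (hgz β e).symm)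
  have h3 : Nat.card E * Nat.card (cg (bk Blk z a) g) ≤ Nat.card (bk Blk z a) :=
    card_mul_le hEz inf_le_left fun y hy hyC => h.pt_dich h1 hE (h.two_UU hg) hβE hgβ y hy (mem_cg.1 hyC).2
  rw [h.card_bk haz, h.m_eq h1, h.card_pt hE.left] at h3
  rw [h.card_pt hpz.left, h.card_ln hL] at h2
  have hs0 : 0 < Nat.card Z := Nat.card_pos
  refine le_antisymm (Nat.le_of_mul_le_mul_left (c := Nat.card Z) ?_ hs0) ?_
  · calc _ ≤ Nat.card Z ^ (3 + 1) := h3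
      _ = Nat.card Z * Nat.card Z ^ 3 := by ring
  · calc Nat.card Z ^ 3 = Nat.card Z * (Nat.card Z * Nat.card Z) := by ring
      _ ≤ _ := h2

/-- **(6.3)** -/
theorem exists_del {z a : Subgroup G} (haz : Adj V Z a z) (hL : IsCj V L) (hzL : z ≤ L) (haL : a ≤ L) :
    ∃ δ : G, (∀ y ∈ L, δ * y = y * δ) ∧ (∀ x, IsCj Z x → x ≤ L → x ≠ z → ∀ y ∈ bk Blk x z, δ * y = y * δ) ∧
      ∃ y ∈ bk Blk z a, δ * y * δ⁻¹ * y⁻¹ ∉ L := by
  -- the first element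
  obtain ⟨p1, hp1⟩ := h.exists_sb haz
  have hs1 := hp1.symm h
  obtain ⟨c1, w1, hq1⟩ := h.exists_path h1 hs1
  obtain ⟨g1, hg1, hg1a, hg1W⟩ := h.exists_w0 h1 hq1
  obtain ⟨hC1, hC1L, hC1p⟩ := h.card_cg h1 hs1 hL hzL haL hg1 hg1a hg1W
  -- the second
  have h2 : ∃ x ∈ bk Blk z a, x ∉ cg (bk Blk z a) g1 := by
    by_contra hcon
    push Not at hcon
    have h3 : Nat.card (bk Blk z a) ≤ Nat.card (cg (bk Blk z a) g1) := Subgroup.card_le_of_le hcon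
    rw [hC1, h.card_bk haz, h.m_eq h1] at h3
    have h4 := (Nat.pow_le_pow_iff_right (h.two_le)).1 h3
    omega
  obtain ⟨x, hx, hxC⟩ := h2
  obtain ⟨p2, hp2z, hp2, hxp⟩ := h.exists_pt haz hx (fun e => hxC (hC1L (hzL e)))
  have hs2 : Sb V Z Blk z p2 a :=
    (h.sb_mk' haz hp2z hp2 hL hzL haL fun e => hxC (hC1L (e hxp))).symm h
  obtain ⟨c2, w2, hq2⟩ := h.exists_path h1 hs2
  obtain ⟨g2, hg2, hg2a, hg2W⟩ := h.exists_w0 h1 hq2
  obtain ⟨hC2, hC2L, hC2p⟩ := h.card_cg h1 hs2 hL hzL haL hg2 hg2a hg2W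
  have hd2 : ∀ y ∈ p2, y * g1 = g1 * y → y = 1 :=
    h.pt_dich h1 hp2z (h.two_UU hg1) hxp fun e => hxC (mem_cg.2 ⟨hx, e⟩)
  have hp1L : ¬ p1 ≤ L := fun e => hp1.ne L hL hzL haL e
  have hp1C : ¬ p1 ≤ cg (bk Blk z a) g2 := by
    intro e
    have h3 := mul_of_card (A := L) (B := p1) (K := cg (bk Blk z a) g2) hC2L e
      (fun y hy hy' => h.line_inf hs1.l.left hL hp1L hy' hy)
      (by rw [hC2, h.card_ln hL, h.card_pt hs1.l.left]; exact le_of_eq (by ring))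
    obtain ⟨l, hl, q, hq, e'⟩ := h3 x (hC2p hxp)
    apply hxC
    rw [e']
    exact mul_mem (hC1L hl) (hC1p hq)
  obtain ⟨π, hπ, hπC⟩ := SetLike.not_le_iff_exists.1 hp1C
  have hπz : π ∈ ws V z := h.adj_le_ws' hs1.l hπ
  have hπg2 : π * g2 ≠ g2 * π := fun e => hπC (mem_cg.2 ⟨hp1.le_bk h hπ, e⟩)
  -- the centralisers
  have hLg1 : ∀ y ∈ L, g1 * y = y * g1 := fun y hy => (mem_cg.1 (hC1L hy)).2.symm
  have hLg2 : ∀ y ∈ L, g2 * y = y * g2 := fun y hy => (mem_cg.1 (hC2L hy)).2.symm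
  have hact : ∀ {p : Subgroup G} {g : G}, Sb V Z Blk z p a → g ∈ UU V Z p → (∀ y ∈ L, g * y = y * g) →
      ∀ x, IsCj Z x → x ≤ L → x ≠ z → ∀ y ∈ bk Blk x z, ∃ k ∈ L, g * y * g⁻¹ = k * y := by
    intro p g hs hg hgL x hxZ hxL hxz y hy
    have hxz' : Adj V Z x z := ⟨hxZ, haz.right, hxz, L, hL, hxL, hzL⟩
    have hs' : Sb V Z Blk z p x := by
      refine ((h.sb_mk' hxz' hs.l ?_ hL hzL hxL ((hs.symm h).ne L hL hzL haL)).symm h)
      rw [h.bk_line haz hxz' hL hzL haL hxL]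
      exact (hs.symm h).le_bk h
    have h3 := h.w0_line h1 hs' hL hzL hxL hg (fun y hy => hgL y (hxL hy)) hy
    refine ⟨(y * g * y⁻¹ * g⁻¹)⁻¹, inv_mem h3, ?_⟩
    group
  have hδ1 : ∀ y ∈ L, g1 * g2 * g1⁻¹ * g2⁻¹ * y = y * (g1 * g2 * g1⁻¹ * g2⁻¹) := by
    intro y hy
    have c1 : Commute y g1 := (hLg1 y hy).symm
    have c2 : Commute y g2 := (hLg2 y hy).symm
    exact (((c1.mul_right c2).mul_right c1.inv_right).mul_right c2.inv_right).symm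
  refine ⟨g1 * g2 * g1⁻¹ * g2⁻¹, hδ1, fun x hxZ hxL hxz y hy => ?_, ?_⟩
  · have hxz' : Adj V Z x z := ⟨hxZ, haz.right, hxz, L, hL, hxL, hzL⟩
    have hblk : ∀ {g : G}, (∀ y ∈ L, g * y = y * g) → cj g⁻¹ (bk Blk x z) = bk Blk x z := by
      intro g hgL
      have h3 : ∀ y ∈ L, g⁻¹ * y = y * g⁻¹ := fun y hy => (Commute.inv_left (hgL y hy : Commute g y) : _)
      rw [← h.bk_cj hxz'.symm, cj_of_cent fun y hy => h3 y (hxL hy), cj_of_cent fun y hy => h3 y (hzL hy)]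
    -- `y0 = (g2 g1)⁻¹ y (g2 g1)`
    have hy1 : g2⁻¹ * y * g2⁻¹⁻¹ ∈ bk Blk x z := by
      rw [← hblk hLg2]; exact conj_mem_cj hy
    have hy0 : g1⁻¹ * (g2⁻¹ * y * g2⁻¹⁻¹) * g1⁻¹⁻¹ ∈ bk Blk x z := by
      rw [← hblk hLg1]; exact conj_mem_cj hy1
    obtain ⟨k, hk, ek⟩ := hact hs1 hg1 hLg1 x hxZ hxL hxz _ hy0
    obtain ⟨k', hk', ek'⟩ := hact hs2 hg2 hLg2 x hxZ hxL hxz _ hy0
    have h3 := comm_act ek ek' (hLg1 k' hk') (hLg2 k hk)
      (h.ws_comm haz.right (le_ws hL hzL hk) (le_ws hL hzL hk'))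
    have e1 : g2 * g1 * (g1⁻¹ * (g2⁻¹ * y * g2⁻¹⁻¹) * g1⁻¹⁻¹) * (g2 * g1)⁻¹ = y := by group
    have e2 : g1 * g2 * (g1⁻¹ * (g2⁻¹ * y * g2⁻¹⁻¹) * g1⁻¹⁻¹) * (g1 * g2)⁻¹ =
      g1 * g2 * g1⁻¹ * g2⁻¹ * y * (g1 * g2 * g1⁻¹ * g2⁻¹)⁻¹ := by group
    rw [e1, e2] at h3
    rwa [mul_inv_eq_iff_eq_mul] at h3
  · -- nontrivial
    have hκ : g2 * π * g2⁻¹ * π⁻¹ ∈ p2 := h.UU_ws h.typ hs2.l hg2 hπz
    have hκ1 : g2 * π * g2⁻¹ * π⁻¹ ≠ 1 := fun e => hπg2 (Mid.comm_eq e).symm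
    set κ := g2 * π * g2⁻¹ * π⁻¹ with hκ'
    have hlam : g1 * κ * g1⁻¹ * κ⁻¹ ∈ p1 := h.UU_ws h.typ hs1.l hg1 (h.adj_le_ws' hs2.l hκ)
    have hlam1 : g1 * κ * g1⁻¹ * κ⁻¹ ≠ 1 := fun e => hκ1 (hd2 κ hκ (Mid.comm_eq e).symm)
    have hg1π : g1 * π * g1⁻¹ = π := by
      have h3 : g1 * π = π * g1 := (mem_centralizer_iff.1 (h.UU_le_cent_pt hs1.l.left hg1) π hπ).symm
      rw [h3, mul_inv_cancel_right]
    have hy : g2 * π * g2⁻¹ ∈ bk Blk z a := by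
      have e : g2 * π * g2⁻¹ = κ * π := by rw [hκ']; group
      rw [e]
      exact mul_mem (hp2 hκ) (hp1.le_bk h hπ)
    refine ⟨g2 * π * g2⁻¹, hy, fun e => ?_⟩
    have e1 : g1 * g2 * g1⁻¹ * g2⁻¹ * (g2 * π * g2⁻¹) * (g1 * g2 * g1⁻¹ * g2⁻¹)⁻¹ * (g2 * π * g2⁻¹)⁻¹ =
      g1 * κ * g1⁻¹ * κ⁻¹ := by
      have e2 : g1 * g2 * g1⁻¹ * g2⁻¹ * (g2 * π * g2⁻¹) * (g1 * g2 * g1⁻¹ * g2⁻¹)⁻¹ =
        g1 * (g2 * (g1⁻¹ * π * g1) * g2⁻¹) * g1⁻¹ := by group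
      have e3 : g1⁻¹ * π * g1 = π := by
        nth_rewrite 1 [← hg1π]
        group
      rw [e2, e3]
      have e4 : g2 * π * g2⁻¹ = κ * π := by rw [hκ']; group
      rw [e4]
      calc g1 * (κ * π) * g1⁻¹ * (κ * π)⁻¹ = g1 * κ * g1⁻¹ * (g1 * π * g1⁻¹) * π⁻¹ * κ⁻¹ := by group
        _ = g1 * κ * g1⁻¹ * κ⁻¹ := by rw [hg1π]; group
    rw [e1] at e
    exact hlam1 (h.line_inf hs1.l.left hL hp1L hlam e)

/-- **(6.4)** -/
theorem not_AOne : False := by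
  obtain ⟨L, hL, hZL⟩ := h.exists_line h.pl.isCj_self
  have hz := h.pl.isCj_self
  obtain ⟨y, hy, hyL, hyz⟩ := h.exists_second hz hL hZL
  obtain ⟨x, hx, hxL, hxz, hxy⟩ := h.exists_third hz hy hL hZL hyL hyz.symm
  have hyz' : Adj V Z y Z := ⟨hy, hz, hyz, L, hL, hyL, hZL⟩
  have hxy' : Adj V Z x y := ⟨hx, hy, hxy, L, hL, hxL, hyL⟩
  obtain ⟨δ, hδL, hδ, v0, hv0, hv0L⟩ := h.exists_del h1 hyz' hL hZL hyL
  obtain ⟨b, hb⟩ := h.exists_sb hyz'.symm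
  have hbL : ¬ b ≤ L := hb.ne L hL hyL hZL
  have hxz' : Adj V Z x Z := ⟨hx, hz, hxz, L, hL, hxL, hZL⟩
  -- `b`, `x` at `y`
  have hbx : Sb V Z Blk y b x := by
    refine (h.sb_mk' hxy' hb.r ?_ hL hyL hxL hbL).symm h
    rw [h.bk_line hyz'.symm hxy' hL hyL hZL hxL]
    exact hb.le_bk h
  have hby := hb.r
  obtain ⟨M, hM, hbM, hyM⟩ := hby.line
  have hδby : ∀ u ∈ bk Blk y Z, δ * u = u * δ := hδ y hy hyL hyz
  have hδb : ∀ u ∈ b, δ * u = u * δ := fun u hu => hδby u (hb.le_bk h hu)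
  have hδy : ∀ u ∈ y, δ * u = u * δ := fun u hu => hδL u (hyL hu)
  have hδx : ∀ u ∈ bk Blk x y, δ * u = u * δ := by
    intro u hu
    refine hδ x hx hxL hxz u ?_
    rwa [h.bk_line hxy'.symm hxz'.symm hL hxL hyL hZL]
  have hblkb : cj δ (bk Blk b y) = bk Blk b y := by
    rw [← h.bk_cj hby.symm, cj_of_cent hδb, cj_of_cent hδy]
  -- step 1
  have step1 : ∀ u ∈ bk Blk b y, u⁻¹ * (δ * u * δ⁻¹) ∈ M := by
    intro u hu
    have hu' : δ * u * δ⁻¹ ∈ bk Blk b y := by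
      rw [← hblkb]; exact conj_mem_cj hu
    have huu := mul_mem (inv_mem hu) hu'
    refine h.cent_ln h1 hbx hM hyM hbM huu fun w hw => ?_
    obtain ⟨β, hβ, d, hd, rfl, hd'⟩ := h.dec hxy'.symm hw
    have e1 : u⁻¹ * (δ * u * δ⁻¹) * d = d * (u⁻¹ * (δ * u * δ⁻¹)) :=
      hd' y hxy'.symm (h.le_bk hxy'.symm) _ (le_UU hby (h.bk_le hby.symm huu))
    have e2 : u⁻¹ * (δ * u * δ⁻¹) * β = β * (u⁻¹ * (δ * u * δ⁻¹)) := by
      -- `[β, δuδ⁻¹] = [β, u]`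
      have h2 : β * u * β⁻¹ * u⁻¹ ∈ y := h.mid_mem h.typ hxy' hby.symm (h.bk_le hxy'.symm hβ) (h.bk_le hby.symm hu)
      have hδβ : δ * β * δ⁻¹ = β := by rw [hδx β hβ, mul_inv_cancel_right]
      have h3 : β * (δ * u * δ⁻¹) * β⁻¹ * (δ * u * δ⁻¹)⁻¹ = β * u * β⁻¹ * u⁻¹ := by
        have e3 : δ * (β * u * β⁻¹ * u⁻¹) * δ⁻¹ = β * u * β⁻¹ * u⁻¹ := by
          rw [hδy _ h2, mul_inv_cancel_right]
        calc β * (δ * u * δ⁻¹) * β⁻¹ * (δ * u * δ⁻¹)⁻¹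
            = (δ * β * δ⁻¹) * (δ * u * δ⁻¹) * (δ * β * δ⁻¹)⁻¹ * (δ * u * δ⁻¹)⁻¹ := by rw [hδβ]
          _ = δ * (β * u * β⁻¹ * u⁻¹) * δ⁻¹ := by group
          _ = β * u * β⁻¹ * u⁻¹ := e3
      have h4 : (β * u * β⁻¹ * u⁻¹)⁻¹ = (β * (δ * u * δ⁻¹) * β⁻¹ * (δ * u * δ⁻¹)⁻¹)⁻¹ := by rw [h3]
      have e5 : (β * u * β⁻¹ * u⁻¹)⁻¹ = u * β * u⁻¹ * β⁻¹ := by group
      have e6 : (β * (δ * u * δ⁻¹) * β⁻¹ * (δ * u * δ⁻¹)⁻¹)⁻¹ =
        δ * u * δ⁻¹ * β * (δ * u * δ⁻¹)⁻¹ * β⁻¹ := by group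
      rw [e5, e6] at h4
      exact comm_inj h4
    calc u⁻¹ * (δ * u * δ⁻¹) * (β * d) = (u⁻¹ * (δ * u * δ⁻¹) * β) * d := by group
      _ = β * (u⁻¹ * (δ * u * δ⁻¹) * d) := by rw [e2]; group
      _ = β * d * (u⁻¹ * (δ * u * δ⁻¹)) := by rw [e1]; group
  -- step 2
  have hzy := hyz'.symm
  have hδz : ∀ u ∈ Z, δ * u = u * δ := fun u hu => hδL u (hZL hu)
  have hblkz : cj δ (bk Blk Z y) = bk Blk Z y := by
    rw [← h.bk_cj hyz', cj_of_cent hδz, cj_of_cent hδy]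
  have hv' : δ * v0 * δ⁻¹ ∈ bk Blk Z y := by
    rw [← hblkz]; exact conj_mem_cj hv0
  have hvz := h.bk_le hyz' hv0
  have hvz' := h.bk_le hyz' hv'
  have hvv := mul_mem (inv_mem hv0) hv'
  have h2 : v0⁻¹ * (δ * v0 * δ⁻¹) ∈ L := by
    refine h.cent_ln h1 hb hL hyL hZL hvv fun w hw => ?_
    obtain ⟨u, hu, d, hd, rfl, hd'⟩ := h.dec hby.symm hw
    have e1 : v0⁻¹ * (δ * v0 * δ⁻¹) * d = d * (v0⁻¹ * (δ * v0 * δ⁻¹)) :=
      hd' y hby.symm (h.le_bk hby.symm) _ (le_UU hzy (h.bk_le hyz' hvv))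
    have e2 : v0⁻¹ * (δ * v0 * δ⁻¹) * u = u * (v0⁻¹ * (δ * v0 * δ⁻¹)) := by
      apply comm_inj
      have hk := step1 u hu
      -- `v'` commutes with `k = u⁻¹ δ u δ⁻¹`
      have hk2 : δ * v0 * δ⁻¹ * (u⁻¹ * (δ * u * δ⁻¹)) = u⁻¹ * (δ * u * δ⁻¹) * (δ * v0 * δ⁻¹) := by
        obtain ⟨s, hs, t, ht, e⟩ := h.line_eq hby.left hby.right hby.ne hM hbM hyM hk
        have h3 := mem_centralizer_iff.1 (h.ws_le_cent hzy hby.symm hvz') s hs
        have h4 := mem_centralizer_iff.1 (h.ws_le_cent' hzy hvz') t ht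
        rw [e]
        calc δ * v0 * δ⁻¹ * (s * t) = (δ * v0 * δ⁻¹ * s) * t := by group
          _ = s * (δ * v0 * δ⁻¹ * t) := by rw [← h3]; group
          _ = s * t * (δ * v0 * δ⁻¹) := by rw [← h4]; group
      have h5 : v0 * u * v0⁻¹ * u⁻¹ ∈ y := h.mid_mem h.typ hzy hby.symm hvz (h.bk_le hby.symm hu)
      have h6 : δ * v0 * δ⁻¹ * (δ * u * δ⁻¹) * (δ * v0 * δ⁻¹)⁻¹ * (δ * u * δ⁻¹)⁻¹ = v0 * u * v0⁻¹ * u⁻¹ := by
        calc _ = δ * (v0 * u * v0⁻¹ * u⁻¹) * δ⁻¹ := by group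
          _ = _ := by rw [hδy _ h5, mul_inv_cancel_right]
      rw [← h6]
      -- `[v', u k] = [v', u]`
      set v' := δ * v0 * δ⁻¹ with hv''
      set u' := δ * u * δ⁻¹ with hu''
      have h7 : v' * (u⁻¹ * u') * v'⁻¹ = u⁻¹ * u' := by rw [hk2, mul_inv_cancel_right]
      calc v' * u' * v'⁻¹ * u'⁻¹ = v' * u * v'⁻¹ * (v' * (u⁻¹ * u') * v'⁻¹) * u'⁻¹ := by group
        _ = v' * u * v'⁻¹ * u⁻¹ := by rw [h7]; group
    calc v0⁻¹ * (δ * v0 * δ⁻¹) * (u * d) = (v0⁻¹ * (δ * v0 * δ⁻¹) * u) * d := by group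
      _ = u * (v0⁻¹ * (δ * v0 * δ⁻¹) * d) := by rw [e2]; group
      _ = u * d * (v0⁻¹ * (δ * v0 * δ⁻¹)) := by rw [e1]; group
  apply hv0L
  rwa [h.ws_comm hz hvz' (inv_mem hvz)]

end NT

end Cfsg.Agent.Omega.NO3S.MidQ

end

section


/-!
# NO-3S, natural lines, TYPE N, blocks `SL_m`, `m ≥ 3`: section (A2) (TEXT 426-2, THEOREM N2)

* `NT.mover`, `NT.full` : `[U_a, β] = a` for `β ∈ b#`, `Sb r a b`;
* `NT.jj` : (j') `|H| ≤ s^m |H ∩ W_b|` for `H ≤ W_a`;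
* `NT.inf_line` : `W_a ∩ I_m = r`;  `NT.card_ws_le` : (k') `|W_a| ≤ s^(2m+1)`.
-/

set_option autoImplicit false
set_option linter.unusedSectionVars false

namespace Cfsg.Agent.Omega.NO3S.MidQ

open Subgroup Cfsg.Agent.Omega.NO3S.PT Cfsg.Agent.Omega.NoFF.Basic Cfsg.Agent.ZN
open scoped Pointwise

variable {G : Type*} [Group G] {V Z X Y L : Subgroup G} {Blk : Subgroup G → Set (Subgroup G)} {m : ℕ}

/-- (A2) -/
def ATwo (V Z : Subgroup G) (Blk : Subgroup G → Set (Subgroup G)) : Prop :=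
  ∀ R A B, Sb V Z Blk R A B → Com V A B

/-- the group generated by the `U_C`, `C` in the block of the line `L` at `X` -/
def NN (V Z : Subgroup G) (Blk : Subgroup G → Set (Subgroup G)) (X L : Subgroup G) : Subgroup G :=
  sSup {U | ∃ C, Adj V Z C X ∧ (∃ D ∈ Blk X, L ≤ D ∧ C ≤ D) ∧ U = UU V Z C}

namespace NT

variable [Finite G] {S : Sylow 2 G} {P : Subgroup G} (h : NT S P V Z Blk m)
include h

/-- a point `e ~ c ~ a` moving `b` -/
theorem mover {r a b : Subgroup G} (hs : Sb V Z Blk r a b) {β : G} (hβ : β ∈ b) (hβ1 : β ≠ 1) :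
    ∃ c e, Adj V Z c a ∧ Adj V Z e c ∧ e ≤ bk Blk c a ∧ ∀ x ∈ e, x * β = β * x → x = 1 := by
  have h2 : ∃ c, Adj V Z c a ∧ ∃ w ∈ ws V c, w * β ≠ β * w := by
    by_contra hcon
    push Not at hcon
    have h3 : UU V Z a ≤ centralizer ({β} : Set G) := by
      refine sSup_le ?_
      rintro _ ⟨c, hc, rfl⟩ w hw
      exact mem_cs.2 (hcon c hc w hw)
    exact hβ1 (h.sb_mv hs hβ fun u hu => mem_cs.1 (h3 hu))
  obtain ⟨c, hca, w, hw, hwβ⟩ := h2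
  have hβU : β ∈ UU V Z a := le_UU hs.l.symm (h.adj_le_ws' hs.r hβ)
  obtain ⟨ε, hε, d, hd, rfl, hd'⟩ := h.dec hca.symm hw
  have hdβ := hd' a hca.symm (h.le_bk hca.symm) β hβU
  have hεβ : ε * β ≠ β * ε := by
    intro e
    apply hwβ
    calc ε * d * β = ε * (d * β) := by group
      _ = (ε * β) * d := by rw [← hdβ]; group
      _ = β * (ε * d) := by rw [e]; group
  obtain ⟨E, hE, hEc, hεE⟩ := h.exists_pt hca.symm hε (fun e => by
    -- `W_r` centralises `c`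
    have h3 := mem_centralizer_iff.1 (h.ws_le_cent hs.l.symm hca.symm (h.adj_le_ws' hs.r hβ)) ε e
    exact hεβ h3)
  refine ⟨c, E, hca, hE, hEc, fun x hx e => ?_⟩
  by_contra hx1
  exact hεβ (h.comm_pt hE.left (h.two_ws hs.r.left (h.pt_le_ws hs.r.left hβ)) hx hx1 e.symm ε hεE).symm

/-- `[U_a, β] = a` -/
theorem full {r a b : Subgroup G} (hs : Sb V Z Blk r a b) {β : G} (hβ : β ∈ b) (hβ1 : β ≠ 1) :
    ∀ α ∈ a, ∃ g ∈ UU V Z a, g * β * g⁻¹ * β⁻¹ = α := by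
  obtain ⟨c, e, hca, hec, hle, hmv⟩ := h.mover hs hβ hβ1
  have h2 := surj_of_inj (A := e) (B := a) (by rw [h.card_pt hec.left, h.card_pt hs.l.left])
    (fun y => y * β * y⁻¹ * β⁻¹)
    (fun y hy => h.mid_mem h.typ hca hs.l (h.adj_le_ws' hec hy) (h.adj_le_ws' hs.r hβ))
    (fun y hy y' hy' e' => inv_mul_eq_one.1 (hmv _ (mul_mem (inv_mem hy) hy') (comm_inj e')))
  intro α hα
  obtain ⟨g, hg, e'⟩ := h2 α hα
  exact ⟨g, le_UU hca (h.adj_le_ws' hec hg), e'⟩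

/-- `W_a ∩ W_{a^ε} ≤ W_b` if `[ε, α] ∈ b` -/
theorem inf_ws_cj {r a b : Subgroup G} (hs : Sb V Z Blk r a b) {ε α : G} (hα : α ∈ a)
    (hε : ε * α * ε⁻¹ * α⁻¹ ∈ b) (hε1 : ε * α * ε⁻¹ * α⁻¹ ≠ 1) {y : G} (hy : y ∈ ws V a)
    (hy' : y ∈ ws V (cj ε a)) : y ∈ ws V b := by
  obtain ⟨g, hg, e⟩ := h.full hs hε hε1 α hα
  have hcomm : α * (ε * α * ε⁻¹ * α⁻¹) = ε * α * ε⁻¹ * α⁻¹ * α :=
    h.ws_comm hs.l.right (h.adj_le_ws' hs.l hα) (h.adj_le_ws' hs.r hε)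
  have h2 : g * (ε * α * ε⁻¹ * α⁻¹) * g⁻¹ = ε * α * ε⁻¹ := by
    have e2 : g * (ε * α * ε⁻¹ * α⁻¹) * g⁻¹ = α * (ε * α * ε⁻¹ * α⁻¹) := by
      have e3 : g * (ε * α * ε⁻¹ * α⁻¹) * g⁻¹ =
        g * (ε * α * ε⁻¹ * α⁻¹) * g⁻¹ * (ε * α * ε⁻¹ * α⁻¹)⁻¹ * (ε * α * ε⁻¹ * α⁻¹) := by group
      rw [e3, e]
    rw [e2, hcomm]; group
  have h3 : cj g b = cj ε a := by
    refine h.pts_eq (hs.r.left.cj g) (hs.l.left.cj ε) (z := ε * α * ε⁻¹) ?_ (conj_mem_cj hα) ?_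
    · rw [← h2]; exact conj_mem_cj hε
    · intro e2
      apply hε1
      have h4 : α = 1 := conj_eq_one_iff.1 e2
      rw [h4]; group
  rw [← h3, ws_cj, mem_cj] at hy'
  have h4 : g * y = y * g := (mem_centralizer_iff.1 (h.UU_le_centralizer a hg) y hy).symm
  rwa [mul_assoc, ← h4, inv_mul_cancel_left] at hy'

variable (h2 : ATwo V Z Blk)
include h2

/-- **(j')** -/
theorem jj {r a b : Subgroup G} (hs : Sb V Z Blk r a b) {H : Subgroup G} (hH : H ≤ ws V a) :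
    Nat.card H ≤ Nat.card Z ^ m * Nat.card (H ⊓ ws V b : Subgroup G) := by
  obtain ⟨α, hα, hα1⟩ := h.pt_ne_bot hs.l.left
  obtain ⟨c, e, hcb, hec, hle, hmv⟩ := h.mover (hs.symm h) hα hα1
  obtain ⟨ε, hε, hε1⟩ := h.pt_ne_bot hec.left
  have hαr := h.adj_le_ws' hs.l hα
  have hεc := h.adj_le_ws' hec hε
  set T := bk Blk c b ⊓ centralizer ({α} : Set G) with hT
  have hTc : Nat.card T ≤ Nat.card Z ^ m := by
    have h3 : Nat.card e * Nat.card T ≤ Nat.card (bk Blk c b) :=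
      card_mul_le hle inf_le_left fun x hx hx' => hmv x hx (mem_cs.1 hx'.2)
    rw [h.card_pt hec.left, h.card_bk hcb.symm, pow_succ, mul_comm (Nat.card Z ^ m)] at h3
    exact Nat.le_of_mul_le_mul_left h3 Nat.card_pos
  have hcom := h2 r a b hs
  have h3 : Nat.card H ≤ Nat.card T * Nat.card (H ⊓ centralizer ({ε} : Set G) : Subgroup G) := by
    refine card_le_mul (fun y => ε⁻¹ * (y * ε * y⁻¹)) (fun y hy => ?_) fun y hy y' hy' e' => ?_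
    · have hya := hH hy
      have hyb : ∀ x ∈ b, y * x = x * y := fun x hx =>
        (mem_centralizer_iff.1 (hcom hya) x (h.pt_le_ws hs.r.left hx)).symm
      have hyc : ∀ x ∈ c, y * x = x * y := fun x hx =>
        (mem_centralizer_iff.1 (hcom hya) x (h.adj_le_ws' hcb hx)).symm
      have hblk : cj y (bk Blk c b) = bk Blk c b := by
        rw [← h.bk_cj hcb.symm, cj_of_cent hyb, cj_of_cent hyc]
      have h4 : y * ε * y⁻¹ ∈ bk Blk c b := by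
        rw [← hblk]; exact conj_mem_cj (hle hε)
      refine ⟨(bk Blk c b).mul_mem ((bk Blk c b).inv_mem (hle hε)) h4, mem_cs.2 (comm_inj ?_)⟩
      -- `[ε^y, α] = [ε, α]`
      have h5 : ε * α * ε⁻¹ * α⁻¹ ∈ b := h.mid_mem h.typ hcb hs.r hεc hαr
      have hyα : y * α = α * y := h.ws_comm hs.l.left hya (h.pt_le_ws hs.l.left hα)
      have hyα' : y * α * y⁻¹ = α := by rw [hyα, mul_inv_cancel_right]
      symm
      calc y * ε * y⁻¹ * α * (y * ε * y⁻¹)⁻¹ * α⁻¹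
          = y * ε * y⁻¹ * (y * α * y⁻¹) * (y * ε * y⁻¹)⁻¹ * (y * α * y⁻¹)⁻¹ := by rw [hyα']
        _ = y * (ε * α * ε⁻¹ * α⁻¹) * y⁻¹ := by group
        _ = ε * α * ε⁻¹ * α⁻¹ := by rw [hyb _ h5, mul_inv_cancel_right]
    · refine mem_cs.2 ?_
      have h4 : y * ε * y⁻¹ = y' * ε * y'⁻¹ := mul_left_cancel e'
      exact comm_inj (by rw [h4])
  refine h3.trans (Nat.mul_le_mul hTc (Subgroup.card_le_of_le ?_))
  rintro y ⟨hy, hyε⟩
  refine ⟨hy, h.inf_ws_cj hs hα (h.mid_mem h.typ hcb hs.r hεc hαr) (fun e' => hε1 (hmv ε hε (Mid.comm_eq e')))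
    (hH hy) ?_⟩
  rw [ws_cj, mem_cj, mul_assoc, mem_cs.1 hyε, inv_mul_cancel_left]
  exact hH hy

omit h2 in
theorem nn_cj (g : G) (X L : Subgroup G) (hX : IsCj Z X) : NN V Z Blk (cj g X) (cj g L) = cj g (NN V Z Blk X L) := by
  have key : ∀ (g : G) (X L : Subgroup G), IsCj Z X → cj g (NN V Z Blk X L) ≤ NN V Z Blk (cj g X) (cj g L) := by
    intro g X L hX
    rw [cj_le_iff]
    refine sSup_le ?_
    rintro _ ⟨C, hC, ⟨D, hD, hLD, hCD⟩, rfl⟩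
    rw [le_cj_iff, inv_inv, ← UU_cj]
    exact le_sSup ⟨cj g C, hC.cj g, ⟨cj g D, h.slb.can g X hX D hD, cj_le_cj.2 hLD, cj_le_cj.2 hCD⟩, rfl⟩
  refine le_antisymm ?_ (key g X L hX)
  have h3 := key g⁻¹ (cj g X) (cj g L) (hX.cj g)
  rw [cj_cj, cj_cj, inv_mul_cancel, cj_one, cj_one, cj_le_iff, inv_inv] at h3
  exact h3

omit h2 in
/-- `I_m ∩ W_a = r`, `m` a line on `r` joined to `a` -/
theorem inf_line {r a b b' : Subgroup G} (hs : Sb V Z Blk r a b) (hL : IsCj V L) (hrL : r ≤ L) (hbL : b ≤ L)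
    (hb' : Adj V Z b' r) (hbL' : b' ≤ L) (hne : b ≠ b') {u : G} (hu : u ∈ ws V a) (hub : u ∈ ws V b)
    (hub' : u ∈ ws V b') : u ∈ r := by
  have hr := hs.l.right
  have hbr := hs.r
  have hur : u ∈ ws V r := h.inf_le hL hbr.left hb'.left hr hbL hbL' hrL hne ⟨hub, hub'⟩
  obtain ⟨β, hβ, d, hd, e, hd'⟩ := h.dec hbr hur
  have hbb := h.le_bk (Blk := Blk) hbr
  -- `β ∈ L`
  have hβL : β ∈ L := by
    refine h.cent hbr hL hrL hbL hβ fun v hv => ?_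
    have h3 : v * u = u * v := (mem_centralizer_iff.1 (h.UU_le_centralizer b hv) u hub).symm
    have h4 := hd' b hbr hbb v hv
    have h5 : v * β * d = β * v * d := by
      calc v * β * d = v * (β * d) := by group
        _ = β * d * v := by rw [← e, h3]
        _ = β * (v * d) := by rw [h4]; group
        _ = β * v * d := by group
    exact mul_right_cancel h5
  have hdL : d ∈ ws V r ⊓ ws V b := by
    have e2 : d = β⁻¹ * u := by rw [e]; group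
    rw [e2]
    exact ⟨(ws V r).mul_mem ((ws V r).inv_mem (le_ws hL hrL hβL)) hur,
      (ws V b).mul_mem ((ws V b).inv_mem (le_ws hL hbL hβL)) hub⟩
  -- `d ∈ r`
  have hdr : d ∈ r := by
    refine h.lemF_flag (N := NN V Z Blk) (fun g X L hX _ _ => h.nn_cj g X L hX) (fun X L hX hL hXL => ?_)
      (fun X L hX hL hXL => ?_) hr hL hrL hbr.left hbL hbr.ne hdL.1 hdL.2 fun n hn => ?_
    · refine sSup_le ?_
      rintro _ ⟨C, hC, -, rfl⟩
      exact h.UU_le_cent_adj hC.symm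
    · obtain ⟨A, hA, hAL, hAX⟩ := h.exists_second hX hL hXL
      have hAX' : Adj V Z A X := ⟨hA, hX, hAX, L, hL, hAL, hXL⟩
      obtain ⟨C, hC⟩ := h.exists_sb hAX'
      obtain ⟨α, hα, hα1⟩ := h.pt_ne_bot hA
      have h3 : ∃ n ∈ UU V Z C, n * α ≠ α * n := by
        by_contra hcon
        push Not at hcon
        exact hα1 (h.sb_mv (hC.symm h) hα hcon)
      obtain ⟨n, hn, hnα⟩ := h3
      have h4 : UU V Z C ≤ NN V Z Blk X L :=
        le_sSup ⟨C, hC.r, ⟨bk Blk X A, h.bk_mem hAX', h.line_le_bk hAX' hL hXL hAL, hC.le_bk h⟩, rfl⟩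
      refine ⟨n, h4 hn, α, hAL hα, fun e2 => hnα (Mid.comm_eq ?_)⟩
      exact h.pt_inf hC.r.left hX hC.r.ne (h.UU_ws h.typ hC.r hn (h.adj_le_ws' hAX' hα)) e2
    · have h3 : n * d = d * n := by
        have h4 : NN V Z Blk r L ≤ centralizer ({d} : Set G) := by
          refine sSup_le ?_
          rintro _ ⟨C, hC, ⟨D, hD, hLD, hCD⟩, rfl⟩ v hv
          refine mem_cs.2 (hd' C hC ?_ v hv)
          rwa [h.bk_unique hbr hD (hbL.trans hLD)]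
        exact mem_cs.1 (h4 hn)
      rw [Mid.comm_one h3]
      exact one_mem _
  have huL : u ∈ L := by rw [e]; exact mul_mem hβL (hrL hdr)
  obtain ⟨ρ, hρ, β', hβ', e3⟩ := h.line_eq hr hbr.left hbr.ne.symm hL hrL hbL huL
  have h3 : β' ∈ ws V a := by
    have e4 : β' = ρ⁻¹ * u := by rw [e3]; group
    rw [e4]
    exact mul_mem (inv_mem (h.adj_le_ws hs.l hρ)) hu
  have h4 : β' = 1 := h.sb_mv hs hβ' fun v hv =>
    (mem_centralizer_iff.1 (h.UU_le_centralizer a hv) β' h3).symm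
  rw [e3, h4, mul_one]
  exact hρ

/-- **(k')** -/
theorem card_ws_le {a : Subgroup G} (ha : IsCj Z a) : Nat.card (ws V a) ≤ Nat.card Z ^ (2 * m + 1) := by
  obtain ⟨L, hL, haL⟩ := h.exists_line ha
  obtain ⟨r, hr, hrL, hra⟩ := h.exists_second ha hL haL
  have har : Adj V Z a r := ⟨ha, hr, hra.symm, L, hL, haL, hrL⟩
  obtain ⟨b, hs⟩ := h.exists_sb har
  obtain ⟨M, hM, hbM, hrM⟩ := hs.r.line
  obtain ⟨b', hb', hbM', hbr', hbb'⟩ := h.exists_third hr hs.r.left hM hrM hbM hs.r.ne.symm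
  have hbr2 : Adj V Z b' r := ⟨hb', hr, hbr', M, hM, hbM', hrM⟩
  have hs' : Sb V Z Blk r a b' := by
    refine (h.sb_mk' hbr2 har ?_ hM hrM hbM' ((hs.symm h).ne M hM hrM hbM)).symm h
    rw [h.bk_line hs.r hbr2 hM hrM hbM hbM']
    exact (hs.symm h).le_bk h
  have h3 := h.jj h2 hs (H := ws V a) le_rfl
  have h4 := h.jj h2 hs' (H := ws V a ⊓ ws V b) inf_le_left
  have h5 : Nat.card (ws V a ⊓ ws V b ⊓ ws V b' : Subgroup G) ≤ Nat.card Z := by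
    rw [← h.card_pt hr]
    refine Subgroup.card_le_of_le ?_
    rintro u ⟨⟨hu, hub⟩, hub'⟩
    exact h.inf_line hs hM hrM hbM hbr2 hbM' hbb'.symm hu hub hub'
  calc Nat.card (ws V a) ≤ Nat.card Z ^ m * Nat.card (ws V a ⊓ ws V b : Subgroup G) := h3
    _ ≤ Nat.card Z ^ m * (Nat.card Z ^ m * Nat.card Z) :=
      Nat.mul_le_mul_left _ (h4.trans (Nat.mul_le_mul_left _ h5))
    _ = Nat.card Z ^ (2 * m + 1) := by ring

end NT

end Cfsg.Agent.Omega.NO3S.MidQ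

end

section


/-!
# NO-3S, natural lines, critical distance 2, TYPE N, blocks `SL_m`, `m ≥ 3`: THEOREM N2 (TEXT 426-2, bb OMEGA #16785)

* `NT.not_two_blocks` : the number of blocks is not 2 (it is odd);
* `Mid.no_SLB`, `TN.no_SLB` : **THEOREM N2**.
-/

set_option autoImplicit false
set_option linter.unusedSectionVars false

namespace Cfsg.Agent.Omega.NO3S.MidQ

open Subgroup Cfsg.Agent.Omega.NO3S.PT Cfsg.Agent.Omega.NoFF.Basic Cfsg.Agent.ZN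
open scoped Pointwise

variable {G : Type*} [Group G] {V Z X Y L : Subgroup G} {Blk : Subgroup G → Set (Subgroup G)} {m : ℕ}

/-- `|A| |B| ≤ |K| |A ∩ B|` -/
theorem card_mul_le' [Finite G] {A B K : Subgroup G} (hA : A ≤ K) (hB : B ≤ K) :
    Nat.card A * Nat.card B ≤ Nat.card K * Nat.card (A ⊓ B : Subgroup G) := by
  classical
  have hr : ∀ k : K, ∃ a : A, (∃ x : A, (x : G)⁻¹ * k ∈ B) → (a : G)⁻¹ * k ∈ B := by
    intro k
    by_cases hk : ∃ x : A, (x : G)⁻¹ * k ∈ B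
    · obtain ⟨x, hx⟩ := hk
      exact ⟨x, fun _ => hx⟩
    · exact ⟨1, fun h => absurd h hk⟩
  choose r hr using hr
  have hr' : ∀ x : A × B, ((r ⟨x.1 * x.2, K.mul_mem (hA x.1.2) (hB x.2.2)⟩ : A) : G)⁻¹ * (x.1 * x.2) ∈ B := fun x =>
    hr ⟨x.1 * x.2, K.mul_mem (hA x.1.2) (hB x.2.2)⟩ ⟨x.1, by
      show (x.1 : G)⁻¹ * (x.1 * x.2) ∈ B
      rw [inv_mul_cancel_left]; exact x.2.2⟩
  let F : A × B → K × (A ⊓ B : Subgroup G) := fun x =>
    (⟨x.1 * x.2, K.mul_mem (hA x.1.2) (hB x.2.2)⟩,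
      ⟨((r ⟨x.1 * x.2, K.mul_mem (hA x.1.2) (hB x.2.2)⟩ : A) : G)⁻¹ * x.1,
        A.mul_mem (A.inv_mem (r _).2) x.1.2, by
          have h1 := B.mul_mem (hr' x) (B.inv_mem x.2.2)
          have e : ((r ⟨x.1 * x.2, K.mul_mem (hA x.1.2) (hB x.2.2)⟩ : A) : G)⁻¹ * (x.1 * x.2) * (x.2 : G)⁻¹ =
            ((r ⟨x.1 * x.2, K.mul_mem (hA x.1.2) (hB x.2.2)⟩ : A) : G)⁻¹ * x.1 := by group
          rwa [e] at h1⟩)
  have hF : Function.Injective F := by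
    rintro x y hxy
    have h1 : (⟨x.1 * x.2, K.mul_mem (hA x.1.2) (hB x.2.2)⟩ : K) = ⟨y.1 * y.2, K.mul_mem (hA y.1.2) (hB y.2.2)⟩ :=
      congrArg Prod.fst hxy
    have h2 : ((r ⟨x.1 * x.2, K.mul_mem (hA x.1.2) (hB x.2.2)⟩ : A) : G)⁻¹ * x.1 =
        ((r ⟨y.1 * y.2, K.mul_mem (hA y.1.2) (hB y.2.2)⟩ : A) : G)⁻¹ * y.1 :=
      congrArg Subtype.val (congrArg Prod.snd hxy)
    rw [h1] at h2
    have h3 : (x.1 : G) = y.1 := mul_left_cancel h2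
    have h4 : (x.1 : G) * x.2 = y.1 * y.2 := congrArg Subtype.val h1
    rw [h3] at h4
    exact Prod.ext (Subtype.ext h3) (Subtype.ext (mul_left_cancel h4))
  have h3 := Nat.card_le_card_of_injective F hF
  rwa [Nat.card_prod, Nat.card_prod] at h3

namespace NT

variable [Finite G] {S : Sylow 2 G} {P : Subgroup G} (h : NT S P V Z Blk m)
include h

theorem exists_adj_blk (hX : IsCj Z X) {D : Subgroup G} (hD : D ∈ Blk X) : ∃ A, Adj V Z A X ∧ bk Blk X A = D := by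
  have h1 : ∃ y ∈ D, y ∉ X := by
    by_contra hcon
    push Not at hcon
    have h2 : Nat.card D ≤ Nat.card X := Subgroup.card_le_of_le hcon
    rw [h.slb.card X hX D hD, h.card_pt hX] at h2
    nth_rewrite 2 [← pow_one (Nat.card Z)] at h2
    have h3 := (Nat.pow_le_pow_iff_right (h.two_le)).1 h2
    have h4 := h.slb.three
    omega
  obtain ⟨y, hy, hyX⟩ := h1
  obtain ⟨M, hM, hXM, hyM⟩ := h.slb.all X hX D hD y hy hyX
  obtain ⟨A, hA, hAM, hyA⟩ := h.exists_point hM hyM (fun e => hyX (e ▸ one_mem _))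
  have hAX : Adj V Z A X := ⟨hA, hX, fun e => hyX (e ▸ hyA), M, hM, hAM, hXM⟩
  refine ⟨A, hAX, ?_⟩
  by_contra hne
  exact hyX (h.slb.inf X hX D hD _ (h.bk_mem hAX) hne y hy (h.le_bk hAX hyA))

/-- an element of a block centralised by all `U_C`, `C` in the block, is in `X` -/
theorem blk_cent (hX : IsCj Z X) {D : Subgroup G} (hD : D ∈ Blk X) {x : G} (hx : x ∈ D)
    (hc : ∀ C, Adj V Z C X → C ≤ D → ∀ u ∈ UU V Z C, u * x = x * u) : x ∈ X := by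
  obtain ⟨A, hA, rfl⟩ := h.exists_adj_blk hX hD
  obtain ⟨B, hs⟩ := h.exists_sb hA
  obtain ⟨L, hL, hAL, hXL⟩ := hA.line
  obtain ⟨M, hM, hBM, hXM⟩ := hs.r.line
  have h1 := h.cent hA hL hXL hAL hx (hc A hA (h.le_bk hA))
  have h2 := h.cent hs.r hM hXM hBM (by rw [hs.bk_eq h]; exact hx) (hc B hs.r (hs.le_bk h))
  by_contra hxX
  have hx1 : x ≠ 1 := fun e => hxX (e ▸ one_mem _)
  obtain ⟨T, hT, hTL, hxT⟩ := h.exists_point hL h1 hx1
  obtain ⟨T', hT', hTM, hxT'⟩ := h.exists_point hM h2 hx1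
  have e := h.pts_eq hT hT' hxT hxT' hx1
  have hTX : X ≠ T := fun e => hxX (e ▸ hxT)
  have e2 := h.line_unique hX hT hTX hL hM hXL hTL hXM (e ▸ hTM)
  exact hs.ne L hL hXL hAL (e2 ▸ hBM)

/-- the number of blocks is not 2 -/
theorem not_two_blocks {D0 D1 : Subgroup G} (h0 : D0 ∈ Blk Z) (h1 : D1 ∈ Blk Z) (hV : V ≤ D0) (hne : D1 ≠ D0)
    (hall : ∀ D ∈ Blk Z, D = D0 ∨ D = D1) : False := by
  have hZ := h.pl.isCj_self
  have hVV : IsCj V V := ⟨1, (cj_one V).symm⟩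
  have hZV := h.pl.ZV
  obtain ⟨A0, hA0, hA0V, hA0Z⟩ := h.exists_second hZ hVV hZV
  have hA : Adj V Z A0 Z := ⟨hA0, hZ, hA0Z, V, hVV, hA0V, hZV⟩
  obtain ⟨A1, hA1, hA1D⟩ := h.exists_adj_blk hZ h1
  obtain ⟨M, hM, hA1M, hZM⟩ := hA1.line
  obtain ⟨a, ha1, ha2⟩ := h.exists_conj₂ hZ hVV hZV hZ hM hZM
  have hMD : M ≤ D1 := by rw [← hA1D]; exact h.line_le_bk hA1 hM hZM hA1M
  -- blocks are permuted
  have hperm : ∀ g, cj g Z = Z → ∀ D ∈ Blk Z, cj g D ∈ Blk Z := by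
    intro g hg D hD
    have := h.slb.can g Z hZ D hD
    rwa [hg] at this
  have haD : cj a D0 = D1 := by
    have h2 := hperm a ha1.symm D0 h0
    have h3 : A1 ≤ cj a D0 := by
      refine hA1M.trans ?_
      rw [ha2]
      exact cj_le_cj.2 hV
    rw [← h.bk_unique hA1 h2 h3, hA1D]
  set H := normalizer (Z : Set G) with hH
  set K := H ⊓ normalizer (D0 : Set G) with hK
  have hmem : ∀ b ∈ H, b ∈ K ↔ cj b D0 = D0 := fun b hb => by
    rw [hK, mem_inf, cj_eq_iff]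
    exact ⟨fun e => e.2, fun e => ⟨hb, e⟩⟩
  have haH : a ∈ H := cj_eq_iff.1 ha1.symm
  have hSK : (S : Subgroup G) ≤ K := by
    intro s hs
    have hsZ := h.pl.S_le_N hs
    rw [hmem s hsZ]
    have h2 := hperm s (cj_eq_iff.2 hsZ) D0 h0
    have h3 : A0 ≤ cj s D0 := by
      have e : cj s V = V := cj_eq_iff.2 (h.pl.PN (h.pl.SP hs))
      calc A0 ≤ V := hA0V
        _ = cj s V := e.symm
        _ ≤ cj s D0 := cj_le_cj.2 hV
    rw [← h.bk_unique hA h2 h3, h.bk_unique hA h0 (hA0V.trans hV)]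
  have hidx : (K.subgroupOf H).index = 2 := by
    rw [Subgroup.index_eq_two_iff]
    refine ⟨⟨a, haH⟩, fun b => ?_⟩
    have hb := b.2
    have hbZ := cj_eq_iff.2 hb
    rw [mem_subgroupOf, mem_subgroupOf]
    have e1 : ((b * ⟨a, haH⟩ : H) : G) = (b : G) * a := rfl
    rw [e1, hmem _ (mul_mem hb haH), hmem _ hb, ← cj_cj, haD]
    rcases hall _ (hperm b hbZ D0 h0) with e | e
    · refine Or.inr ⟨e, fun e2 => hne ?_⟩
      rw [← e] at e2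
      rw [e] at e2
      have h3 : cj (b : G) D1 = cj (b : G) D0 := by rw [e2, e]
      exact cj_inj.1 h3
    · refine Or.inl ⟨?_, fun e2 => hne (e.symm.trans e2)⟩
      rcases hall _ (hperm b hbZ D1 h1) with e2 | e2
      · exact e2
      · exact absurd (cj_inj.1 (e2.trans e.symm)) hne
  have h2 : K.relIndex H * H.index = K.index := relIndex_mul_index inf_le_left
  have h3 : K.relIndex H = 2 := hidx
  have h4 : 2 ∣ K.index := ⟨H.index, by rw [← h2, h3]⟩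
  exact S.not_dvd_index (h4.trans (index_dvd_of_le hSK))

variable (h2 : ATwo V Z Blk)
include h2

/-- **(A2) is impossible** -/
theorem not_ATwo (hex : ∃ A R B, Cr V Z A R B) : False := by
  obtain ⟨A, R, B, hc⟩ := hex
  -- at least two blocks at `Z`
  have hZ := h.pl.isCj_self
  have hVV : IsCj V V := ⟨1, (cj_one V).symm⟩
  have hne : bk Blk R A ≠ bk Blk R B := by
    intro e
    by_cases hl : ∃ L, IsCj V L ∧ R ≤ L ∧ A ≤ L ∧ B ≤ L
    · obtain ⟨L, hL, hRL, hAL, hBL⟩ := hl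
      exact h.cr_not_adj hc ⟨hc.l.left, hc.r.right, h.cr_ne hc, L, hL, hAL, hBL⟩
    · push Not at hl
      refine hc.ne (h2 R A B (h.sb_mk hc.l hc.r.symm ?_ fun L hL hRL hAL => hl L hL hRL hAL))
      rw [e]
      exact h.le_bk hc.r.symm
  obtain ⟨g, hg⟩ := hc.l.right
  have hgR : cj g⁻¹ R = Z := by rw [hg, cj_cj, inv_mul_cancel, cj_one]
  obtain ⟨A0, hA0, hA0V, hA0Z⟩ := h.exists_second hZ hVV h.pl.ZV
  have hA : Adj V Z A0 Z := ⟨hA0, hZ, hA0Z, V, hVV, hA0V, h.pl.ZV⟩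
  set D0 := bk Blk Z A0 with hD0
  have h0 : D0 ∈ Blk Z := h.bk_mem hA
  have hV0 : V ≤ D0 := h.line_le_bk hA hVV h.pl.ZV hA0V
  have hDA : cj g⁻¹ (bk Blk R A) ∈ Blk Z := by
    have := h.slb.can g⁻¹ R hc.l.right _ (h.bk_mem hc.l)
    rwa [hgR] at this
  have hDB : cj g⁻¹ (bk Blk R B) ∈ Blk Z := by
    have := h.slb.can g⁻¹ R hc.l.right _ (h.bk_mem hc.r.symm)
    rwa [hgR] at this
  have hD1 : ∃ D1 ∈ Blk Z, D1 ≠ D0 := by
    by_cases e : cj g⁻¹ (bk Blk R A) = D0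
    · exact ⟨_, hDB, fun e2 => hne (cj_inj.1 (e.trans e2.symm))⟩
    · exact ⟨_, hDA, e⟩
  obtain ⟨D1, h1, h10⟩ := hD1
  obtain ⟨D2, hD2, h20, h21⟩ : ∃ D ∈ Blk Z, D ≠ D0 ∧ D ≠ D1 := by
    by_contra hcon
    push Not at hcon
    refine h.not_two_blocks h0 h1 hV0 h10 fun D hD => ?_
    by_cases e : D = D0
    · exact Or.inl e
    · exact Or.inr (hcon D hD e)
  -- counting
  have hW0 := (h.slb.le Z hZ D0 h0).2
  have hW1 := (h.slb.le Z hZ D1 h1).2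
  have hW2 := (h.slb.le Z hZ D2 hD2).2
  have c1 := card_mul_le' (A := D0) (B := D1) (K := D0 ⊔ D1) le_sup_left le_sup_right
  have c2 : Nat.card (D0 ⊓ D1 : Subgroup G) ≤ Nat.card Z := Subgroup.card_le_of_le fun x hx =>
    h.slb.inf Z hZ D0 h0 D1 h1 h10 x hx.1 hx.2
  have c3 := card_mul_le' (A := D0 ⊔ D1) (B := D2) (K := ws V Z) (sup_le hW0 hW1) hW2
  have c4 : Nat.card ((D0 ⊔ D1) ⊓ D2 : Subgroup G) ≤ Nat.card Z := by
    refine Subgroup.card_le_of_le ?_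
    rintro x ⟨hx, hx2⟩
    refine h.blk_cent hZ hD2 hx2 fun C hC hCD u hu => ?_
    have h5 : D0 ⊔ D1 ≤ centralizer ({u} : Set G) := by
      have hno : ∀ D ∈ Blk Z, D2 ≠ D → ¬ C ≤ D := by
        intro D hD hne2 hCD'
        exact hne2 ((h.bk_unique hC hD2 hCD).symm.trans (h.bk_unique hC hD hCD'))
      refine sup_le (fun b hb => mem_cs.2 ?_) (fun b hb => mem_cs.2 ?_)
      · exact (h.slb.other Z C hC D0 h0 (hno D0 h0 h20) b hb u hu).symm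
      · exact (h.slb.other Z C hC D1 h1 (hno D1 h1 h21) b hb u hu).symm
    exact (mem_cs.1 (h5 hx)).symm
  have c5 := h.card_ws_le h2 hZ
  rw [h.slb.card Z hZ D0 h0, h.slb.card Z hZ D1 h1] at c1
  rw [h.slb.card Z hZ D2 hD2] at c3
  set s := Nat.card Z with hs
  have c6 : s ^ (m + 1) * s ^ (m + 1) * s ^ (m + 1) ≤ s ^ (2 * m + 3) := by
    calc s ^ (m + 1) * s ^ (m + 1) * s ^ (m + 1)
        ≤ Nat.card (D0 ⊔ D1 : Subgroup G) * s * s ^ (m + 1) :=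
          Nat.mul_le_mul_right _ (c1.trans (Nat.mul_le_mul_left _ c2))
      _ = s * (Nat.card (D0 ⊔ D1 : Subgroup G) * s ^ (m + 1)) := by ring
      _ ≤ s * (s ^ (2 * m + 1) * s) :=
          Nat.mul_le_mul_left _ (c3.trans (Nat.mul_le_mul c5 c4))
      _ = s ^ (2 * m + 3) := by ring
  have c7 : s ^ (3 * m + 3) ≤ s ^ (2 * m + 3) := by
    calc s ^ (3 * m + 3) = s ^ (m + 1) * s ^ (m + 1) * s ^ (m + 1) := by ring
      _ ≤ _ := c6
  have c8 := (Nat.pow_le_pow_iff_right (h.two_le)).1 c7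
  have c9 := h.slb.three
  omega

end NT

/-- **THEOREM N2** -/
theorem Mid.no_SLB [Finite G] {S : Sylow 2 G} {P : Subgroup G} (h : Mid S P V Z) (hN : TypN V Z)
    (hex : ∃ A R B, Cr V Z A R B) (hB : SLB V Z Blk m) : False := by
  have hn : NT S P V Z Blk m := ⟨h, hN, hB⟩
  by_cases h2 : ATwo V Z Blk
  · exact hn.not_ATwo h2 hex
  · have h3 : ∃ R A B, Sb V Z Blk R A B ∧ ¬ Com V A B := by
      by_contra hcon
      push Not at hcon
      exact h2 hcon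
    obtain ⟨R, A, B, hs, hc⟩ := h3
    refine hn.not_AOne fun R' A' B' hs' hc' => hc ?_
    obtain ⟨g, hg0, hg1, hg2⟩ := hn.sb_move hs' hs
    have h4 := hc'.cj g
    rwa [hg1, hg2] at h4

/-- **THEOREM N2** -/
theorem TN.no_SLB [Finite G] {S : Sylow 2 G} {P : Subgroup G} (h : TN S P V Z) (hB : SLB V Z Blk m) : False :=
  h.toMid.no_SLB h.comm h.ex hB

end Cfsg.Agent.Omega.NO3S.MidQ

end
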