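import Cfsg.Agent.Mrg.Omega.NO3S.MidQ.Base


/-!
# TYPE N, THEOREM N1, steps (0), (a) - (g) (TEXT 426-2)

Let `h : TN S P V Z`.

* `TN.uu_comm`, `TN.uu_sq` : `[U_R, U_R] ≤ R`, `g² ∈ R` for `g ∈ U_R`;
* `TN.exists_crit` : if `R ~ A`, some `(R, B)` is critical with middle `A`;
* with `H2`: `TN.exists_jo`, `TN.cent_or` (a); `TN.mem_cw_of_cr`, `TN.exists_of_cr` (b); `TN.jo_symm` (c);
  `TN.exists_cj_pt`, `TN.inf_const` (d); `TN.not_jo` (e); `TN.comm_mem_zu` (f); `TN.sup_zu`, `TN.com_of_jo` (g);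
* `TN.tng` : **the output `TNG`**.
-/

set_option autoImplicit false
set_option linter.unusedSectionVars false

namespace Cfsg.Agent.Omega.NO3S.MidQ

open Subgroup Cfsg.Agent.Omega.NO3S.PT Cfsg.Agent.Omega.NoFF.Basic Cfsg.Agent.ZN
open scoped Pointwise

variable {G : Type*} [Group G] {V Z X Y R L A A' B B' C : Subgroup G}

/-- the elements `g` which centralise `N` and all `[g, t]`, `t ∈ T`, are in `N` -/
def cmod (N T : Subgroup G) : Subgroup G where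
  carrier := {g | (∀ n ∈ N, g * n = n * g) ∧ ∀ t ∈ T, g * t * g⁻¹ * t⁻¹ ∈ N}
  one_mem' := ⟨fun n _ => by rw [one_mul, mul_one], fun t _ => by simp⟩
  mul_mem' := by
    rintro g g' ⟨h1, h2⟩ ⟨h3, h4⟩
    refine ⟨fun n hn => by rw [mul_assoc, h3 n hn, ← mul_assoc, h1 n hn, mul_assoc], fun t ht => ?_⟩
    have e : g * g' * t * (g * g')⁻¹ * t⁻¹ = g * (g' * t * g'⁻¹ * t⁻¹) * g⁻¹ * (g * t * g⁻¹ * t⁻¹) := by group
    rw [e, h1 _ (h4 t ht)]
    have e2 : g' * t * g'⁻¹ * t⁻¹ * g * g⁻¹ * (g * t * g⁻¹ * t⁻¹) =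
      (g' * t * g'⁻¹ * t⁻¹) * (g * t * g⁻¹ * t⁻¹) := by group
    rw [e2]
    exact N.mul_mem (h4 t ht) (h2 t ht)
  inv_mem' := by
    rintro g ⟨h1, h2⟩
    refine ⟨fun n hn => ?_, fun t ht => ?_⟩
    · have h3 := h1 n hn
      calc g⁻¹ * n = g⁻¹ * (n * g) * g⁻¹ := by group
        _ = g⁻¹ * (g * n) * g⁻¹ := by rw [h3]
        _ = n * g⁻¹ := by group
    · have h3 := N.inv_mem (h2 t ht)
      have h4 := h1 _ h3
      have e : g⁻¹ * t * g⁻¹⁻¹ * t⁻¹ = g⁻¹ * ((g * t * g⁻¹ * t⁻¹)⁻¹ * g) := by group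
      rw [e, ← h4, ← mul_assoc, inv_mul_cancel, one_mul]
      exact h3

theorem mem_cmod {N T : Subgroup G} {g : G} :
    g ∈ cmod N T ↔ (∀ n ∈ N, g * n = n * g) ∧ ∀ t ∈ T, g * t * g⁻¹ * t⁻¹ ∈ N := Iff.rfl

theorem comm_inv_mem {N : Subgroup G} {g t : G} (h : g * t * g⁻¹ * t⁻¹ ∈ N) : t * g * t⁻¹ * g⁻¹ ∈ N := by
  have h1 := N.inv_mem h
  have e : (g * t * g⁻¹ * t⁻¹)⁻¹ = t * g * t⁻¹ * g⁻¹ := by group
  rwa [e] at h1

theorem mem_zu_iff {x : G} : x ∈ zu V Z R ↔ x ∈ UU V Z R ∧ ∀ u ∈ UU V Z R, u * x = x * u := by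
  rw [zu, mem_inf, mem_centralizer_iff]
  rfl

namespace Mid

variable [Finite G] {S : Sylow 2 G} {P : Subgroup G} (h : Mid S P V Z)
include h

theorem cj_UU {g : G} (hg : g ∈ UU V Z R) (hR : IsCj Z R) : PT.cj g R = R :=
  cj_eq_iff.2 (centralizer_le_normalizer _ (h.UU_le_cent_pt hR hg))

/-- `U_A` fixes `R` for `R ~ A` -/
theorem cj_UU_adj {g : G} (hg : g ∈ UU V Z A) (hA : Adj V Z A R) : PT.cj g R = R :=
  cj_eq_iff.2 (centralizer_le_normalizer _ (h.UU_le_cent_adj hA.symm hg))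

theorem ws_le_UU_adj (hA : Adj V Z A R) : ws V A ≤ UU V Z R := le_UU hA

theorem card_pt (hX : IsCj Z X) : Nat.card X = Nat.card Z := by
  obtain ⟨g, rfl⟩ := hX
  exact card_cj g Z

theorem one_lt_card_pt : 1 < Nat.card Z := by
  obtain ⟨z, hz, hz1⟩ := h.pt_ne_bot h.pl.isCj_self
  exact Finite.one_lt_card_iff_nontrivial.2 ⟨⟨⟨z, hz⟩, 1, fun e => hz1 (congrArg Subtype.val e)⟩⟩

theorem adj_cj_UU (hA : Adj V Z A R) (hB : Adj V Z B R) {g : G} (hg : g ∈ UU V Z A) : Adj V Z (PT.cj g B) R := by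
  have h1 := hB.cj g
  rwa [h.cj_UU_adj hg hA] at h1

end Mid

theorem exists_mul_sup_tn {A B : Subgroup G} (hc : ∀ a ∈ A, ∀ b ∈ B, a * b = b * a) {v : G} (hv : v ∈ A ⊔ B) :
    ∃ a ∈ A, ∃ b ∈ B, v = a * b := by
  let T : Subgroup G :=
    { carrier := {v | ∃ a ∈ A, ∃ b ∈ B, v = a * b}
      one_mem' := ⟨1, one_mem _, 1, one_mem _, (one_mul 1).symm⟩
      mul_mem' := by
        rintro _ _ ⟨a, ha, b, hb, rfl⟩ ⟨a', ha', b', hb', rfl⟩
        refine ⟨a * a', mul_mem ha ha', b * b', mul_mem hb hb', ?_⟩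
        calc a * b * (a' * b') = a * (b * a') * b' := by group
          _ = a * (a' * b) * b' := by rw [hc a' ha' b hb]
          _ = a * a' * (b * b') := by group
      inv_mem' := by
        rintro _ ⟨a, ha, b, hb, rfl⟩
        refine ⟨a⁻¹, inv_mem ha, b⁻¹, inv_mem hb, ?_⟩
        rw [mul_inv_rev, hc a⁻¹ (inv_mem ha) b⁻¹ (inv_mem hb)] }
  have h1 : A ⊔ B ≤ T := sup_le (fun a ha => ⟨a, ha, 1, one_mem _, (mul_one a).symm⟩)
    (fun b hb => ⟨1, one_mem _, b, hb, (one_mul b).symm⟩)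
  exact h1 hv

namespace TN

variable [Finite G] {S : Sylow 2 G} {P : Subgroup G} (h : TN S P V Z)
include h

/-- **(0.a)** `U_R' ≤ R` -/
theorem uu_comm (_hR : IsCj Z R) {g g' : G} (hg : g ∈ UU V Z R) (hg' : g' ∈ UU V Z R) :
    g * g' * g⁻¹ * g'⁻¹ ∈ R := by
  have key : ∀ B, Adj V Z B R → UU V Z R ≤ cmod R (ws V B) := by
    intro B hB
    refine sSup_le ?_
    rintro _ ⟨A, hA, rfl⟩
    intro w hw
    refine mem_cmod.2 ⟨fun n hn => ?_, fun t ht => ?_⟩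
    · exact (mem_centralizer_iff.1 (h.ws_le_cent' hA hw) n hn).symm
    · by_cases hc : Com V A B
      · have e : w * t = t * w := (mem_centralizer_iff.1 (hc hw) t ht).symm
        have e2 : w * t * w⁻¹ * t⁻¹ = 1 := by rw [e]; group
        rw [e2]
        exact one_mem _
      · exact h.comm A R B ⟨hA, hB.symm, hc⟩ w hw t ht
  have key2 : UU V Z R ≤ cmod R (UU V Z R) := by
    refine sSup_le ?_
    rintro _ ⟨B, hB, rfl⟩
    intro w hw
    refine mem_cmod.2 ⟨fun n hn => ?_, fun t ht => ?_⟩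
    · exact (mem_centralizer_iff.1 (h.ws_le_cent' hB hw) n hn).symm
    · exact comm_inv_mem ((mem_cmod.1 (key B hB ht)).2 w hw)
  exact (mem_cmod.1 (key2 hg)).2 g' hg'

/-- **(0.a)** `g² ∈ R` for `g ∈ U_R` -/
theorem uu_sq (hR : IsCj Z R) {g : G} (hg : g ∈ UU V Z R) : g * g ∈ R := by
  let T : Subgroup G :=
    { carrier := {g | g ∈ UU V Z R ∧ g * g ∈ R}
      one_mem' := ⟨one_mem _, by rw [one_mul]; exact one_mem _⟩
      mul_mem' := by
        rintro a b ⟨ha, ha2⟩ ⟨hb, hb2⟩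
        refine ⟨mul_mem ha hb, ?_⟩
        have e : a * b * (a * b) = (a * a) * (a⁻¹ * b * a⁻¹⁻¹ * b⁻¹) * (b * b) := by group
        rw [e]
        exact mul_mem (mul_mem ha2 (h.uu_comm hR (inv_mem ha) hb)) hb2
      inv_mem' := by
        rintro a ⟨ha, ha2⟩
        refine ⟨inv_mem ha, ?_⟩
        rw [← mul_inv_rev]
        exact inv_mem ha2 }
  have hT : UU V Z R ≤ T := by
    refine sSup_le ?_
    rintro _ ⟨A, hA, rfl⟩
    intro w hw
    exact ⟨le_UU hA hw, by rw [h.ws_sq hA.left hw]; exact one_mem _⟩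
  exact (hT hg).2

/-- **(0.b)** `[U_A, W_R] ≤ A` for `A ~ R` -/
theorem comm_adj (hA : Adj V Z A R) {u w : G} (hu : u ∈ UU V Z A) (hw : w ∈ ws V R) : u * w * u⁻¹ * w⁻¹ ∈ A :=
  h.uu_comm hA.left hu (le_UU hA.symm hw)

/-- **(0.c)** the middle of a critical pair is unique -/
theorem middle {R' : Subgroup G} (hc : Cr V Z A R B) (hc' : Cr V Z A R' B) : R = R' := by
  by_contra hne
  apply hc.ne
  intro a ha
  refine mem_centralizer_iff.2 fun b hb => ?_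
  have h1 := h.comm A R B hc a ha b hb
  have h2 := h.comm A R' B hc' a ha b hb
  by_contra hab
  have h3 : a * b * a⁻¹ * b⁻¹ ≠ 1 := fun e => hab (by
    rw [mul_inv_eq_one, mul_inv_eq_iff_eq_mul] at e; exact e.symm)
  exact hne (h.pts_eq hc.l.right hc'.l.right h1 h2 h3)

/-- for `R ~ A` some `(R, B)` is critical with middle `A` -/
theorem exists_crit (hA : Adj V Z R A) : ∃ B, Cr V Z R A B := by
  obtain ⟨X, Y, W, hc⟩ := h.ex
  obtain ⟨L, hL, hXL, hYL⟩ := hc.l.line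
  obtain ⟨M, hM, hRM, hAM⟩ := hA.line
  obtain ⟨g, hg1, hg2⟩ := h.exists_conj₂ hc.l.right hL hYL hA.right hM hAM
  have h1 : PT.cj g X ≤ M := by rw [hg2]; exact cj_le_cj.2 hXL
  have h2 : PT.cj g X ≠ A := by rw [hg1]; exact fun e => hc.l.ne (cj_inj.1 e)
  obtain ⟨k, hk, hk2⟩ := h.K_trans hA.right hM hAM (hc.l.left.cj g) h1 hA.left hRM h2 hA.ne
  have hkA : PT.cj k A = A := cj_eq_iff.2 (kx_normalizes le_rfl (h.pt_le_ws hA.right) hk)
  refine ⟨PT.cj (k * g) W, ?_⟩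
  have h3 := hc.cj (k * g)
  rwa [← cj_cj k g X, hk2, ← cj_cj k g Y, ← hg1, hkA] at h3

variable (h2 : H2 V Z)
include h2

/-! ### (a) -/

theorem relIndex_cw (hA : Adj V Z A R) : (cw V Z R A).relIndex (ws V R) = Nat.card Z := by
  rw [cw, inf_relIndex_left]
  exact h2 R A hA

theorem card_cw (hA : Adj V Z A R) : Nat.card (cw V Z R A) * Nat.card Z = Nat.card (ws V R) := by
  have h3 := relIndex_mul_relIndex ⊥ (cw V Z R A) (ws V R) bot_le cw_le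
  rwa [relIndex_bot_left, relIndex_bot_left, h.relIndex_cw h2 hA] at h3

theorem ws_not_le (hA : Adj V Z A R) : ¬ ws V R ≤ cw V Z R A := by
  intro h1
  have h3 := h.relIndex_cw h2 hA
  rw [relIndex_eq_one.2 h1] at h3
  have := h.one_lt_card_pt
  omega

theorem exists_not_mem (hA : Adj V Z A R) : ∃ w ∈ ws V R, w ∉ cw V Z R A := by
  by_contra hno
  push Not at hno
  exact h.ws_not_le h2 hA hno

/-- **(a)** some `E` is joined to `A` -/
theorem exists_jo (hA : Adj V Z A R) : ∃ E, Jo V Z R A E := by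
  by_contra hno
  push Not at hno
  refine h.ws_not_le h2 hA (ws_le fun L hL hRL => ?_)
  obtain ⟨Y, hY, hYL, hYR⟩ := h.exists_second hA.right hL hRL
  have hYA : Adj V Z Y R := ⟨hY, hA.right, hYR, L, hL, hYL, hRL⟩
  have h3 : Y ≤ cw V Z R A := by
    by_contra h4
    exact hno Y ((h.jo_iff hA hYA).2 h4)
  exact h.line_le_of_pt hA hYA hL hRL hYL h3

/-- **(a)** `W_R = B × C_{W_R}(U_A)` if `A → B` -/
theorem exists_mul_cw (hj : Jo V Z R A B) {u : G} (hu : u ∈ ws V R) :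
    ∃ ε ∈ B, ∃ κ ∈ cw V Z R A, u = ε * κ := by
  have hBW : B ≤ ws V R := h.adj_le_ws hj.r.symm
  let f : B → (ws V R) ⧸ (cw V Z R A).subgroupOf (ws V R) := fun x => QuotientGroup.mk ⟨x.1, hBW x.2⟩
  have hf : Function.Injective f := by
    intro x y hxy
    have h3 := QuotientGroup.eq.1 hxy
    rw [mem_subgroupOf] at h3
    have h4 : x.1⁻¹ * y.1 ∈ cw V Z R A := h3
    have h5 := h.inf_cw hj (mul_mem (inv_mem x.2) y.2) h4
    exact Subtype.ext (inv_mul_eq_one.1 h5)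
  have hcard : Nat.card ((ws V R) ⧸ (cw V Z R A).subgroupOf (ws V R)) ≤ Nat.card B := by
    have h3 := h.relIndex_cw h2 hj.l
    rw [h.card_pt hj.r.left, ← h3]
    exact le_of_eq rfl
  obtain ⟨x, hx⟩ := (hf.bijective_of_nat_card_le hcard).2 (QuotientGroup.mk ⟨u, hu⟩)
  have h3 := QuotientGroup.eq.1 hx
  rw [mem_subgroupOf] at h3
  have h4 : x.1⁻¹ * u ∈ cw V Z R A := h3
  exact ⟨x.1, x.2, _, h4, by group⟩

/-- **(a)** -/
theorem cent_or (hA : Adj V Z A R) {g u : G} (hg : g ∈ UU V Z A) (hu : u ∈ ws V R) (hgu : g * u = u * g) :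
    u ∈ cw V Z R A ∨ ∀ w ∈ ws V R, g * w = w * g := by
  obtain ⟨E, hj⟩ := h.exists_jo h2 hA
  obtain ⟨ε, hε, κ, hκ, rfl⟩ := h.exists_mul_cw h2 hj hu
  have h3 := (mem_cw.1 hκ).2 g hg
  have h4 : g * ε = ε * g := by
    apply mul_right_cancel (b := κ)
    calc g * ε * κ = g * (ε * κ) := by group
      _ = ε * κ * g := hgu
      _ = ε * (κ * g) := by group
      _ = ε * (g * κ) := by rw [h3]
      _ = ε * g * κ := by group
  by_cases h5 : ε = 1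
  · left
    rw [h5, one_mul]
    exact hκ
  · right
    intro w hw
    have h6 := h.t3 hj.r.left (h.twoEl_UU hg) hε h5 h4
    obtain ⟨ε', hε', κ', hκ', rfl⟩ := h.exists_mul_cw h2 hj hw
    rw [← mul_assoc, h6 ε' hε', mul_assoc, (mem_cw.1 hκ').2 g hg, mul_assoc]

/-! ### (b) -/

/-- `C_{W_B}(g) = C_{W_B}(U_A)` for `g ∈ W_R - C(W_B)`, `(R, B)` critical with middle `A` -/
theorem mem_cw_of_comm (hc : Cr V Z R A B) {g w : G} (hg : g ∈ ws V R) (hgB : ¬ ∀ x ∈ ws V B, g * x = x * g)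
    (hw : w ∈ ws V B) (hgw : g * w = w * g) : w ∈ cw V Z B A :=
  (h.cent_or h2 hc.r (le_UU hc.l hg) hw hgw).resolve_right hgB

/-- **(b)** `C_{W_B}(W_R) = C_{W_B}(U_A)` -/
theorem mem_cw_of_cr (hc : Cr V Z R A B) {w : G} (hw : w ∈ ws V B) (hwR : ∀ x ∈ ws V R, w * x = x * w) :
    w ∈ cw V Z B A := by
  have h3 : ∃ g ∈ ws V R, ¬ ∀ x ∈ ws V B, g * x = x * g := by
    by_contra hno
    push Not at hno
    exact hc.ne fun g hg => mem_centralizer_iff.2 fun x hx => (hno g hg x hx).symm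
  obtain ⟨g, hg, hgB⟩ := h3
  exact h.mem_cw_of_comm h2 hc hg hgB hw (hwR g hg).symm

/-- **(b)** `[W_B, ε] = A` for `ε ∈ W_R - C(U_A)` -/
theorem exists_comm (hc : Cr V Z R A B) {ε α : G} (hε : ε ∈ ws V R) (hε' : ε ∉ cw V Z R A) (hα : α ∈ A) :
    ∃ w ∈ ws V B, w * ε * w⁻¹ * ε⁻¹ = α := by
  have hA : IsCj Z A := hc.l.right
  have hval : ∀ w ∈ ws V B, w * ε * w⁻¹ * ε⁻¹ ∈ A := fun w hw =>
    h.uu_comm hA (le_UU hc.r.symm hw) (le_UU hc.l hε)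
  have hcen : ∀ w ∈ ws V B, ∀ a ∈ A, w * a = a * w := fun w hw a ha =>
    (mem_centralizer_iff.1 (h.ws_le_cent' hc.r.symm hw) a ha).symm
  let f : ws V B →* A :=
    { toFun := fun w => ⟨w.1 * ε * w.1⁻¹ * ε⁻¹, hval w.1 w.2⟩
      map_one' := Subtype.ext (by simp)
      map_mul' := by
        intro w w'
        apply Subtype.ext
        show w.1 * w'.1 * ε * (w.1 * w'.1)⁻¹ * ε⁻¹ = (w.1 * ε * w.1⁻¹ * ε⁻¹) * (w'.1 * ε * w'.1⁻¹ * ε⁻¹)
        have e1 : w.1 * w'.1 * ε * (w.1 * w'.1)⁻¹ * ε⁻¹ =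
          w.1 * (w'.1 * ε * w'.1⁻¹ * ε⁻¹) * (ε * w.1⁻¹ * ε⁻¹) := by group
        rw [e1, hcen _ w.2 _ (hval _ w'.2), mul_assoc]
        have e2 : w.1 * (ε * w.1⁻¹ * ε⁻¹) = w.1 * ε * w.1⁻¹ * ε⁻¹ := by group
        rw [e2]
        exact h.ws_comm hA (h.pt_le_ws hA (hval _ w'.2)) (h.pt_le_ws hA (hval _ w.2)) }
  have hker : f.ker = (cw V Z B A).subgroupOf (ws V B) := by
    ext w
    rw [MonoidHom.mem_ker, mem_subgroupOf]
    constructor
    · intro h3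
      have h4 : w.1 * ε * w.1⁻¹ * ε⁻¹ = 1 := congrArg Subtype.val h3
      rw [mul_inv_eq_one, mul_inv_eq_iff_eq_mul] at h4
      have h5 := (h.cent_or h2 hc.l.symm (le_UU hc.r.symm w.2) hε h4).resolve_left hε'
      exact h.mem_cw_of_cr h2 hc w.2 h5
    · intro h3
      apply Subtype.ext
      show w.1 * ε * w.1⁻¹ * ε⁻¹ = 1
      have h4 := (mem_cw.1 h3).2 ε (le_UU hc.l hε)
      rw [mul_inv_eq_one, mul_inv_eq_iff_eq_mul]
      exact h4.symm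
  have hrange : f.range = ⊤ := by
    apply eq_top_of_card_eq
    rw [← index_ker, hker, h.card_pt hA]
    exact h.relIndex_cw h2 hc.r
  have hmem : (⟨α, hα⟩ : A) ∈ f.range := by rw [hrange]; exact mem_top _
  obtain ⟨w, hw⟩ := hmem
  exact ⟨w.1, w.2, congrArg Subtype.val hw⟩

/-- **(b)** `U_A = W_B C_{U_A}(W_R)` -/
theorem exists_of_cr (hc : Cr V Z R A B) {g : G} (hg : g ∈ UU V Z A) :
    ∃ w ∈ ws V B, ∀ x ∈ ws V R, w⁻¹ * g * x = x * (w⁻¹ * g) := by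
  obtain ⟨E, hj⟩ := h.exists_jo h2 hc.l.symm
  obtain ⟨ε, hε, hε1⟩ := h.pt_ne_bot hj.r.left
  have hεW := h.adj_le_ws hj.r.symm hε
  have hε' : ε ∉ cw V Z R A := fun e => hε1 (h.inf_cw hj hε e)
  obtain ⟨w, hw, hwε⟩ := h.exists_comm h2 hc hεW hε' (h.comm_adj hc.l.symm hg hεW)
  refine ⟨w, hw, ?_⟩
  have h3 : w⁻¹ * g * ε = ε * (w⁻¹ * g) := by
    have h4 : w * ε * w⁻¹ = g * ε * g⁻¹ := mul_right_cancel hwε
    calc w⁻¹ * g * ε = w⁻¹ * (g * ε * g⁻¹) * g := by group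
      _ = w⁻¹ * (w * ε * w⁻¹) * g := by rw [h4]
      _ = ε * (w⁻¹ * g) := by group
  exact (h.cent_or h2 hc.l.symm (mul_mem (inv_mem (le_UU hc.r.symm hw)) hg) hεW h3).resolve_left hε'

/-! ### (c) -/

/-- **(c)** `joined` is symmetric -/
theorem jo_symm (hj : Jo V Z R A B) : Jo V Z R B A := by
  by_contra hno
  have h3 : A ≤ cw V Z R B := by
    by_contra h4
    exact hno ((h.jo_iff hj.r hj.l).2 h4)
  have hle : cw V Z R A ≤ cw V Z R B := by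
    intro x hx
    refine mem_cw.2 ⟨(mem_cw.1 hx).1, fun u hu => ?_⟩
    have h5 : u * x * u⁻¹ * x⁻¹ ∈ B := h.comm_adj hj.r hu (mem_cw.1 hx).1
    have hA' : PT.cj u A = A := cj_eq_iff.2 (centralizer_le_normalizer _
      (mem_centralizer_iff.2 fun a ha => ((mem_cw.1 (h3 ha)).2 u hu).symm))
    have hR' : PT.cj u R = R := h.cj_UU_adj hu hj.r
    have h6 : u * x * u⁻¹ ∈ cw V Z R A := by
      have h8 := conj_mem_cj (g := u) hx
      rwa [← cw_cj, hR', hA'] at h8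
    have h7 := h.inf_cw hj h5 (mul_mem h6 (inv_mem hx))
    rwa [mul_inv_eq_one, mul_inv_eq_iff_eq_mul] at h7
  have heq : cw V Z R A = cw V Z R B := by
    refine Subgroup.eq_of_le_of_card_ge hle (le_of_eq ?_)
    have e1 := h.card_cw h2 hj.l
    have e2 := h.card_cw h2 hj.r
    exact Nat.eq_of_mul_eq_mul_right Nat.card_pos (e2.trans e1.symm)
  obtain ⟨L, hL, hBL, hRL⟩ := hj.r.line
  refine (h.jo_iff hj.l hj.r).1 hj ?_
  rw [heq]
  exact hBL.trans (h.line_le_cw hL hRL hBL)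

theorem jo_ne (hj : Jo V Z R A B) : A ≠ B := by
  rintro rfl
  exact hj.mv ((le_centralizer_iff.1 (h.UU_le_cent_pt hj.l.left)))

/-! ### (d) -/

omit h2 in
theorem cj_le_sup (hA : Adj V Z A R) (hB : Adj V Z B R) {g : G} (hg : g ∈ UU V Z A) : PT.cj g B ≤ A ⊔ B := by
  intro x hx
  rw [mem_cj] at hx
  have h3 := h.comm_adj hA hg (h.adj_le_ws hB.symm hx)
  have e : x = (g * (g⁻¹ * x * g) * g⁻¹ * (g⁻¹ * x * g)⁻¹) * (g⁻¹ * x * g) := by group
  rw [e]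
  exact mul_mem (mem_sup_left h3) (mem_sup_right hx)

omit h2 in
theorem comm_pts (hA : Adj V Z A R) (hB : Adj V Z B R) : ∀ a ∈ A, ∀ b ∈ B, a * b = b * a := fun _ ha _ hb =>
  h.ws_comm hA.right (h.adj_le_ws hA.symm ha) (h.adj_le_ws hB.symm hb)

/-- **(d)** `A, B` joined at `R`, `(R, C)` critical with middle `A`: every `v ∈ AB - A` is in some `B^w`, `w ∈ W_C` -/
theorem exists_cj_mem (hj : Jo V Z R A B) (hc : Cr V Z R A C) {v : G} (hv : v ∈ A ⊔ B) (hvA : v ∉ A) :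
    ∃ w ∈ ws V C, v ∈ PT.cj w B := by
  obtain ⟨α, hα, β, hβ, rfl⟩ := exists_mul_sup_tn (h.comm_pts hj.l hj.r) hv
  have hβ1 : β ≠ 1 := fun e => hvA (by rw [e, mul_one]; exact hα)
  obtain ⟨w, hw, hwβ⟩ := h.exists_comm h2 hc (h.adj_le_ws hj.r.symm hβ) (fun e => hβ1 (h.inf_cw hj hβ e)) hα
  refine ⟨w, hw, ?_⟩
  have e : α * β = w * β * w⁻¹ := by rw [← hwβ]; group
  rw [e]
  exact conj_mem_cj hβ

/-- **(d)** every point `Y ≠ A` contained in `AB` is `B^w` for some `w ∈ W_C` -/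
theorem exists_cj_pt (hj : Jo V Z R A B) (hc : Cr V Z R A C) (hY : IsCj Z Y) (hYAB : Y ≤ A ⊔ B) (hYA : Y ≠ A) :
    ∃ w ∈ ws V C, Y = PT.cj w B := by
  obtain ⟨y, hy, hy1⟩ := h.pt_ne_bot hY
  have h3 : y ∉ A := fun e => hYA (h.pts_eq hY hj.l.left hy e hy1)
  obtain ⟨w, hw, hwy⟩ := h.exists_cj_mem h2 hj hc (hYAB hy) h3
  exact ⟨w, hw, h.pts_eq hY (hj.r.left.cj w) hy hwy hy1⟩

/-- **(d)** all points contained in `AB` are `~ R` -/
theorem adj_of_le (hj : Jo V Z R A B) (hY : IsCj Z Y) (hYAB : Y ≤ A ⊔ B) : Adj V Z Y R := by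
  by_cases hYA : Y = A
  · rw [hYA]; exact hj.l
  obtain ⟨C, hc⟩ := h.exists_crit hj.l.symm
  obtain ⟨w, hw, rfl⟩ := h.exists_cj_pt h2 hj hc hY hYAB hYA
  exact h.adj_cj_UU hj.l hj.r (le_UU hc.r.symm hw)

/-- **(d)** `W_A ∩ W_Y = W_A ∩ W_B` for the points `Y ≠ A` contained in `AB` -/
theorem inf_const (hj : Jo V Z R A B) (hY : IsCj Z Y) (hYAB : Y ≤ A ⊔ B) (hYA : Y ≠ A) :
    ws V A ⊓ ws V Y = ws V A ⊓ ws V B := by
  obtain ⟨C, hc⟩ := h.exists_crit hj.l.symm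
  obtain ⟨w, hw, rfl⟩ := h.exists_cj_pt h2 hj hc hY hYAB hYA
  have hwU : w ∈ UU V Z A := le_UU hc.r.symm hw
  have e1 : PT.cj w (ws V A ⊓ ws V B) = ws V A ⊓ ws V (PT.cj w B) := by
    rw [cj_inf, ← ws_cj, ← ws_cj, h.cj_UU hwU hj.l.left]
  have e2 : PT.cj w (ws V A ⊓ ws V B) = ws V A ⊓ ws V B := by
    refine cj_eq_iff.2 (centralizer_le_normalizer _ ?_)
    exact centralizer_le (inf_le_left : ws V A ⊓ ws V B ≤ ws V A) (h.UU_le_centralizer A hwU)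
  rw [← e1, e2]

/-- a third point in `AB` -/
theorem exists_third_pt (hj : Jo V Z R A B) : ∃ Y, IsCj Z Y ∧ Y ≤ A ⊔ B ∧ Y ≠ A ∧ Y ≠ B := by
  obtain ⟨C, hc⟩ := h.exists_crit hj.l.symm
  obtain ⟨α, hα, hα1⟩ := h.pt_ne_bot hj.l.left
  obtain ⟨β, hβ, hβ1⟩ := h.pt_ne_bot hj.r.left
  have hne := h.jo_ne h2 hj
  have hv : α * β ∈ A ⊔ B := mul_mem (mem_sup_left hα) (mem_sup_right hβ)
  have hvA : α * β ∉ A := by
    intro e
    have h3 : β ∈ A := by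
      have h4 := mul_mem (inv_mem hα) e
      rwa [inv_mul_cancel_left] at h4
    exact hne (h.pts_eq hj.l.left hj.r.left h3 hβ hβ1)
  have hvB : α * β ∉ B := by
    intro e
    have h3 : α ∈ B := by
      have h4 := mul_mem e (inv_mem hβ)
      rwa [mul_inv_cancel_right] at h4
    exact hne (h.pts_eq hj.l.left hj.r.left hα h3 hα1)
  obtain ⟨w, hw, hwv⟩ := h.exists_cj_mem h2 hj hc hv hvA
  refine ⟨PT.cj w B, hj.r.left.cj w, h.cj_le_sup hj.l hj.r (le_UU hc.r.symm hw), ?_, ?_⟩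
  · intro e
    rw [e] at hwv
    exact hvA hwv
  · intro e
    rw [e] at hwv
    exact hvB hwv

/-! ### (e) -/

/-- **(e)** a critical pair `(C, R)` with middle `Q` is not joined at `Q` -/
theorem not_jo {Q : Subgroup G} (hc : Cr V Z C Q R) : ¬ Jo V Z Q R C := by
  intro hj
  obtain ⟨w, hw, hwC⟩ : ∃ w ∈ UU V Z R, PT.cj w C ≠ C := by
    by_contra hno
    push Not at hno
    refine hj.mv fun c hcC => mem_centralizer_iff.2 fun w hw => ?_
    exact h.t3n hj.r.left (h.twoEl_UU hw) (hno w hw) c hcC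
  have hj' := h.jo_symm h2 hj
  obtain ⟨E, hE⟩ := h.exists_crit hj'.l.symm
  obtain ⟨w', hw', hD⟩ := h.exists_cj_pt h2 hj' hE (hj.r.left.cj w)
    (by rw [sup_comm]; exact h.cj_le_sup hj.l hj.r hw) hwC
  have hw'U : w' ∈ UU V Z C := le_UU hE.r.symm hw'
  have hcr : Cr V Z C Q (PT.cj w C) := by
    have h3 := hc.cj w'
    rwa [h.cj_UU hw'U hj.r.left, h.cj_UU_adj hw'U hj.r, ← hD] at h3
  have hwQ : PT.cj w Q = Q := h.cj_UU_adj hw hj.l
  obtain ⟨y, hy, hy'⟩ := h.exists_not_mem h2 hc.l.symm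
  have hyN : y ∈ normalizer ((UU V Z R : Subgroup G) : Set G) :=
    normalizer_le_UU V Z R (centralizer_le_normalizer _ (h.ws_le_cent hc.l hc.r hy))
  have hyD : w * y * w⁻¹ ∈ ws V (PT.cj w C) := by
    rw [ws_cj]
    exact conj_mem_cj hy
  have ht : w * y * w⁻¹ * y⁻¹ ∈ UU V Z R := by
    have h3 := (mem_normalizer_iff.1 hyN w⁻¹).1 (inv_mem hw)
    have e : w * y * w⁻¹ * y⁻¹ = w * (y * w⁻¹ * y⁻¹) := by group
    rw [e]
    exact mul_mem hw h3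
  have ht2 := h.uu_sq hc.r.right ht
  have hyy : y * y = 1 := h.ws_sq hc.l.left hy
  have hyi : y⁻¹ = y := inv_eq_of_mul_eq_one_left hyy
  have hcomm : w * y * w⁻¹ * y * (w * y * w⁻¹)⁻¹ * y⁻¹ ∈ R := by
    have e : w * y * w⁻¹ * y * (w * y * w⁻¹)⁻¹ * y⁻¹ =
        w * y * w⁻¹ * y⁻¹ * (w * y * w⁻¹ * y⁻¹) := by
      have e1 : (w * y * w⁻¹)⁻¹ = w * y * w⁻¹ := by
        rw [mul_inv_rev, mul_inv_rev, inv_inv, hyi, mul_assoc]
      rw [e1]
      nth_rewrite 2 [← hyi]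
      group
    rw [e]
    exact ht2
  have hcomm' := h.comm _ Q _ hcr.symm _ hyD y hy
  have h1 : w * y * w⁻¹ * y * (w * y * w⁻¹)⁻¹ * y⁻¹ = 1 := by
    by_contra hne
    exact hc.r.ne (h.pts_eq hc.l.right hc.r.right hcomm' hcomm hne)
  rw [mul_inv_eq_one, mul_inv_eq_iff_eq_mul] at h1
  rcases h.cent_or h2 hcr.r (le_UU hc.l hy) hyD h1.symm with h3 | h3
  · rw [← hwQ, cw_cj, mem_cj] at h3
    have e : w⁻¹ * (w * y * w⁻¹) * w = y := by group
    rw [e] at h3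
    exact hy' h3
  · exact hy' (h.mem_cw_of_cr h2 hcr.symm hy h3)

/-- **(e)** `U_R` centralises `C` -/
theorem cent_of_cr {Q : Subgroup G} (hc : Cr V Z C Q R) : C ≤ centralizer ((UU V Z R : Subgroup G) : Set G) := by
  by_contra h3
  exact h.not_jo h2 hc ⟨hc.r.symm, hc.l, h3⟩

/-! ### (f) -/

/-- **(f)** `[U_R, W_C] ≤ Z(U_R)` -/
theorem comm_mem_zu {Q : Subgroup G} (hc : Cr V Z C Q R) {u y : G} (hu : u ∈ UU V Z R) (hy : y ∈ ws V C) :
    u * y * u⁻¹ * y⁻¹ ∈ zu V Z R := by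
  have hN : UU V Z R ≤ normalizer ((ws V C : Subgroup G) : Set G) := by
    intro v hv
    refine normalizer_le_ws V C (centralizer_le_normalizer _ (mem_centralizer_iff.2 fun c hcC => ?_))
    exact (mem_centralizer_iff.1 (h.cent_of_cr h2 hc hcC) v hv).symm
  have hyN : y ∈ normalizer ((UU V Z R : Subgroup G) : Set G) :=
    normalizer_le_UU V Z R (centralizer_le_normalizer _ (h.ws_le_cent hc.l hc.r hy))
  have hx1 : u * y * u⁻¹ * y⁻¹ ∈ ws V C :=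
    mul_mem ((mem_normalizer_iff.1 (hN hu) y).1 hy) (inv_mem hy)
  have hx2 : u * y * u⁻¹ * y⁻¹ ∈ UU V Z R := by
    have h3 := (mem_normalizer_iff.1 hyN u⁻¹).1 (inv_mem hu)
    have e : u * y * u⁻¹ * y⁻¹ = u * (y * u⁻¹ * y⁻¹) := by group
    rw [e]
    exact mul_mem hu h3
  refine mem_zu_iff.2 ⟨hx2, fun v hv => ?_⟩
  have h3 := h.uu_comm hc.r.right hv hx2
  have h4 := mul_mem ((mem_normalizer_iff.1 (hN hv) _).1 hx1) (inv_mem hx1)
  have h5 := h.star' hc h3 h4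
  rwa [mul_inv_eq_one, mul_inv_eq_iff_eq_mul] at h5

/-! ### (g) -/

/-- `W_{B^w} ≤ W_B Z(U_R)` for `w ∈ W_C`, `(C, R)` critical -/
theorem ws_cj_le {Q : Subgroup G} (hc : Cr V Z C Q R) (hB : Adj V Z B R) {w : G} (hw : w ∈ ws V C) :
    ws V (PT.cj w B) ≤ ws V B ⊔ zu V Z R := by
  intro x hx
  rw [ws_cj, mem_cj] at hx
  have h3 := comm_inv_mem (h.comm_mem_zu h2 hc (le_UU hB hx) hw)
  have e : x = (w * (w⁻¹ * x * w) * w⁻¹ * (w⁻¹ * x * w)⁻¹) * (w⁻¹ * x * w) := by group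
  rw [e]
  exact mul_mem (mem_sup_right h3) (mem_sup_left hx)

theorem sup_zu_cj {Q : Subgroup G} (hc : Cr V Z C Q R) (hB : Adj V Z B R) {w : G} (hw : w ∈ ws V C) :
    ws V (PT.cj w B) ⊔ zu V Z R = ws V B ⊔ zu V Z R := by
  have hwR : PT.cj w R = R := cj_eq_iff.2 (centralizer_le_normalizer _ (h.ws_le_cent hc.l hc.r hw))
  have hB' : Adj V Z (PT.cj w B) R := by
    have h3 := hB.cj w
    rwa [hwR] at h3
  apply le_antisymm
  · exact sup_le (h.ws_cj_le h2 hc hB hw) le_sup_right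
  · refine sup_le ?_ le_sup_right
    have h3 := h.ws_cj_le h2 hc hB' (inv_mem hw)
    rwa [cj_cj, inv_mul_cancel, cj_one] at h3

/-- **(g)** `W_A Z(U_R) = W_B Z(U_R)` if `A`, `B` are joined at `R` -/
theorem sup_zu (hj : Jo V Z R A B) : ws V A ⊔ zu V Z R = ws V B ⊔ zu V Z R := by
  obtain ⟨Y, hY, hYAB, hYA, hYB⟩ := h.exists_third_pt h2 hj
  have key : ∀ A B, Jo V Z R A B → Y ≤ A ⊔ B → Y ≠ A → ws V Y ⊔ zu V Z R = ws V B ⊔ zu V Z R := by
    intro A B hj hYAB hYA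
    obtain ⟨C, hc⟩ := h.exists_crit hj.l.symm
    obtain ⟨w, hw, rfl⟩ := h.exists_cj_pt h2 hj hc hY hYAB hYA
    exact h.sup_zu_cj h2 hc.symm hj.r hw
  rw [← key A B hj hYAB hYA, key B A (h.jo_symm h2 hj) (by rw [sup_comm]; exact hYAB) hYB]

/-- **(g)** joined points commute -/
theorem com_of_jo (hj : Jo V Z R A B) : Com V A B := by
  have h3 : ws V A ≤ ws V B ⊔ zu V Z R := by
    rw [← h.sup_zu h2 hj]
    exact le_sup_left
  refine h3.trans (sup_le (h.com_self hj.r.left) ?_)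
  intro z hz
  exact centralizer_le (le_UU hj.r : ws V B ≤ UU V Z R) hz.2

/-- **the output of (a) - (g)** -/
theorem tng : TNG S P V Z where
  toTN := h
  h2 := h2
  symm _ _ _ hj := h.jo_symm h2 hj
  cent R A hA g hg w hw hgw := by
    rcases h.cent_or h2 hA hg hw hgw with h3 | h3
    · exact Or.inl h3
    · exact Or.inr (mem_centralizer_iff.2 fun x hx => (h3 x hx).symm)
  infc _ _ _ _ hj hY hYAB hYA := h.inf_const h2 hj hY hYAB hYA
  wz _ _ _ hj := h.sup_zu h2 hj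

end TN

end Cfsg.Agent.Omega.NO3S.MidQ
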