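import Cfsg.Agent.Mrg.Omega.NO3S.MidQ.Base

section


/-!
# TYPE N: components and the final count (TEXT 426-2, (h) - (k))

* `TNG` : the output of (a) - (g);
* `Cmp V Z R A B` : `A`, `B` are in one component at `R`; `bb V Z R A` the block of `A`, `cc V Z R A` the product of
  the other blocks;
* `TNG.false`.
-/

set_option autoImplicit false
set_option linter.unusedSectionVars false

namespace Cfsg.Agent.Omega.NO3S.MidQ

open Subgroup Cfsg.Agent.Omega.NO3S.PT Cfsg.Agent.Omega.NoFF.Basic Cfsg.Agent.ZN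
open scoped Pointwise

variable {G : Type*} [Group G] {V Z X Y R L A A' B B' : Subgroup G}

/-- `A`, `B` are in one component at `R` -/
def Cmp (V Z R A B : Subgroup G) : Prop := Relation.EqvGen (Jo V Z R) A B

/-- the block of `A` at `R` -/
def bb (V Z R A : Subgroup G) : Subgroup G := R ⊔ sSup {B | Adj V Z B R ∧ Cmp V Z R A B}

/-- the product of the other blocks at `R` -/
def cc (V Z R A : Subgroup G) : Subgroup G := R ⊔ sSup {B | Adj V Z B R ∧ ¬ Cmp V Z R A B}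

theorem Cmp.cj (h : Cmp V Z R A B) (g : G) : Cmp V Z (cj g R) (cj g A) (cj g B) := by
  unfold Cmp at h
  induction h with
  | rel A B h => exact Relation.EqvGen.rel _ _ (h.cj g)
  | refl A => exact Relation.EqvGen.refl _
  | symm A B _ ih => exact Relation.EqvGen.symm _ _ ih
  | trans A B C _ _ ih1 ih2 => exact Relation.EqvGen.trans _ _ _ ih1 ih2

theorem cmp_cj {g : G} : Cmp V Z (cj g R) (cj g A) (cj g B) ↔ Cmp V Z R A B := by
  refine ⟨fun h => ?_, fun h => h.cj g⟩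
  have := h.cj g⁻¹
  rwa [cj_cj, cj_cj, cj_cj, inv_mul_cancel, cj_one, cj_one, cj_one] at this

theorem Cmp.symm (h : Cmp V Z R A B) : Cmp V Z R B A := Relation.EqvGen.symm _ _ h

theorem Cmp.trans {C : Subgroup G} (h : Cmp V Z R A B) (h' : Cmp V Z R B C) : Cmp V Z R A C :=
  Relation.EqvGen.trans _ _ _ h h'

theorem Jo.cmp (h : Jo V Z R A B) : Cmp V Z R A B := Relation.EqvGen.rel _ _ h

theorem adj_cj {g : G} : Adj V Z (cj g A) (cj g B) ↔ Adj V Z A B := by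
  refine ⟨fun h => ?_, fun h => h.cj g⟩
  have := h.cj g⁻¹
  rwa [cj_cj, cj_cj, inv_mul_cancel, cj_one, cj_one] at this

theorem cj_sup' (g : G) (A B : Subgroup G) : cj g (A ⊔ B) = cj g A ⊔ cj g B := by
  refine le_antisymm ?_ (sup_le (cj_le_cj.2 le_sup_left) (cj_le_cj.2 le_sup_right))
  rw [cj_le_iff]
  refine sup_le ?_ ?_
  · rw [← cj_le_iff]; exact le_sup_left
  · rw [← cj_le_iff]; exact le_sup_right

theorem bb_cj (V Z R A : Subgroup G) (g : G) : bb V Z (cj g R) (cj g A) = cj g (bb V Z R A) := by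
  have key : ∀ (g : G) (R A : Subgroup G), cj g (bb V Z R A) ≤ bb V Z (cj g R) (cj g A) := by
    intro g R A
    rw [bb, cj_sup']
    refine sup_le le_sup_left ?_
    rw [cj_le_iff]
    refine sSup_le ?_
    rintro B ⟨h1, h2⟩
    rw [le_cj_iff, inv_inv]
    exact (le_sSup (show cj g B ∈ {B | Adj V Z B (cj g R) ∧ Cmp V Z (cj g R) (cj g A) B} from
      ⟨h1.cj g, h2.cj g⟩)).trans le_sup_right
  refine le_antisymm ?_ (key g R A)
  have h1 := key g⁻¹ (cj g R) (cj g A)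
  rw [cj_cj, cj_cj, inv_mul_cancel, cj_one, cj_one, cj_le_iff, inv_inv] at h1
  exact h1

theorem cc_cj (V Z R A : Subgroup G) (g : G) : cc V Z (cj g R) (cj g A) = cj g (cc V Z R A) := by
  have key : ∀ (g : G) (R A : Subgroup G), cj g (cc V Z R A) ≤ cc V Z (cj g R) (cj g A) := by
    intro g R A
    rw [cc, cj_sup']
    refine sup_le le_sup_left ?_
    rw [cj_le_iff]
    refine sSup_le ?_
    rintro B ⟨h1, h2⟩
    rw [le_cj_iff, inv_inv]
    exact (le_sSup (show cj g B ∈ {B | Adj V Z B (cj g R) ∧ ¬ Cmp V Z (cj g R) (cj g A) B} from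
      ⟨h1.cj g, fun e => h2 (cmp_cj.1 e)⟩)).trans le_sup_right
  refine le_antisymm ?_ (key g R A)
  have h1 := key g⁻¹ (cj g R) (cj g A)
  rw [cj_cj, cj_cj, inv_mul_cancel, cj_one, cj_one, cj_le_iff, inv_inv] at h1
  exact h1

theorem bb_congr {A B : Subgroup G} (h : Cmp V Z R A B) : bb V Z R A = bb V Z R B := by
  have h1 : {C | Adj V Z C R ∧ Cmp V Z R A C} = {C | Adj V Z C R ∧ Cmp V Z R B C} := by
    ext C
    exact ⟨fun h2 => ⟨h2.1, h.symm.trans h2.2⟩, fun h2 => ⟨h2.1, h.trans h2.2⟩⟩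
  rw [bb, bb, h1]

theorem R_le_bb (V Z R A : Subgroup G) : R ≤ bb V Z R A := le_sup_left

theorem R_le_cc (V Z R A : Subgroup G) : R ≤ cc V Z R A := le_sup_left

theorem le_bb (hB : Adj V Z B R) (h : Cmp V Z R A B) : B ≤ bb V Z R A :=
  (le_sSup (show B ∈ {B | Adj V Z B R ∧ Cmp V Z R A B} from ⟨hB, h⟩)).trans le_sup_right

theorem le_cc (hB : Adj V Z B R) (h : ¬ Cmp V Z R A B) : B ≤ cc V Z R A :=
  (le_sSup (show B ∈ {B | Adj V Z B R ∧ ¬ Cmp V Z R A B} from ⟨hB, h⟩)).trans le_sup_right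

/-- counting conjugates -/
theorem relIndex_le_of_conj [Finite G] {W N : Subgroup G} {e : G} (h : ∀ y ∈ W, y * e * y⁻¹ * e⁻¹ ∈ N) :
    (centralizer ({e} : Set G)).relIndex W ≤ Nat.card N := by
  rw [Subgroup.relIndex, Subgroup.index]
  let f : W ⧸ (centralizer ({e} : Set G)).subgroupOf W → N := Quotient.lift
    (fun y : W => (⟨y * e * (y : G)⁻¹ * e⁻¹, h y y.2⟩ : N)) (by
      intro a b hab
      have h1 : (a : G)⁻¹ * b ∈ centralizer ({e} : Set G) := by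
        have h2 := QuotientGroup.leftRel_apply.1 hab
        exact mem_subgroupOf.1 h2
      have h3 : (a : G)⁻¹ * b * e = e * ((a : G)⁻¹ * b) := mem_centralizer_singleton_iff.1 h1
      apply Subtype.ext
      show (a : G) * e * (a : G)⁻¹ * e⁻¹ = b * e * (b : G)⁻¹ * e⁻¹
      have h4 : (b : G) * e = a * e * ((a : G)⁻¹ * b) := by
        rw [mul_assoc (a : G), ← h3]; group
      rw [h4]
      group)
  refine Nat.card_le_card_of_injective f ?_
  rintro ⟨a⟩ ⟨b⟩ hab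
  have h1 : (a : G) * e * (a : G)⁻¹ * e⁻¹ = b * e * (b : G)⁻¹ * e⁻¹ := congrArg Subtype.val hab
  apply Quotient.sound
  apply QuotientGroup.leftRel_apply.2
  rw [mem_subgroupOf]
  show (a : G)⁻¹ * b ∈ centralizer ({e} : Set G)
  rw [mem_centralizer_singleton_iff]
  have h2 : (a : G) * e * (a : G)⁻¹ = b * e * (b : G)⁻¹ := mul_right_cancel h1
  calc (a : G)⁻¹ * b * e = (a : G)⁻¹ * (b * e * (b : G)⁻¹) * b := by group
    _ = (a : G)⁻¹ * (a * e * (a : G)⁻¹) * b := by rw [h2]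
    _ = e * ((a : G)⁻¹ * b) := by group

namespace Mid

variable [Finite G] {S : Sylow 2 G} {P : Subgroup G} (h : Mid S P V Z)
include h

/-- ordered adjacent pairs are conjugate -/
theorem exists_adj {R' : Subgroup G} (hA : Adj V Z A R) (hA' : Adj V Z A' R') : ∃ g : G, cj g R = R' ∧ cj g A = A' := by
  obtain ⟨L, hL, hAL, hRL⟩ := hA.line
  obtain ⟨L', hL', hAL', hRL'⟩ := hA'.line
  obtain ⟨g, hg, hgL⟩ := h.exists_conj₂ hA.right hL hRL hA'.right hL' hRL'
  have h1 : PT.cj g A ≤ L' := by rw [hgL]; exact cj_le_cj.2 hAL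
  have h2 : PT.cj g A ≠ R' := by
    rw [hg]
    exact fun e => hA.ne (cj_inj.1 e)
  obtain ⟨k, hk, hkA⟩ := h.K_trans hA'.right hL' hRL' (hA.left.cj g) h1 hA'.left hAL' h2 hA'.ne
  refine ⟨k * g, ?_, by rw [← cj_cj, hkA]⟩
  rw [← cj_cj, ← hg]
  exact cj_eq_iff.2 (kx_normalizes le_rfl (h.pt_le_ws hA'.right) hk)

/-- a 2-element normalising a point fixes a line on it -/
theorem exists_fix_line (hR : IsCj Z R) {t : G} (ht : TwoEl t) (htR : PT.cj t R = R) :
    ∃ L, IsCj V L ∧ R ≤ L ∧ PT.cj t L = L := by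
  obtain ⟨g, rfl⟩ := hR
  obtain ⟨m, hm, htm⟩ := exists_le_conj (h.pl.conj g).S_le_N ht.isPGroup ((zpowers_le).2 (cj_eq_iff.1 htR))
  refine ⟨PT.cj m (PT.cj g V), ⟨m * g, by rw [cj_cj]⟩, ?_, ?_⟩
  · rw [← cj_eq_iff.2 hm]
    rw [cj_eq_iff.2 hm]
    have h1 := cj_le_cj (g := m) |>.2 (cj_le_cj (g := g) |>.2 h.pl.ZV)
    rwa [cj_eq_iff.2 hm] at h1
  · have h1 : t ∈ PT.cj m ((g • S : Sylow 2 G) : Subgroup G) := htm (mem_zpowers t)
    have h2 := ((h.pl.conj g).conj m)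
    exact cj_eq_iff.2 (h2.PN (h2.SP h1))

end Mid


theorem card_mul_relIndex' {A B : Subgroup G} (h : A ≤ B) : Nat.card A * A.relIndex B = Nat.card B := by
  rw [Subgroup.relIndex, ← Nat.card_congr (Subgroup.subgroupOfEquivOfLe h).toEquiv]
  exact Subgroup.card_mul_index _

/-- `|K L| |K ∩ L| = |K| |L|` for commuting subgroups -/
theorem card_sup_mul' [Finite G] {K L : Subgroup G} (h : ∀ a ∈ K, ∀ b ∈ L, a * b = b * a) :
    Nat.card (K ⊔ L : Subgroup G) * Nat.card (K ⊓ L : Subgroup G) = Nat.card K * Nat.card L := by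
  have hLK : L ≤ normalizer (K : Set G) := by
    refine (?_ : L ≤ centralizer (K : Set G)).trans (centralizer_le_normalizer _)
    intro b hb
    exact mem_centralizer_iff.mpr fun a ha => h a ha b hb
  have hKn : (K.subgroupOf (K ⊔ L)).Normal :=
    normal_subgroupOf_of_le_normalizer (sup_le le_normalizer hLK)
  have h1 := relIndex_sup_left (L.subgroupOf (K ⊔ L)) (K.subgroupOf (K ⊔ L))
  rw [← Subgroup.subgroupOf_sup le_sup_left le_sup_right, Subgroup.subgroupOf_self,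
    Subgroup.relIndex_subgroupOf le_sup_right, relIndex_top_right] at h1
  have h2 : Nat.card K * K.relIndex L = Nat.card (K ⊔ L : Subgroup G) := by
    rw [← h1]
    exact card_mul_relIndex' le_sup_left
  have h3 : Nat.card (K ⊓ L : Subgroup G) * K.relIndex L = Nat.card L := by
    rw [← Subgroup.inf_relIndex_right K L]
    exact card_mul_relIndex' inf_le_right
  calc _ = Nat.card (K ⊔ L : Subgroup G) * Nat.card (K ⊓ L : Subgroup G) := rfl
    _ = Nat.card K * (Nat.card (K ⊓ L : Subgroup G) * K.relIndex L) := by rw [← h2]; ring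
    _ = _ := by rw [h3]

namespace TNG

variable [Finite G] {S : Sylow 2 G} {P : Subgroup G} (h : TNG S P V Z)
include h

theorem mid : Mid S P V Z := h.toTN.toMid

theorem card_pt (hX : IsCj Z X) : Nat.card X = Nat.card Z := by
  obtain ⟨g, rfl⟩ := hX
  exact card_cj g Z

theorem one_lt : 1 < Nat.card Z := by
  have h1 := (Subgroup.one_lt_card_iff_ne_bot Z).2 h.mid.pl.Zne
  exact h1

/-- `L ≤ U` if `R`, `B ≤ U` -/
theorem line_le' {U : Subgroup G} (hR : IsCj Z R) (hB : IsCj Z B) (hne : B ≠ R) (hL : IsCj V L) (hRL : R ≤ L)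
    (hBL : B ≤ L) (hRU : R ≤ U) (hBU : B ≤ U) : L ≤ U := by
  obtain ⟨T, Q, h'⟩ := h.mid.flag hR hL hRL
  intro v hv
  obtain ⟨x, hx, y, hy, rfl⟩ := h'.pl.exists_mul h'.pl.isCj_self hRL ((isCj_iff hR).2 hB) hBL hne.symm hv
  exact mul_mem (hRU hx) (hBU hy)

/-- a subgroup containing all `B ~ R` contains `W_R` -/
theorem ws_le_of {U : Subgroup G} (hR : IsCj Z R) (hRU : R ≤ U) (hU : ∀ B, Adj V Z B R → B ≤ U) : ws V R ≤ U := by
  refine ws_le fun L hL hRL => ?_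
  obtain ⟨Y, hY, hYL, hYR⟩ := h.mid.exists_second hR hL hRL
  exact h.line_le' hR hY hYR hL hRL hYL hRU (hU Y ⟨hY, hR, hYR, L, hL, hYL, hRL⟩)

/-- some `E` is joined to `A` -/
theorem exists_jo (hA : Adj V Z A R) : ∃ E, Jo V Z R A E := by
  by_contra hcon
  push Not at hcon
  have h1 : ws V R ≤ cw V Z R A := h.ws_le_of hA.right (h.mid.R_le_cw hA) fun B hB => by
    by_contra h2
    exact hcon B ((h.mid.jo_iff hA hB).2 h2)
  have h2 := h.h2 R A hA
  rw [relIndex_eq_one.2 (h1.trans inf_le_right)] at h2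
  have h3 := h.one_lt
  omega

theorem cmp_line (hA : Adj V Z A R) (hA' : Adj V Z A' R) (hL : IsCj V L) (hRL : R ≤ L) (hAL : A ≤ L)
    (hAL' : A' ≤ L) : Cmp V Z R A A' := by
  obtain ⟨E, hE⟩ := h.exists_jo hA
  exact hE.cmp.trans (h.mid.jo_line_left hE hA' hL hRL hAL hAL').cmp.symm

theorem wz_cmp (hc : Cmp V Z R A B) : ws V A ⊔ zu V Z R = ws V B ⊔ zu V Z R := by
  unfold Cmp at hc
  induction hc with
  | rel A B h1 => exact h.wz R A B h1
  | refl A => rfl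
  | symm A B _ ih => exact ih.symm
  | trans A B C _ _ ih1 ih2 => exact ih1.trans ih2

theorem com_cmp (hA : Adj V Z A R) (hc : Cmp V Z R A B) : Com V A B := by
  have h1 : ws V B ≤ centralizer ((ws V A : Subgroup G) : Set G) := by
    have h2 : ws V B ≤ ws V A ⊔ zu V Z R := by rw [h.wz_cmp hc]; exact le_sup_left
    refine h2.trans (sup_le (h.mid.com_self hA.left) ?_)
    exact inf_le_right.trans (centralizer_le (le_UU hA))
  exact comm_symm h1

/-- not all `B ~ R` are in one component -/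
theorem exists_not_cmp (hA : Adj V Z A R) : ∃ B, Adj V Z B R ∧ ¬ Cmp V Z R A B := by
  by_contra hcon
  push Not at hcon
  obtain ⟨A₀, R₀, B₀, hc⟩ := h.ex
  obtain ⟨g, hg, -⟩ := h.mid.exists_adj hc.l hA
  have h1 := hc.cj g
  rw [hg] at h1
  exact h1.ne (h.com_cmp h1.l ((hcon _ h1.l).symm.trans (hcon _ h1.r.symm)))

/-- there are at least three components -/
theorem exists_three (hA : Adj V Z A R) : ∃ B C, Adj V Z B R ∧ Adj V Z C R ∧ ¬ Cmp V Z R A B ∧ ¬ Cmp V Z R A C ∧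
    ¬ Cmp V Z R B C := by
  obtain ⟨B, hB, hAB⟩ := h.exists_not_cmp hA
  by_contra hcon
  push Not at hcon
  have hdi : ∀ C, Adj V Z C R → Cmp V Z R A C ∨ Cmp V Z R B C := by
    intro C hC
    by_cases h1 : Cmp V Z R A C
    · exact Or.inl h1
    · exact Or.inr (hcon B C hB hC hAB h1)
  obtain ⟨g, hgR, hgA⟩ := h.mid.exists_adj hA hB
  have hcg : ∀ {C D : Subgroup G}, Cmp V Z R (cj g C) (cj g D) ↔ Cmp V Z R C D := by
    intro C D
    have h1 := cmp_cj (V := V) (Z := Z) (R := R) (A := C) (B := D) (g := g)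
    rwa [hgR] at h1
  have hag : ∀ {C : Subgroup G}, Adj V Z C R → Adj V Z (cj g C) R := by
    intro C hC
    have h1 := hC.cj g
    rwa [hgR] at h1
  have hsw : ∀ C, Adj V Z C R → (Cmp V Z R A (cj g C) ↔ ¬ Cmp V Z R A C) := by
    intro C hC
    constructor
    · intro h1 h2
      have h3 := hcg.2 h2
      rw [hgA] at h3
      exact hAB (h1.trans h3.symm)
    · intro h1
      rcases hdi _ (hag hC) with h2 | h2
      · exact h2
      · rw [← hgA] at h2
        exact absurd (hcg.1 h2) h1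
  obtain ⟨m, hm, ht⟩ := exists_odd_pow g
  have hpR : ∀ k : ℕ, cj (g ^ k) R = R := by
    intro k
    induction k with
    | zero => rw [pow_zero, cj_one]
    | succ k ih => rw [pow_succ, ← cj_cj, hgR, ih]
  have hap : ∀ (k : ℕ) {C : Subgroup G}, Adj V Z C R → Adj V Z (cj (g ^ k) C) R := by
    intro k C hC
    have h1 := hC.cj (g ^ k)
    rwa [hpR k] at h1
  have hev : ∀ (k : ℕ) (C : Subgroup G), Adj V Z C R → (Cmp V Z R A (cj (g ^ (2 * k)) C) ↔ Cmp V Z R A C) := by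
    intro k
    induction k with
    | zero => intro C _; rw [mul_zero, pow_zero, cj_one]
    | succ k ih =>
      intro C hC
      have e : g ^ (2 * (k + 1)) = g * (g * g ^ (2 * k)) := by
        rw [← pow_succ', ← pow_succ']
        rfl
      rw [e, ← cj_cj, hsw _ (by rw [← cj_cj]; exact hag (hap _ hC)), ← cj_cj, hsw _ (hap _ hC), not_not]
      exact ih C hC
  have hod : ∀ C, Adj V Z C R → (Cmp V Z R A (cj (g ^ m) C) ↔ ¬ Cmp V Z R A C) := by
    intro C hC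
    obtain ⟨k, rfl⟩ := hm
    rw [pow_succ', ← cj_cj, hsw _ (hap _ hC), hev k C hC]
  obtain ⟨L, hL, hRL, htL⟩ := h.mid.exists_fix_line hA.right ht (hpR m)
  obtain ⟨Y, hY, hYL, hYR⟩ := h.mid.exists_second hA.right hL hRL
  have hYa : Adj V Z Y R := ⟨hY, hA.right, hYR, L, hL, hYL, hRL⟩
  have h1 : Cmp V Z R Y (cj (g ^ m) Y) := by
    refine h.cmp_line hYa (hap m hYa) hL hRL hYL ?_
    rw [← htL]
    exact cj_le_cj.2 hYL
  have h2 := hod Y hYa
  by_cases h3 : Cmp V Z R A Y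
  · exact (h2.1 (h3.trans h1)) h3
  · exact h3 ((h2.2 h3).trans h1.symm)

/-! ### (i) -/

theorem bb_le (hR : IsCj Z R) : bb V Z R A ≤ ws V R := by
  refine sup_le (h.mid.pt_le_ws hR) (sSup_le ?_)
  rintro B ⟨hB, -⟩
  exact h.mid.adj_le_ws hB.symm

theorem cc_le (hR : IsCj Z R) : cc V Z R A ≤ ws V R := by
  refine sup_le (h.mid.pt_le_ws hR) (sSup_le ?_)
  rintro B ⟨hB, -⟩
  exact h.mid.adj_le_ws hB.symm

theorem bb_le_cw {D : Subgroup G} (hD : Adj V Z D R) (hAD : ¬ Cmp V Z R A D) : bb V Z R A ≤ cw V Z R D := by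
  refine sup_le (h.mid.R_le_cw hD) (sSup_le ?_)
  rintro B ⟨hB, hAB⟩
  by_contra h1
  exact hAD (hAB.trans ((h.mid.jo_iff hD hB).2 h1).cmp.symm)

theorem cc_le_cw {D : Subgroup G} (hD : Adj V Z D R) (hAD : Cmp V Z R A D) : cc V Z R A ≤ cw V Z R D := by
  refine sup_le (h.mid.R_le_cw hD) (sSup_le ?_)
  rintro B ⟨hB, hAB⟩
  by_contra h1
  exact hAB (hAD.trans ((h.mid.jo_iff hD hB).2 h1).cmp)

theorem bb_inf_cc (hR : IsCj Z R) : bb V Z R A ⊓ cc V Z R A = R := by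
  apply le_antisymm
  · rintro w ⟨h1, h2⟩
    refine h.cen R hR w (h.bb_le hR h1) fun D hD u hu => ?_
    by_cases h3 : Cmp V Z R A D
    · exact (mem_cw.1 (h.cc_le_cw hD h3 h2)).2 u hu
    · exact (mem_cw.1 (h.bb_le_cw hD h3 h1)).2 u hu
  · exact le_inf (R_le_bb V Z R A) (R_le_cc V Z R A)

theorem bb_sup_cc (hR : IsCj Z R) : bb V Z R A ⊔ cc V Z R A = ws V R := by
  apply le_antisymm (sup_le (h.bb_le hR) (h.cc_le hR))
  refine h.ws_le_of hR ((R_le_bb V Z R A).trans le_sup_left) fun B hB => ?_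
  by_cases h1 : Cmp V Z R A B
  · exact (le_bb hB h1).trans le_sup_left
  · exact (le_cc hB h1).trans le_sup_right

theorem card_bb {R' : Subgroup G} (hA : Adj V Z A R) (hA' : Adj V Z A' R') :
    Nat.card (bb V Z R A) = Nat.card (bb V Z R' A') := by
  obtain ⟨g, hg, hgA⟩ := h.mid.exists_adj hA hA'
  rw [← hg, ← hgA, bb_cj, card_cj]

theorem ws_comm' (hR : IsCj Z R) {K K' : Subgroup G} (hK : K ≤ ws V R) (hK' : K' ≤ ws V R) :
    ∀ a ∈ K, ∀ b ∈ K', a * b = b * a := fun _ ha _ hb => h.mid.ws_comm hR (hK ha) (hK' hb)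

theorem card_mul (hR : IsCj Z R) : Nat.card (ws V R) * Nat.card Z = Nat.card (bb V Z R A) * Nat.card (cc V Z R A) := by
  rw [← card_sup_mul' (h.ws_comm' hR (h.bb_le hR) (h.cc_le hR)), h.bb_sup_cc hR, h.bb_inf_cc hR, h.card_pt hR]

/-- `|W_R| s² ≥ n³` -/
theorem le_card_ws (hA : Adj V Z A R) :
    Nat.card (bb V Z R A) ^ 3 ≤ Nat.card (ws V R) * Nat.card Z ^ 2 := by
  obtain ⟨B, C, hB, hC, hAB, hAC, hBC⟩ := h.exists_three hA
  have hR := hA.right
  have hZ0 : 0 < Nat.card Z := Nat.card_pos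
  -- `bb B ⊔ bb C ≤ cc A`
  have hsub : ∀ {D : Subgroup G}, ¬ Cmp V Z R A D → bb V Z R D ≤ cc V Z R A := by
    intro D hD
    refine sup_le (R_le_cc V Z R A) (sSup_le ?_)
    rintro E ⟨hE, hDE⟩
    exact le_cc hE fun e => hD (e.trans hDE.symm)
  have h1 : bb V Z R B ⊓ bb V Z R C ≤ R := by
    have h0 : bb V Z R C ≤ cc V Z R B := by
      refine sup_le (R_le_cc V Z R B) (sSup_le ?_)
      rintro E ⟨hE, hCE⟩
      exact le_cc hE fun e => hBC (e.trans hCE.symm)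
    calc bb V Z R B ⊓ bb V Z R C ≤ bb V Z R B ⊓ cc V Z R B := inf_le_inf_left _ h0
      _ = R := h.bb_inf_cc hR
  have h2 := card_sup_mul' (h.ws_comm' hR (h.bb_le (A := B) hR) (h.bb_le (A := C) hR))
  have h3 : Nat.card (bb V Z R B ⊓ bb V Z R C : Subgroup G) ≤ Nat.card Z := by
    rw [← h.card_pt hR]
    exact Nat.card_le_card_of_injective _ (Subgroup.inclusion_injective h1)
  have h4 : Nat.card (bb V Z R B ⊔ bb V Z R C : Subgroup G) ≤ Nat.card (cc V Z R A) :=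
    Nat.card_le_card_of_injective _ (Subgroup.inclusion_injective (sup_le (hsub hAB) (hsub hAC)))
  have h5 := h.card_mul (A := A) hR
  rw [h.card_bb hB hA, h.card_bb hC hA] at h2
  set n := Nat.card (bb V Z R A)
  set s := Nat.card Z
  have h6 : n * n ≤ Nat.card (cc V Z R A) * s := by
    rw [← h2]
    exact Nat.mul_le_mul h4 h3
  calc n ^ 3 = n * (n * n) := by ring
    _ ≤ n * (Nat.card (cc V Z R A) * s) := Nat.mul_le_mul_left _ h6
    _ = (n * Nat.card (cc V Z R A)) * s := by ring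
    _ = Nat.card (ws V R) * s ^ 2 := by rw [← h5]; ring


/-! ### (j) -/

/-- **(j)** -/
theorem index_le (hj : Jo V Z R A B) :
    (ws V B).relIndex (ws V A) * Nat.card Z ≤ Nat.card (bb V Z R A) := by
  have hm := h.mid
  have hj' := h.symm _ _ _ hj
  obtain ⟨C, hC, hCA⟩ : ∃ C, Adj V Z C B ∧ ¬ A ≤ centralizer ((ws V C : Subgroup G) : Set G) := by
    by_contra hcon
    push Not at hcon
    refine hj'.mv (comm_symm (sSup_le ?_))
    rintro _ ⟨C, hC, rfl⟩
    exact comm_symm (hcon C hC)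
  have hcr : Cr V Z C B R := ⟨hC, hj.r, fun e => hCA ((hm.adj_le_ws hj.l.symm).trans e.symm)⟩
  obtain ⟨E, hE⟩ := h.exists_jo hC.symm
  obtain ⟨α, hα, hα1⟩ := hm.pt_ne_bot hj.l.left
  obtain ⟨ε, hε, hε1⟩ := hm.pt_ne_bot hE.r.left
  have hαR : α ∈ ws V R := hm.adj_le_ws hj.l.symm hα
  have hαU : α ∈ UU V Z B := le_UU hj.r.symm hαR
  have hεC : ε ∈ ws V C := hm.adj_le_ws hE.r.symm hε
  have hαC : α ∉ centralizer ((ws V C : Subgroup G) : Set G) := by
    intro h1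
    refine hCA fun a ha => mem_centralizer_iff.2 fun w hw => ?_
    exact hm.t3 hj.l.left (hm.twoEl_ws hC.left hw) hα hα1 (mem_centralizer_iff.1 h1 w hw) a ha
  have hcen : ∀ w ∈ ws V C, α * w = w * α → w ∈ cw V Z C B := fun w hw hw' =>
    (h.cent C B hC.symm α hαU w hw hw').resolve_right hαC
  have hcom : Com V A B := h.com_cmp hj.l hj.cmp
  have key : ∀ y ∈ ws V A, y * ε * y⁻¹ * ε⁻¹ ∈ bb V Z C B ⊓ cw V Z C B := by
    intro y hy
    have hyB : ∀ x ∈ ws V B, y * x = x * y := fun x hx => (mem_centralizer_iff.1 (hcom hy) x hx).symm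
    have h1 : cj y C = C := by
      rw [cj_eq_iff]
      refine centralizer_le_normalizer _ (mem_centralizer_iff.2 fun c hc => ?_)
      exact (hyB c (hm.adj_le_ws hC.symm hc)).symm
    have h2 : cj y B = B := by
      rw [cj_eq_iff]
      refine centralizer_le_normalizer _ (mem_centralizer_iff.2 fun c hc => ?_)
      exact (hyB c (hm.pt_le_ws hC.right hc)).symm
    have h3 : ε ∈ bb V Z C B := le_bb hE.r hE.cmp hε
    have h4 : y * ε * y⁻¹ ∈ bb V Z C B := by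
      have h5 := bb_cj V Z C B y
      rw [h1, h2] at h5
      rw [h5]
      exact conj_mem_cj h3
    have h6 : y * ε * y⁻¹ ∈ ws V C := h.bb_le hC.left h4
    refine ⟨(bb V Z C B).mul_mem h4 ((bb V Z C B).inv_mem h3),
      hcen _ ((ws V C).mul_mem h6 ((ws V C).inv_mem hεC)) ?_⟩
    have hyα : y * α = α * y := hm.ws_comm hj.l.left hy (hm.pt_le_ws hj.l.left hα)
    have h7 := hyB _ (hm.pt_le_ws hC.right (h.comm C B R hcr ε hεC α hαR))
    have hyα' : y⁻¹ * α = α * y⁻¹ := by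
      rw [inv_mul_eq_iff_eq_mul, ← mul_assoc, hyα, mul_inv_cancel_right]
    have h8 : y * ε * y⁻¹ * α * (y * ε * y⁻¹)⁻¹ = ε * α * ε⁻¹ := by
      calc y * ε * y⁻¹ * α * (y * ε * y⁻¹)⁻¹ = y * ε * (y⁻¹ * α) * y * ε⁻¹ * y⁻¹ := by group
        _ = y * ε * (α * y⁻¹) * y * ε⁻¹ * y⁻¹ := by rw [hyα']
        _ = y * (ε * α * ε⁻¹ * α⁻¹) * α * y⁻¹ := by group
        _ = (ε * α * ε⁻¹ * α⁻¹) * y * α * y⁻¹ := by rw [h7]
        _ = (ε * α * ε⁻¹ * α⁻¹) * (y * α) * y⁻¹ := by group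
        _ = ε * α * ε⁻¹ := by rw [hyα]; group
    have h9 : y * ε * y⁻¹ * ε⁻¹ = ε⁻¹ * (y * ε * y⁻¹) := hm.ws_comm hC.left h6 ((ws V C).inv_mem hεC)
    rw [h9]
    calc α * (ε⁻¹ * (y * ε * y⁻¹)) = ε⁻¹ * (ε * α * ε⁻¹) * (y * ε * y⁻¹) := by group
      _ = ε⁻¹ * (y * ε * y⁻¹ * α * (y * ε * y⁻¹)⁻¹) * (y * ε * y⁻¹) := by rw [h8]
      _ = ε⁻¹ * (y * ε * y⁻¹) * α := by group
  have h1 := relIndex_le_of_conj key
  -- `|N| s ≤ |bb|`
  have h2 : Nat.card Z * Nat.card (bb V Z C B ⊓ cw V Z C B : Subgroup G) ≤ Nat.card (bb V Z C B) := by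
    have h3 : E ⊓ (bb V Z C B ⊓ cw V Z C B) = ⊥ := by
      rw [eq_bot_iff]
      rintro x ⟨hx, -, hx'⟩
      exact mem_bot.2 (hm.inf_cw hE hx hx')
    have h4 := card_sup_mul' (K := E) (L := bb V Z C B ⊓ cw V Z C B)
      (h.ws_comm' hC.left (hm.adj_le_ws hE.r.symm) (inf_le_left.trans (h.bb_le hC.left)))
    rw [h3, card_bot, mul_one, h.card_pt hE.r.left] at h4
    rw [← h4]
    exact Nat.card_le_card_of_injective _ (Subgroup.inclusion_injective
      (sup_le (le_bb hE.r hE.cmp) inf_le_left))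
  -- `C_{W_A}(ε) ≤ W_A ∩ W_B`
  have h3 : centralizer ({ε} : Set G) ⊓ ws V A ≤ ws V B := by
    rintro y ⟨hy, hyA⟩
    have hyε : y * ε = ε * y := mem_centralizer_singleton_iff.1 hy
    have h4 : y ∈ ws V (cj ε A) := by
      rw [ws_cj, mem_cj]
      have e : ε⁻¹ * y * ε = y := by rw [mul_assoc, hyε, inv_mul_cancel_left]
      rw [e]
      exact hyA
    have h5 : cj ε A ≠ A := by
      intro e
      have h6 := hm.t3n hj.l.left (hm.twoEl_ws hC.left hεC) e α hα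
      exact hε1 (hm.inf_cw hE hε (hcen ε hεC h6.symm))
    have h6 : cj ε A ≤ A ⊔ B := by
      intro x hx
      rw [mem_cj] at hx
      have h7 := h.comm C B R hcr ε hεC _ (hm.adj_le_ws hj.l.symm hx)
      have e : x = (ε * (ε⁻¹ * x * ε) * ε⁻¹ * (ε⁻¹ * x * ε)⁻¹) * (ε⁻¹ * x * ε) := by group
      rw [e]
      exact mul_mem (mem_sup_right h7) (mem_sup_left hx)
    have h7 := h.infc R A B _ hj (hj.l.left.cj ε) h6 h5
    have h8 : y ∈ ws V A ⊓ ws V (cj ε A) := ⟨hyA, h4⟩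
    rw [h7] at h8
    exact h8.2
  have h4 : (ws V B).relIndex (ws V A) ≤ (centralizer ({ε} : Set G)).relIndex (ws V A) := by
    rw [← inf_relIndex_right (centralizer ({ε} : Set G))]
    exact relIndex_le_of_le_left h3 (by
      rw [inf_relIndex_right]
      exact Subgroup.index_ne_zero_of_finite)
  rw [h.card_bb hj.l hC.symm]
  calc (ws V B).relIndex (ws V A) * Nat.card Z
      ≤ Nat.card (bb V Z C B ⊓ cw V Z C B : Subgroup G) * Nat.card Z := Nat.mul_le_mul_right _ (h4.trans h1)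
    _ = Nat.card Z * Nat.card (bb V Z C B ⊓ cw V Z C B : Subgroup G) := mul_comm _ _
    _ ≤ _ := h2

/-! ### (k) -/

/-- (0.b) `[W_R, U_A] ≤ A` -/
theorem comm_UU (hA : Adj V Z A R) {u w : G} (hu : u ∈ UU V Z A) (hw : w ∈ ws V R) : u * w * u⁻¹ * w⁻¹ ∈ A := by
  let K : Subgroup G :=
    { carrier := {g | g ∈ centralizer (A : Set G) ∧ ∀ w ∈ ws V R, g * w * g⁻¹ * w⁻¹ ∈ A}
      one_mem' := ⟨one_mem _, fun w _ => by simp⟩
      mul_mem' := by
        rintro a b ⟨ha, ha'⟩ ⟨hb, hb'⟩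
        refine ⟨mul_mem ha hb, fun w hw => ?_⟩
        have e : a * b * w * (a * b)⁻¹ * w⁻¹ = a * (b * w * b⁻¹ * w⁻¹) * a⁻¹ * (a * w * a⁻¹ * w⁻¹) := by group
        have e2 : a * (b * w * b⁻¹ * w⁻¹) * a⁻¹ = b * w * b⁻¹ * w⁻¹ := by
          rw [← mem_centralizer_iff.1 ha _ (hb' w hw), mul_inv_cancel_right]
        rw [e, e2]
        exact A.mul_mem (hb' w hw) (ha' w hw)
      inv_mem' := by
        rintro a ⟨ha, ha'⟩
        refine ⟨inv_mem ha, fun w hw => ?_⟩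
        have e : a⁻¹ * w * a⁻¹⁻¹ * w⁻¹ = a⁻¹ * (a * w * a⁻¹ * w⁻¹)⁻¹ * a := by group
        have h1 := A.inv_mem (ha' w hw)
        rw [e, mul_assoc, mem_centralizer_iff.1 ha _ h1, inv_mul_cancel_left]
        exact h1 }
  have h1 : UU V Z A ≤ K := by
    refine sSup_le ?_
    rintro _ ⟨C, hC, rfl⟩ c hc
    refine ⟨h.mid.ws_le_cent' hC hc, fun w hw => ?_⟩
    by_cases h2 : Com V C R
    · have h3 := mem_centralizer_iff.1 (h2 hc) w hw
      have e : c * w * c⁻¹ * w⁻¹ = 1 := by rw [← h3]; group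
      rw [e]
      exact one_mem _
    · exact h.comm C A R ⟨hC, hA, h2⟩ c hc w hw
  exact (h1 hu).2 w hw

/-- the group generated by the `U_D`, `D` in the component of the line `L` at `X` -/
def nn (V Z X L : Subgroup G) : Subgroup G :=
  sSup {U | ∃ D A, Adj V Z D X ∧ Adj V Z A X ∧ A ≤ L ∧ Cmp V Z X A D ∧ U = UU V Z D}

omit [Finite G] h in
theorem nn_cj (V Z X L : Subgroup G) (g : G) : nn V Z (cj g X) (cj g L) = cj g (nn V Z X L) := by
  have key : ∀ (g : G) (X L : Subgroup G), cj g (nn V Z X L) ≤ nn V Z (cj g X) (cj g L) := by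
    intro g X L
    rw [cj_le_iff]
    refine sSup_le ?_
    rintro _ ⟨D, A, h1, h2, h3, h4, rfl⟩
    rw [le_cj_iff, inv_inv, ← UU_cj]
    exact le_sSup ⟨cj g D, cj g A, h1.cj g, h2.cj g, cj_le_cj.2 h3, h4.cj g, rfl⟩
  refine le_antisymm ?_ (key g X L)
  have h1 := key g⁻¹ (cj g X) (cj g L)
  rw [cj_cj, cj_cj, inv_mul_cancel, cj_one, cj_one, cj_le_iff, inv_inv] at h1
  exact h1

/-- `I_L ∩ cc R B ≤ R` -/
theorem inf_cc (hB : Adj V Z B R) (hL : IsCj V L) (hRL : R ≤ L) (hBL : B ≤ L)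
    {u : G} (hu : u ∈ ws V B) (huR : u ∈ ws V R) (huc : u ∈ cc V Z R B) : u ∈ R := by
  have hm := h.mid
  refine hm.lemF_flag (N := nn V Z) (fun g X L _ _ _ => nn_cj V Z X L g) ?_ ?_ hB.right hL hRL hB.left hBL
    hB.ne huR hu ?_
  · intro X L hX hL hXL
    refine sSup_le ?_
    rintro _ ⟨D, A, h1, h2, h3, h4, rfl⟩
    exact hm.UU_le_cent_adj h1.symm
  · intro X L hX hL hXL
    obtain ⟨A, hA, hAL, hAX⟩ := hm.exists_second hX hL hXL
    have hAa : Adj V Z A X := ⟨hA, hX, hAX, L, hL, hAL, hXL⟩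
    obtain ⟨E, hE⟩ := h.exists_jo hAa
    have hE' := h.symm _ _ _ hE
    obtain ⟨n, hn, v, hv, hnv⟩ : ∃ n ∈ UU V Z E, ∃ v ∈ A, n * v ≠ v * n := by
      by_contra hcon
      push Not at hcon
      exact hE'.mv fun v hv => mem_centralizer_iff.2 fun n hn => hcon n hn v hv
    refine ⟨n, ?_, v, hAL hv, fun h1 => hnv ?_⟩
    · exact (le_sSup (show UU V Z E ∈ {U | ∃ D A, Adj V Z D X ∧ Adj V Z A X ∧ A ≤ L ∧ Cmp V Z X A D ∧ U = UU V Z D}
        from ⟨E, A, hE.r, hAa, hAL, hE.cmp, rfl⟩)) hn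
    · have h2 := h.comm_UU hE.r hn (hm.adj_le_ws hAa.symm hv)
      by_contra h3
      have h4 : n * v * n⁻¹ * v⁻¹ ≠ 1 := fun e => h3 (by
        rw [mul_inv_eq_one, mul_inv_eq_iff_eq_mul] at e
        exact e)
      exact hE.r.ne (hm.pts_eq hE.r.left hX h2 h1 h4)
  · intro n hn
    have h1 : nn V Z R L ≤ centralizer ({u} : Set G) := by
      refine sSup_le ?_
      rintro _ ⟨D, A, h1, h2, h3, h4, rfl⟩ x hx
      rw [mem_centralizer_singleton_iff]
      have h5 : Cmp V Z R B D := (h.cmp_line hB h2 hL hRL hBL h3).trans h4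
      exact (mem_cw.1 (h.cc_le_cw h1 h5 huc)).2 x hx
    have h2 : n * u = u * n := mem_centralizer_singleton_iff.1 (h1 hn)
    rw [h2, mul_inv_cancel_right, mul_inv_cancel]
    exact one_mem _

/-- **THEOREM N1**, second half -/
theorem false : False := by
  have hm := h.mid
  obtain ⟨B, R, B₀, hc⟩ := h.ex
  have hB : Adj V Z B R := hc.l
  have hR := hB.right
  obtain ⟨A, hBA⟩ := h.exists_jo hB
  have hj : Jo V Z R A B := h.symm _ _ _ hBA
  obtain ⟨L, hL, hBL, hRL⟩ := hB.line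
  obtain ⟨B', hB'p, hBL', hBR', hBB'⟩ := hm.exists_third hR hB.left hL hRL hBL hB.ne.symm
  have hB' : Adj V Z B' R := ⟨hB'p, hR, hBR', L, hL, hBL', hRL⟩
  have hj2 : Jo V Z R A B' := hm.jo_line_right hj hB' hL hRL hBL hBL'
  have i1 := h.index_le hj
  have i2 := h.index_le hj2
  have hn := h.le_card_ws hj.l
  set n := Nat.card (bb V Z R A) with hn0
  set s := Nat.card Z with hs0
  have hs : 1 < s := h.one_lt
  -- the line group
  have hI : ws V B ⊓ ws V B' ≤ ws V R := hm.inf_le hL hB.left hB'p hR hBL hBL' hRL hBB'.symm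
  have hIc : ws V B ⊓ ws V B' ≤ cw V Z R B := by
    intro x hx
    rw [mem_cw]
    exact ⟨hI hx, fun u hu => (mem_centralizer_iff.1 (hm.UU_le_centralizer B hu) x hx.1).symm⟩
  have hIR : (ws V B ⊓ ws V B') ⊓ cc V Z R B = R := by
    apply le_antisymm
    · rintro u ⟨hu, hu'⟩
      exact h.inf_cc hB hL hRL hBL hu.1 (hI hu) hu'
    · exact le_inf (le_inf (hm.adj_le_ws hB) (hm.adj_le_ws hB')) (R_le_cc V Z R B)
  have c1 := card_sup_mul' (h.ws_comm' hR hI (h.cc_le (A := B) hR))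
  rw [hIR, h.card_pt hR] at c1
  have c2 : Nat.card (ws V B ⊓ ws V B' ⊔ cc V Z R B : Subgroup G) ≤ Nat.card (cw V Z R B) :=
    Nat.card_le_card_of_injective _ (Subgroup.inclusion_injective
      (sup_le hIc (h.cc_le_cw hB (Relation.EqvGen.refl _))))
  have c3 : Nat.card (cw V Z R B) * s = Nat.card (ws V R) := by
    have h1 := card_mul_relIndex' (cw_le (V := V) (Z := Z) (R := R) (A := B))
    rw [cw, inf_comm, inf_relIndex_right, h.h2 R B hB] at h1
    rw [cw, inf_comm]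
    exact h1
  have c4 := h.card_mul (A := B) hR
  rw [h.card_bb hB hj.l] at c4
  have hcc0 : 0 < Nat.card (cc V Z R B) := Nat.card_pos
  have c5 : Nat.card (ws V B ⊓ ws V B' : Subgroup G) * s ≤ n := by
    refine Nat.le_of_mul_le_mul_right ?_ hcc0
    calc Nat.card (ws V B ⊓ ws V B' : Subgroup G) * s * Nat.card (cc V Z R B)
        = (Nat.card (ws V B ⊓ ws V B' : Subgroup G) * Nat.card (cc V Z R B)) * s := by ring
      _ = (Nat.card (ws V B ⊓ ws V B' ⊔ cc V Z R B : Subgroup G) * s) * s := by rw [← c1]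
      _ ≤ (Nat.card (cw V Z R B) * s) * s := by gcongr
      _ = n * Nat.card (cc V Z R B) := by rw [c3, ← c4]
  -- `|D| s ≤ |I|`
  have d1 : B ⊓ (ws V B ⊓ ws V B' ⊓ ws V A) = ⊥ := by
    rw [eq_bot_iff]
    rintro x ⟨hx, -, hx'⟩
    rw [mem_bot]
    refine hm.inf_cw hj hx (mem_cw.2 ⟨hm.adj_le_ws hB.symm hx, fun u hu => ?_⟩)
    exact (mem_centralizer_iff.1 (hm.UU_le_centralizer A hu) x hx').symm
  have hBI : B ≤ ws V B ⊓ ws V B' :=
    le_inf (hm.pt_le_ws hB.left) (hm.adj_le_ws ⟨hB'p, hB.left, hBB', L, hL, hBL', hBL⟩)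
  have d2 := card_sup_mul' (h.ws_comm' hB.left (hm.pt_le_ws hB.left)
    ((inf_le_left.trans inf_le_left : ws V B ⊓ ws V B' ⊓ ws V A ≤ ws V B)))
  rw [d1, card_bot, mul_one, h.card_pt hB.left] at d2
  have d3 : s * Nat.card (ws V B ⊓ ws V B' ⊓ ws V A : Subgroup G) ≤ Nat.card (ws V B ⊓ ws V B' : Subgroup G) := by
    rw [← d2]
    exact Nat.card_le_card_of_injective _ (Subgroup.inclusion_injective (sup_le hBI inf_le_left))
  -- `|W_A| ≤ i₁ i₂ |D|`
  have e1 := card_mul_relIndex' (inf_le_right : ws V B ⊓ ws V B' ⊓ ws V A ≤ ws V A)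
  rw [inf_relIndex_right] at e1
  have e2 : (ws V B ⊓ ws V B').relIndex (ws V A) ≤ (ws V B).relIndex (ws V A) * (ws V B').relIndex (ws V A) :=
    relIndex_inf_le
  have e3 : Nat.card (ws V A) = Nat.card (ws V R) := by
    obtain ⟨g, hg⟩ := hj.l.left
    obtain ⟨g', hg'⟩ := hR
    rw [hg, hg', ws_cj, ws_cj, card_cj, card_cj]
  have hW0 : 0 < Nat.card (ws V R) := Nat.card_pos
  rw [e3] at e1
  have e4 : Nat.card (ws V R) * s ^ 4 ≤ n ^ 3 := by
    rw [← e1]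
    calc Nat.card (ws V B ⊓ ws V B' ⊓ ws V A : Subgroup G) * (ws V B ⊓ ws V B').relIndex (ws V A) * s ^ 4
        ≤ Nat.card (ws V B ⊓ ws V B' ⊓ ws V A : Subgroup G) *
            ((ws V B).relIndex (ws V A) * (ws V B').relIndex (ws V A)) * s ^ 4 := by gcongr
      _ = ((ws V B).relIndex (ws V A) * s) * ((ws V B').relIndex (ws V A) * s) *
            ((s * Nat.card (ws V B ⊓ ws V B' ⊓ ws V A : Subgroup G)) * s) := by ring
      _ ≤ n * n * n := by
        refine Nat.mul_le_mul (Nat.mul_le_mul i1 i2) ?_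
        exact (Nat.mul_le_mul_right _ d3).trans c5
      _ = n ^ 3 := by ring
  have e5 : Nat.card (ws V R) * s ^ 4 ≤ Nat.card (ws V R) * s ^ 2 := e4.trans hn
  have e6 := Nat.le_of_mul_le_mul_left e5 hW0
  have e7 : s ^ 2 < s ^ 4 := Nat.pow_lt_pow_right hs (by norm_num)
  omega

end TNG

end Cfsg.Agent.Omega.NO3S.MidQ

end

section


/-!
# TYPE N without (H3): the count (bb OMEGA #18317 (3), TEXT 426-3)

* `DistP V Z` : **(DIST)** `α γ⁻¹ ∈ C_{W_R}(⟨U_D : D ~ R⟩)`, `α ∈ A#`, `γ ∈ C#`, `A, C ~ R`, only if `A, C, R` are on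
  a line;
* `TNF.FG S P V Z` : the output of (a) - (g) and (DIST), no (H3);
* `TNF.cx V Z R A` : `C_{W_R}(⟨U_D : D in the component of A⟩)`;
* `TNF.FG.false`.
-/

set_option autoImplicit false
set_option linter.unusedSectionVars false

namespace Cfsg.Agent.Omega.NO3S.MidQ

open Subgroup Cfsg.Agent.Omega.NO3S.PT Cfsg.Agent.Omega.NoFF.Basic Cfsg.Agent.ZN
open scoped Pointwise

variable {G : Type*} [Group G] {V Z X Y R L A A' B B' : Subgroup G}

/-- **(DIST)** -/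
def DistP (V Z : Subgroup G) : Prop :=
  ∀ R A C, Adj V Z A R → Adj V Z C R → ∀ α ∈ A, α ≠ 1 → ∀ γ ∈ C, γ ≠ 1 →
    (∀ D, Adj V Z D R → ∀ u ∈ UU V Z D, u * (α * γ⁻¹) = α * γ⁻¹ * u) → ∃ L, IsCj V L ∧ R ≤ L ∧ A ≤ L ∧ C ≤ L

namespace TNF

/-- the output of (a) - (g) and (DIST) -/
structure FG [Finite G] (S : Sylow 2 G) (P V Z : Subgroup G) : Prop extends Mid S P V Z where
  comm : ∀ A R B, Cr V Z A R B → ∀ a ∈ ws V A, ∀ b ∈ ws V B, a * b * a⁻¹ * b⁻¹ ∈ R
  ex : ∃ A R B, Cr V Z A R B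
  h2 : H2 V Z
  symm : ∀ R A B, Jo V Z R A B → Jo V Z R B A
  cent : ∀ R A, Adj V Z A R → ∀ g ∈ UU V Z A, ∀ w ∈ ws V R, g * w = w * g →
    w ∈ cw V Z R A ∨ g ∈ centralizer ((ws V R : Subgroup G) : Set G)
  infc : ∀ R A B Y, Jo V Z R A B → IsCj Z Y → Y ≤ A ⊔ B → Y ≠ A → ws V A ⊓ ws V Y = ws V A ⊓ ws V B
  wz : ∀ R A B, Jo V Z R A B → ws V A ⊔ zu V Z R = ws V B ⊔ zu V Z R
  dist : DistP V Z

/-- the subgroup generated by the `U_D`, `D` in the component of `A` at `R` -/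
def nc (V Z R A : Subgroup G) : Subgroup G := sSup {U | ∃ D, Adj V Z D R ∧ Cmp V Z R A D ∧ U = UU V Z D}

/-- `C_{W_R}(⟨U_D : D in the component of A⟩)` -/
def cx (V Z R A : Subgroup G) : Subgroup G := ws V R ⊓ centralizer ((nc V Z R A : Subgroup G) : Set G)

theorem mem_cx {x : G} : x ∈ cx V Z R A ↔
    x ∈ ws V R ∧ ∀ D, Adj V Z D R → Cmp V Z R A D → ∀ u ∈ UU V Z D, u * x = x * u := by
  rw [cx, mem_inf]
  refine and_congr_right fun _ => ?_
  constructor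
  · intro h1 D hD hAD u hu
    exact mem_centralizer_iff.1 h1 u ((le_sSup (show UU V Z D ∈ {U | ∃ D, Adj V Z D R ∧ Cmp V Z R A D ∧
      U = UU V Z D} from ⟨D, hD, hAD, rfl⟩)) hu)
  · intro h1
    have h2 : nc V Z R A ≤ centralizer ({x} : Set G) := by
      refine sSup_le ?_
      rintro _ ⟨D, hD, hAD, rfl⟩ u hu
      exact mem_centralizer_singleton_iff.2 (h1 D hD hAD u hu)
    exact mem_centralizer_iff.2 fun u hu => mem_centralizer_singleton_iff.1 (h2 hu)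

theorem nc_cj (V Z R A : Subgroup G) (g : G) : nc V Z (cj g R) (cj g A) = cj g (nc V Z R A) := by
  have key : ∀ (g : G) (R A : Subgroup G), cj g (nc V Z R A) ≤ nc V Z (cj g R) (cj g A) := by
    intro g R A
    rw [cj_le_iff]
    refine sSup_le ?_
    rintro _ ⟨D, h1, h2, rfl⟩
    rw [le_cj_iff, inv_inv, ← UU_cj]
    exact le_sSup ⟨cj g D, h1.cj g, h2.cj g, rfl⟩
  refine le_antisymm ?_ (key g R A)
  have h1 := key g⁻¹ (cj g R) (cj g A)
  rw [cj_cj, cj_cj, inv_mul_cancel, cj_one, cj_one, cj_le_iff, inv_inv] at h1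
  exact h1

theorem cx_cj (V Z R A : Subgroup G) (g : G) : cx V Z (cj g R) (cj g A) = cj g (cx V Z R A) := by
  rw [cx, cx, ws_cj, nc_cj, cj_inf, ← cj_centralizer]

theorem cx_le : cx V Z R A ≤ ws V R := inf_le_left

theorem cx_le_cw (hA : Adj V Z A R) : cx V Z R A ≤ cw V Z R A := fun _ hx =>
  mem_cw.2 ⟨(mem_cx.1 hx).1, (mem_cx.1 hx).2 A hA (Relation.EqvGen.refl _)⟩

theorem cx_congr (h : Cmp V Z R A B) : cx V Z R A = cx V Z R B := by
  ext x
  rw [mem_cx, mem_cx]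
  refine and_congr_right fun _ => ⟨fun h1 D hD hBD => h1 D hD (h.trans hBD), fun h1 D hD hAD =>
    h1 D hD (h.symm.trans hAD)⟩

/-- counting conjugates -/
theorem relIndex_le_of_conj' [Finite G] {W : Subgroup G} {T : Set G} {e : G} (h : ∀ y ∈ W, y * e * y⁻¹ * e⁻¹ ∈ T) :
    (centralizer ({e} : Set G)).relIndex W ≤ Nat.card T := by
  rw [Subgroup.relIndex, Subgroup.index]
  let f : W ⧸ (centralizer ({e} : Set G)).subgroupOf W → T := Quotient.lift
    (fun y : W => (⟨y * e * (y : G)⁻¹ * e⁻¹, h y y.2⟩ : T)) (by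
      intro a b hab
      have h1 : (a : G)⁻¹ * b ∈ centralizer ({e} : Set G) := by
        have h2 := QuotientGroup.leftRel_apply.1 hab
        exact mem_subgroupOf.1 h2
      have h3 : (a : G)⁻¹ * b * e = e * ((a : G)⁻¹ * b) := mem_centralizer_singleton_iff.1 h1
      apply Subtype.ext
      show (a : G) * e * (a : G)⁻¹ * e⁻¹ = b * e * (b : G)⁻¹ * e⁻¹
      have h4 : (b : G) * e = a * e * ((a : G)⁻¹ * b) := by
        rw [mul_assoc (a : G), ← h3]; group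
      rw [h4]
      group)
  refine Nat.card_le_card_of_injective f ?_
  rintro ⟨a⟩ ⟨b⟩ hab
  have h1 : (a : G) * e * (a : G)⁻¹ * e⁻¹ = b * e * (b : G)⁻¹ * e⁻¹ := congrArg Subtype.val hab
  apply Quotient.sound
  apply QuotientGroup.leftRel_apply.2
  rw [mem_subgroupOf]
  show (a : G)⁻¹ * b ∈ centralizer ({e} : Set G)
  rw [mem_centralizer_singleton_iff]
  have h2 : (a : G) * e * (a : G)⁻¹ = b * e * (b : G)⁻¹ := mul_right_cancel h1
  calc (a : G)⁻¹ * b * e = (a : G)⁻¹ * (b * e * (b : G)⁻¹) * b := by group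
    _ = (a : G)⁻¹ * (a * e * (a : G)⁻¹) * b := by rw [h2]
    _ = e * ((a : G)⁻¹ * b) := by group

/-- a set of elements of `M` which are congruent modulo `C` if they are congruent modulo `N` has at most `|M : N| |C|`
elements -/
theorem card_le_of_cong [Finite G] {M N C : Subgroup G} {T : Set G} (hT : ∀ t ∈ T, t ∈ M)
    (hC : ∀ t ∈ T, ∀ t' ∈ T, t⁻¹ * t' ∈ N → t⁻¹ * t' ∈ C) :
    Nat.card T ≤ N.relIndex M * Nat.card C := by
  classical
  let q : T → M ⧸ N.subgroupOf M := fun t => QuotientGroup.mk ⟨t.1, hT t.1 t.2⟩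
  let r : M ⧸ N.subgroupOf M → Option T := fun c => if h : ∃ t : T, q t = c then some h.choose else none
  have hq : ∀ t t' : T, q t = q t' → t.1⁻¹ * t'.1 ∈ C := by
    intro t t' htt
    have h1 := QuotientGroup.eq.1 htt
    rw [mem_subgroupOf] at h1
    exact hC t.1 t.2 t'.1 t'.2 h1
  let s : T → T := fun t => if h : ∃ t' : T, q t' = q t then h.choose else t
  have hs : ∀ t, q (s t) = q t := by
    intro t
    have h1 : ∃ t' : T, q t' = q t := ⟨t, rfl⟩
    show q (if h : ∃ t' : T, q t' = q t then h.choose else t) = q t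
    rw [dif_pos h1]
    exact h1.choose_spec
  have hs2 : ∀ t t', q t = q t' → s t = s t' := by
    intro t t' htt
    have h1 : ∃ t₀ : T, q t₀ = q t := ⟨t, rfl⟩
    have h2 : ∃ t₀ : T, q t₀ = q t' := ⟨t', rfl⟩
    show (if h : ∃ t₀ : T, q t₀ = q t then h.choose else t) = (if h : ∃ t₀ : T, q t₀ = q t' then h.choose else t')
    rw [dif_pos h1, dif_pos h2]
    congr 1
    ext t₀
    rw [htt]
  let f : T → (M ⧸ N.subgroupOf M) × C := fun t => (q t, ⟨(s t).1⁻¹ * t.1, hq _ _ (hs t)⟩)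
  have hf : Function.Injective f := by
    intro t t' htt
    have h1 : q t = q t' := congrArg Prod.fst htt
    have h2 : (s t).1⁻¹ * t.1 = (s t').1⁻¹ * t'.1 := congrArg Subtype.val (congrArg Prod.snd htt)
    rw [hs2 t t' h1] at h2
    exact Subtype.ext (mul_left_cancel h2)
  have h1 := Nat.card_le_card_of_injective f hf
  rw [Nat.card_prod] at h1
  exact h1

namespace FG

variable [Finite G] {S : Sylow 2 G} {P : Subgroup G} (h : FG S P V Z)
include h

theorem mid : Mid S P V Z := h.toMid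

theorem card_pt (hX : IsCj Z X) : Nat.card X = Nat.card Z := by
  obtain ⟨g, rfl⟩ := hX
  exact card_cj g Z

theorem one_lt : 1 < Nat.card Z := by
  have h1 := (Subgroup.one_lt_card_iff_ne_bot Z).2 h.mid.pl.Zne
  exact h1

/-- `L ≤ U` if `R`, `B ≤ U` -/
theorem line_le' {U : Subgroup G} (hR : IsCj Z R) (hB : IsCj Z B) (hne : B ≠ R) (hL : IsCj V L) (hRL : R ≤ L)
    (hBL : B ≤ L) (hRU : R ≤ U) (hBU : B ≤ U) : L ≤ U := by
  obtain ⟨T, Q, h'⟩ := h.mid.flag hR hL hRL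
  intro v hv
  obtain ⟨x, hx, y, hy, rfl⟩ := h'.pl.exists_mul h'.pl.isCj_self hRL ((isCj_iff hR).2 hB) hBL hne.symm hv
  exact mul_mem (hRU hx) (hBU hy)

/-- a subgroup containing all `B ~ R` contains `W_R` -/
theorem ws_le_of {U : Subgroup G} (hR : IsCj Z R) (hRU : R ≤ U) (hU : ∀ B, Adj V Z B R → B ≤ U) : ws V R ≤ U := by
  refine ws_le fun L hL hRL => ?_
  obtain ⟨Y, hY, hYL, hYR⟩ := h.mid.exists_second hR hL hRL
  exact h.line_le' hR hY hYR hL hRL hYL hRU (hU Y ⟨hY, hR, hYR, L, hL, hYL, hRL⟩)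

/-- some `E` is joined to `A` -/
theorem exists_jo (hA : Adj V Z A R) : ∃ E, Jo V Z R A E := by
  by_contra hcon
  push Not at hcon
  have h1 : ws V R ≤ cw V Z R A := h.ws_le_of hA.right (h.mid.R_le_cw hA) fun B hB => by
    by_contra h2
    exact hcon B ((h.mid.jo_iff hA hB).2 h2)
  have h2 := h.h2 R A hA
  rw [relIndex_eq_one.2 (h1.trans inf_le_right)] at h2
  have h3 := h.one_lt
  omega

theorem cmp_line (hA : Adj V Z A R) (hA' : Adj V Z A' R) (hL : IsCj V L) (hRL : R ≤ L) (hAL : A ≤ L)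
    (hAL' : A' ≤ L) : Cmp V Z R A A' := by
  obtain ⟨E, hE⟩ := h.exists_jo hA
  exact hE.cmp.trans (h.mid.jo_line_left hE hA' hL hRL hAL hAL').cmp.symm

theorem wz_cmp (hc : Cmp V Z R A B) : ws V A ⊔ zu V Z R = ws V B ⊔ zu V Z R := by
  unfold Cmp at hc
  induction hc with
  | rel A B h1 => exact h.wz R A B h1
  | refl A => rfl
  | symm A B _ ih => exact ih.symm
  | trans A B C _ _ ih1 ih2 => exact ih1.trans ih2

theorem com_cmp (hA : Adj V Z A R) (hc : Cmp V Z R A B) : Com V A B := by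
  have h1 : ws V B ≤ centralizer ((ws V A : Subgroup G) : Set G) := by
    have h2 : ws V B ≤ ws V A ⊔ zu V Z R := by rw [h.wz_cmp hc]; exact le_sup_left
    refine h2.trans (sup_le (h.mid.com_self hA.left) ?_)
    exact inf_le_right.trans (centralizer_le (le_UU hA))
  exact comm_symm h1

/-- not all `B ~ R` are in one component -/
theorem exists_not_cmp (hA : Adj V Z A R) : ∃ B, Adj V Z B R ∧ ¬ Cmp V Z R A B := by
  by_contra hcon
  push Not at hcon
  obtain ⟨A₀, R₀, B₀, hc⟩ := h.ex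
  obtain ⟨g, hg, -⟩ := h.mid.exists_adj hc.l hA
  have h1 := hc.cj g
  rw [hg] at h1
  exact h1.ne (h.com_cmp h1.l ((hcon _ h1.l).symm.trans (hcon _ h1.r.symm)))

/-- there are at least three components -/
theorem exists_three (hA : Adj V Z A R) : ∃ B C, Adj V Z B R ∧ Adj V Z C R ∧ ¬ Cmp V Z R A B ∧ ¬ Cmp V Z R A C ∧
    ¬ Cmp V Z R B C := by
  obtain ⟨B, hB, hAB⟩ := h.exists_not_cmp hA
  by_contra hcon
  push Not at hcon
  have hdi : ∀ C, Adj V Z C R → Cmp V Z R A C ∨ Cmp V Z R B C := by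
    intro C hC
    by_cases h1 : Cmp V Z R A C
    · exact Or.inl h1
    · exact Or.inr (hcon B C hB hC hAB h1)
  obtain ⟨g, hgR, hgA⟩ := h.mid.exists_adj hA hB
  have hcg : ∀ {C D : Subgroup G}, Cmp V Z R (cj g C) (cj g D) ↔ Cmp V Z R C D := by
    intro C D
    have h1 := cmp_cj (V := V) (Z := Z) (R := R) (A := C) (B := D) (g := g)
    rwa [hgR] at h1
  have hag : ∀ {C : Subgroup G}, Adj V Z C R → Adj V Z (cj g C) R := by
    intro C hC
    have h1 := hC.cj g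
    rwa [hgR] at h1
  have hsw : ∀ C, Adj V Z C R → (Cmp V Z R A (cj g C) ↔ ¬ Cmp V Z R A C) := by
    intro C hC
    constructor
    · intro h1 h2
      have h3 := hcg.2 h2
      rw [hgA] at h3
      exact hAB (h1.trans h3.symm)
    · intro h1
      rcases hdi _ (hag hC) with h2 | h2
      · exact h2
      · rw [← hgA] at h2
        exact absurd (hcg.1 h2) h1
  obtain ⟨m, hm, ht⟩ := exists_odd_pow g
  have hpR : ∀ k : ℕ, cj (g ^ k) R = R := by
    intro k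
    induction k with
    | zero => rw [pow_zero, cj_one]
    | succ k ih => rw [pow_succ, ← cj_cj, hgR, ih]
  have hap : ∀ (k : ℕ) {C : Subgroup G}, Adj V Z C R → Adj V Z (cj (g ^ k) C) R := by
    intro k C hC
    have h1 := hC.cj (g ^ k)
    rwa [hpR k] at h1
  have hev : ∀ (k : ℕ) (C : Subgroup G), Adj V Z C R → (Cmp V Z R A (cj (g ^ (2 * k)) C) ↔ Cmp V Z R A C) := by
    intro k
    induction k with
    | zero => intro C _; rw [mul_zero, pow_zero, cj_one]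
    | succ k ih =>
      intro C hC
      have e : g ^ (2 * (k + 1)) = g * (g * g ^ (2 * k)) := by
        rw [← pow_succ', ← pow_succ']
        rfl
      rw [e, ← cj_cj, hsw _ (by rw [← cj_cj]; exact hag (hap _ hC)), ← cj_cj, hsw _ (hap _ hC), not_not]
      exact ih C hC
  have hod : ∀ C, Adj V Z C R → (Cmp V Z R A (cj (g ^ m) C) ↔ ¬ Cmp V Z R A C) := by
    intro C hC
    obtain ⟨k, rfl⟩ := hm
    rw [pow_succ', ← cj_cj, hsw _ (hap _ hC), hev k C hC]
  obtain ⟨L, hL, hRL, htL⟩ := h.mid.exists_fix_line hA.right ht (hpR m)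
  obtain ⟨Y, hY, hYL, hYR⟩ := h.mid.exists_second hA.right hL hRL
  have hYa : Adj V Z Y R := ⟨hY, hA.right, hYR, L, hL, hYL, hRL⟩
  have h1 : Cmp V Z R Y (cj (g ^ m) Y) := by
    refine h.cmp_line hYa (hap m hYa) hL hRL hYL ?_
    rw [← htL]
    exact cj_le_cj.2 hYL
  have h2 := hod Y hYa
  by_cases h3 : Cmp V Z R A Y
  · exact (h2.1 (h3.trans h1)) h3
  · exact h3 ((h2.2 h3).trans h1.symm)

theorem bb_le (hR : IsCj Z R) : bb V Z R A ≤ ws V R := by
  refine sup_le (h.mid.pt_le_ws hR) (sSup_le ?_)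
  rintro B ⟨hB, -⟩
  exact h.mid.adj_le_ws hB.symm

/-- `B ≤ cx A` if `B` is not in the component of `A` -/
theorem pt_le_cx (hB : Adj V Z B R) (hAB : ¬ Cmp V Z R A B) : B ≤ cx V Z R A := by
  intro x hx
  refine mem_cx.2 ⟨h.mid.adj_le_ws hB.symm hx, fun D hD hAD u hu => ?_⟩
  by_contra hne
  have h1 : Jo V Z R D B := ⟨hD, hB, fun e => hne (mem_centralizer_iff.1 (e hx) u hu)⟩
  exact hAB (hAD.trans h1.cmp)

theorem R_le_cx (hA : Adj V Z A R) : R ≤ cx V Z R A := fun _ hx =>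
  mem_cx.2 ⟨h.mid.pt_le_ws hA.right hx, fun _ hD _ => (mem_cw.1 (h.mid.R_le_cw hD hx)).2⟩

/-- the block of `B` is in `cx A` -/
theorem bb_le_cx (hA : Adj V Z A R) (hAB : ¬ Cmp V Z R A B) : bb V Z R B ≤ cx V Z R A := by
  refine sup_le (h.R_le_cx hA) (sSup_le ?_)
  rintro C ⟨hC, hBC⟩
  exact h.pt_le_cx hC fun e => hAB (e.trans hBC.symm)

theorem bb_sup_cx (hA : Adj V Z A R) : bb V Z R A ⊔ cx V Z R A = ws V R := by
  apply le_antisymm (sup_le (h.bb_le hA.right) cx_le)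
  refine h.ws_le_of hA.right ((R_le_bb V Z R A).trans le_sup_left) fun B hB => ?_
  by_cases h1 : Cmp V Z R A B
  · exact (le_bb hB h1).trans le_sup_left
  · exact (h.pt_le_cx hB h1).trans le_sup_right

theorem card_cx {R' : Subgroup G} (hA : Adj V Z A R) (hA' : Adj V Z A' R') :
    Nat.card (cx V Z R A) = Nat.card (cx V Z R' A') := by
  obtain ⟨g, hg, hgA⟩ := h.mid.exists_adj hA hA'
  rw [← hg, ← hgA, cx_cj, card_cj]

theorem ws_comm' (hR : IsCj Z R) {K K' : Subgroup G} (hK : K ≤ ws V R) (hK' : K' ≤ ws V R) :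
    ∀ a ∈ K, ∀ b ∈ K', a * b = b * a := fun _ ha _ hb => h.mid.ws_comm hR (hK ha) (hK' hb)

theorem card_ws {R' : Subgroup G} (hR : IsCj Z R) (hR' : IsCj Z R') : Nat.card (ws V R) = Nat.card (ws V R') := by
  obtain ⟨g, hg⟩ := hR
  obtain ⟨g', hg'⟩ := hR'
  rw [hg, hg', ws_cj, ws_cj, card_cj, card_cj]

/-- `|W_R|² s ≤ |cx|³` -/
theorem le_card_ws (hA : Adj V Z A R) :
    Nat.card (ws V R) ^ 2 * Nat.card Z ≤ Nat.card (cx V Z R A) ^ 3 := by
  obtain ⟨B, C, hB, hC, hAB, hAC, hBC⟩ := h.exists_three hA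
  have hR := hA.right
  -- `cx C ⊔ cx B = W_R`
  have s1 : cx V Z R C ⊔ cx V Z R B = ws V R := by
    refine le_antisymm (sup_le cx_le cx_le) ?_
    rw [← h.bb_sup_cx hB]
    exact sup_le ((h.bb_le_cx hC fun e => hBC e.symm).trans le_sup_left) le_sup_right
  have s2 : cx V Z R A ⊔ (cx V Z R C ⊓ cx V Z R B) = ws V R := by
    refine le_antisymm (sup_le cx_le (inf_le_left.trans cx_le)) ?_
    rw [← h.bb_sup_cx hA]
    exact sup_le ((le_inf (h.bb_le_cx hC fun e => hAC e.symm) (h.bb_le_cx hB fun e => hAB e.symm)).trans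
      le_sup_right) le_sup_left
  have c1 := card_sup_mul' (h.ws_comm' hR (cx_le (V := V) (Z := Z) (R := R) (A := C))
    (cx_le (V := V) (Z := Z) (R := R) (A := B)))
  have c2 := card_sup_mul' (h.ws_comm' hR (cx_le (V := V) (Z := Z) (R := R) (A := A))
    (inf_le_left.trans cx_le : cx V Z R C ⊓ cx V Z R B ≤ ws V R))
  rw [s1, h.card_cx hC hA, h.card_cx hB hA] at c1
  rw [s2] at c2
  have h1 : R ≤ cx V Z R A ⊓ (cx V Z R C ⊓ cx V Z R B) := le_inf (h.R_le_cx hA) (le_inf (h.R_le_cx hC) (h.R_le_cx hB))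
  have h3 : Nat.card Z ≤ Nat.card (cx V Z R A ⊓ (cx V Z R C ⊓ cx V Z R B) : Subgroup G) := by
    rw [← h.card_pt hR]
    exact Nat.card_le_card_of_injective _ (Subgroup.inclusion_injective h1)
  set c := Nat.card (cx V Z R A)
  set w := Nat.card (ws V R)
  calc w ^ 2 * Nat.card Z ≤ w ^ 2 * Nat.card (cx V Z R A ⊓ (cx V Z R C ⊓ cx V Z R B) : Subgroup G) :=
        Nat.mul_le_mul_left _ h3
    _ = w * (w * Nat.card (cx V Z R A ⊓ (cx V Z R C ⊓ cx V Z R B) : Subgroup G)) := by ring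
    _ = w * (c * Nat.card (cx V Z R C ⊓ cx V Z R B : Subgroup G)) := by rw [c2]
    _ = c * (w * Nat.card (cx V Z R C ⊓ cx V Z R B : Subgroup G)) := by ring
    _ = c ^ 3 := by rw [c1]; ring

/-- (0.b) `[W_R, U_A] ≤ A` -/
theorem comm_UU (hA : Adj V Z A R) {u w : G} (hu : u ∈ UU V Z A) (hw : w ∈ ws V R) : u * w * u⁻¹ * w⁻¹ ∈ A := by
  let K : Subgroup G :=
    { carrier := {g | g ∈ centralizer (A : Set G) ∧ ∀ w ∈ ws V R, g * w * g⁻¹ * w⁻¹ ∈ A}
      one_mem' := ⟨one_mem _, fun w _ => by simp⟩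
      mul_mem' := by
        rintro a b ⟨ha, ha'⟩ ⟨hb, hb'⟩
        refine ⟨mul_mem ha hb, fun w hw => ?_⟩
        have e : a * b * w * (a * b)⁻¹ * w⁻¹ = a * (b * w * b⁻¹ * w⁻¹) * a⁻¹ * (a * w * a⁻¹ * w⁻¹) := by group
        have e2 : a * (b * w * b⁻¹ * w⁻¹) * a⁻¹ = b * w * b⁻¹ * w⁻¹ := by
          rw [← mem_centralizer_iff.1 ha _ (hb' w hw), mul_inv_cancel_right]
        rw [e, e2]
        exact A.mul_mem (hb' w hw) (ha' w hw)
      inv_mem' := by
        rintro a ⟨ha, ha'⟩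
        refine ⟨inv_mem ha, fun w hw => ?_⟩
        have e : a⁻¹ * w * a⁻¹⁻¹ * w⁻¹ = a⁻¹ * (a * w * a⁻¹ * w⁻¹)⁻¹ * a := by group
        have h1 := A.inv_mem (ha' w hw)
        rw [e, mul_assoc, mem_centralizer_iff.1 ha _ h1, inv_mul_cancel_left]
        exact h1 }
  have h1 : UU V Z A ≤ K := by
    refine sSup_le ?_
    rintro _ ⟨C, hC, rfl⟩ c hc
    refine ⟨h.mid.ws_le_cent' hC hc, fun w hw => ?_⟩
    by_cases h2 : Com V C R
    · have h3 := mem_centralizer_iff.1 (h2 hc) w hw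
      have e : c * w * c⁻¹ * w⁻¹ = 1 := by rw [← h3]; group
      rw [e]
      exact one_mem _
    · exact h.comm C A R ⟨hC, hA, h2⟩ c hc w hw
  exact (h1 hu).2 w hw

/-- `I_L ∩ cx R B ≤ R` -/
theorem inf_cx (hB : Adj V Z B R) (hL : IsCj V L) (hRL : R ≤ L) (hBL : B ≤ L)
    {u : G} (hu : u ∈ ws V B) (huR : u ∈ ws V R) (huc : u ∈ cx V Z R B) : u ∈ R := by
  have hm := h.mid
  refine hm.lemF_flag (N := TNG.nn V Z) (fun g X L _ _ _ => TNG.nn_cj V Z X L g) ?_ ?_ hB.right hL hRL hB.left hBL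
    hB.ne huR hu ?_
  · intro X L hX hL hXL
    refine sSup_le ?_
    rintro _ ⟨D, A, h1, h2, h3, h4, rfl⟩
    exact hm.UU_le_cent_adj h1.symm
  · intro X L hX hL hXL
    obtain ⟨A, hA, hAL, hAX⟩ := hm.exists_second hX hL hXL
    have hAa : Adj V Z A X := ⟨hA, hX, hAX, L, hL, hAL, hXL⟩
    obtain ⟨E, hE⟩ := h.exists_jo hAa
    have hE' := h.symm _ _ _ hE
    obtain ⟨n, hn, v, hv, hnv⟩ : ∃ n ∈ UU V Z E, ∃ v ∈ A, n * v ≠ v * n := by
      by_contra hcon
      push Not at hcon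
      exact hE'.mv fun v hv => mem_centralizer_iff.2 fun n hn => hcon n hn v hv
    refine ⟨n, ?_, v, hAL hv, fun h1 => hnv ?_⟩
    · exact (le_sSup (show UU V Z E ∈ {U | ∃ D A, Adj V Z D X ∧ Adj V Z A X ∧ A ≤ L ∧ Cmp V Z X A D ∧ U = UU V Z D}
        from ⟨E, A, hE.r, hAa, hAL, hE.cmp, rfl⟩)) hn
    · have h2 := h.comm_UU hE.r hn (hm.adj_le_ws hAa.symm hv)
      by_contra h3
      have h4 : n * v * n⁻¹ * v⁻¹ ≠ 1 := fun e => h3 (by
        rw [mul_inv_eq_one, mul_inv_eq_iff_eq_mul] at e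
        exact e)
      exact hE.r.ne (hm.pts_eq hE.r.left hX h2 h1 h4)
  · intro n hn
    have h1 : TNG.nn V Z R L ≤ centralizer ({u} : Set G) := by
      refine sSup_le ?_
      rintro _ ⟨D, A, h1, h2, h3, h4, rfl⟩ x hx
      rw [mem_centralizer_singleton_iff]
      have h5 : Cmp V Z R B D := (h.cmp_line hB h2 hL hRL hBL h3).trans h4
      exact (mem_cx.1 huc).2 D h1 h5 x hx
    have h2 : n * u = u * n := mem_centralizer_singleton_iff.1 (h1 hn)
    rw [h2, mul_inv_cancel_right, mul_inv_cancel]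
    exact one_mem _

/-- an element of a line on `R` which is centralised by all `U_D`, `D ~ R`, is in `R` -/
theorem line_cen (hR : IsCj Z R) (hL : IsCj V L) (hRL : R ≤ L) {x : G} (hx : x ∈ L)
    (hc : ∀ D, Adj V Z D R → ∀ u ∈ UU V Z D, u * x = x * u) : x ∈ R := by
  by_contra hxR
  have hm := h.mid
  have hx1 : x ≠ 1 := fun e => hxR (e ▸ one_mem _)
  obtain ⟨X, hX, hXL, hxX⟩ := hm.exists_point hL hx hx1
  have hXR : X ≠ R := fun e => hxR (e ▸ hxX)
  have hXa : Adj V Z X R := ⟨hX, hR, hXR, L, hL, hXL, hRL⟩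
  obtain ⟨E, hE⟩ := h.exists_jo hXa
  have hE' := h.symm _ _ _ hE
  exact hx1 (hm.inf_cw hE' hxX (mem_cw.2 ⟨hm.line_le hL hRL hx, hc E hE.r⟩))

/-! ### (j) -/

/-- **(j)** -/
theorem index_le (hj : Jo V Z R A B) :
    (ws V B).relIndex (ws V A) * Nat.card (cx V Z R A) ≤ Nat.card (ws V R) := by
  have hm := h.mid
  have hj' := h.symm _ _ _ hj
  obtain ⟨C, hC, hCA⟩ : ∃ C, Adj V Z C B ∧ ¬ A ≤ centralizer ((ws V C : Subgroup G) : Set G) := by
    by_contra hcon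
    push Not at hcon
    refine hj'.mv (comm_symm (sSup_le ?_))
    rintro _ ⟨C, hC, rfl⟩
    exact comm_symm (hcon C hC)
  have hcr : Cr V Z C B R := ⟨hC, hj.r, fun e => hCA ((hm.adj_le_ws hj.l.symm).trans e.symm)⟩
  obtain ⟨E, hE⟩ := h.exists_jo hC.symm
  obtain ⟨α, hα, hα1⟩ := hm.pt_ne_bot hj.l.left
  obtain ⟨ε, hε, hε1⟩ := hm.pt_ne_bot hE.r.left
  have hαR : α ∈ ws V R := hm.adj_le_ws hj.l.symm hα
  have hαU : α ∈ UU V Z B := le_UU hj.r.symm hαR
  have hεC : ε ∈ ws V C := hm.adj_le_ws hE.r.symm hε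
  have hαC : α ∉ centralizer ((ws V C : Subgroup G) : Set G) := by
    intro h1
    refine hCA fun a ha => mem_centralizer_iff.2 fun w hw => ?_
    exact hm.t3 hj.l.left (hm.twoEl_ws hC.left hw) hα hα1 (mem_centralizer_iff.1 h1 w hw) a ha
  have hcen : ∀ w ∈ ws V C, α * w = w * α → w ∈ cw V Z C B := fun w hw hw' =>
    (h.cent C B hC.symm α hαU w hw hw').resolve_right hαC
  have hcom : Com V A B := h.com_cmp hj.l hj.cmp
  have hyC : ∀ y ∈ ws V A, cj y C = C ∧ cj y B = B ∧ ∀ x ∈ ws V B, y * x = x * y := by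
    intro y hy
    have hyB : ∀ x ∈ ws V B, y * x = x * y := fun x hx => (mem_centralizer_iff.1 (hcom hy) x hx).symm
    refine ⟨?_, ?_, hyB⟩
    · rw [cj_eq_iff]
      refine centralizer_le_normalizer _ (mem_centralizer_iff.2 fun c hc => ?_)
      exact (hyB c (hm.adj_le_ws hC.symm hc)).symm
    · rw [cj_eq_iff]
      refine centralizer_le_normalizer _ (mem_centralizer_iff.2 fun c hc => ?_)
      exact (hyB c (hm.pt_le_ws hC.right hc)).symm
  have key : ∀ y ∈ ws V A, y * ε * y⁻¹ * ε⁻¹ ∈ bb V Z C B ⊓ cw V Z C B := by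
    intro y hy
    obtain ⟨h1, h2, hyB⟩ := hyC y hy
    have h3 : ε ∈ bb V Z C B := le_bb hE.r hE.cmp hε
    have h4 : y * ε * y⁻¹ ∈ bb V Z C B := by
      have h5 := bb_cj V Z C B y
      rw [h1, h2] at h5
      rw [h5]
      exact conj_mem_cj h3
    have h6 : y * ε * y⁻¹ ∈ ws V C := h.bb_le hC.left h4
    refine ⟨(bb V Z C B).mul_mem h4 ((bb V Z C B).inv_mem h3),
      hcen _ ((ws V C).mul_mem h6 ((ws V C).inv_mem hεC)) ?_⟩
    have hyα : y * α = α * y := hm.ws_comm hj.l.left hy (hm.pt_le_ws hj.l.left hα)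
    have h7 := hyB _ (hm.pt_le_ws hC.right (h.comm C B R hcr ε hεC α hαR))
    have hyα' : y⁻¹ * α = α * y⁻¹ := by
      rw [inv_mul_eq_iff_eq_mul, ← mul_assoc, hyα, mul_inv_cancel_right]
    have h8 : y * ε * y⁻¹ * α * (y * ε * y⁻¹)⁻¹ = ε * α * ε⁻¹ := by
      calc y * ε * y⁻¹ * α * (y * ε * y⁻¹)⁻¹ = y * ε * (y⁻¹ * α) * y * ε⁻¹ * y⁻¹ := by group
        _ = y * ε * (α * y⁻¹) * y * ε⁻¹ * y⁻¹ := by rw [hyα']
        _ = y * (ε * α * ε⁻¹ * α⁻¹) * α * y⁻¹ := by group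
        _ = (ε * α * ε⁻¹ * α⁻¹) * y * α * y⁻¹ := by rw [h7]
        _ = (ε * α * ε⁻¹ * α⁻¹) * (y * α) * y⁻¹ := by group
        _ = ε * α * ε⁻¹ := by rw [hyα]; group
    have h9 : y * ε * y⁻¹ * ε⁻¹ = ε⁻¹ * (y * ε * y⁻¹) := hm.ws_comm hC.left h6 ((ws V C).inv_mem hεC)
    rw [h9]
    calc α * (ε⁻¹ * (y * ε * y⁻¹)) = ε⁻¹ * (ε * α * ε⁻¹) * (y * ε * y⁻¹) := by group
      _ = ε⁻¹ * (y * ε * y⁻¹ * α * (y * ε * y⁻¹)⁻¹) * (y * ε * y⁻¹) := by rw [h8]
      _ = ε⁻¹ * (y * ε * y⁻¹) * α := by group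
  -- the set of the values
  let T : Set G := {t | ∃ y ∈ ws V A, t = y * ε * y⁻¹ * ε⁻¹}
  have h1 : (centralizer ({ε} : Set G)).relIndex (ws V A) ≤ Nat.card T :=
    relIndex_le_of_conj' fun y hy => ⟨y, hy, rfl⟩
  have h2 : Nat.card T ≤ (cx V Z C B).relIndex (cw V Z C B) * Nat.card C := by
    refine card_le_of_cong ?_ ?_
    · rintro _ ⟨y, hy, rfl⟩
      exact (key y hy).2
    · rintro _ ⟨y, hy, rfl⟩ _ ⟨y', hy', rfl⟩ hx
      obtain ⟨e1, e2, hyB⟩ := hyC y hy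
      obtain ⟨e1', e2', hyB'⟩ := hyC y' hy'
      have hE1 : Adj V Z (cj y E) C := by
        have h5 := hE.r.cj y
        rwa [e1] at h5
      have hE2 : Adj V Z (cj y' E) C := by
        have h5 := hE.r.cj y'
        rwa [e1'] at h5
      have q1 : y * ε * y⁻¹ ∈ cj y E := conj_mem_cj hε
      have q2 : y' * ε * y'⁻¹ ∈ cj y' E := conj_mem_cj hε
      have w1 := hm.adj_le_ws hE1.symm q1
      have w2 := hm.adj_le_ws hE2.symm q2
      have e : (y * ε * y⁻¹ * ε⁻¹)⁻¹ * (y' * ε * y'⁻¹ * ε⁻¹) = y' * ε * y'⁻¹ * (y * ε * y⁻¹)⁻¹ := by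
        have c1 : ε⁻¹ * (y' * ε * y'⁻¹) = y' * ε * y'⁻¹ * ε⁻¹ := (hm.ws_comm hC.left w2 ((ws V C).inv_mem hεC)).symm
        have c2 : (y * ε * y⁻¹)⁻¹ * (y' * ε * y'⁻¹) = (y' * ε * y'⁻¹) * (y * ε * y⁻¹)⁻¹ :=
          (hm.ws_comm hC.left w2 ((ws V C).inv_mem w1)).symm
        calc (y * ε * y⁻¹ * ε⁻¹)⁻¹ * (y' * ε * y'⁻¹ * ε⁻¹)
            = ε * (y * ε * y⁻¹)⁻¹ * ((y' * ε * y'⁻¹) * ε⁻¹) := by group
          _ = ε * (y * ε * y⁻¹)⁻¹ * (ε⁻¹ * (y' * ε * y'⁻¹)) := by rw [c1]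
          _ = ε * ((y * ε * y⁻¹)⁻¹ * ε⁻¹) * (y' * ε * y'⁻¹) := by group
          _ = ε * (ε⁻¹ * (y * ε * y⁻¹)⁻¹) * (y' * ε * y'⁻¹) := by
            rw [hm.ws_comm hC.left ((ws V C).inv_mem w1) ((ws V C).inv_mem hεC)]
          _ = (y * ε * y⁻¹)⁻¹ * (y' * ε * y'⁻¹) := by group
          _ = _ := c2
      rw [e] at hx ⊢
      have hb1 : y' * ε * y'⁻¹ * (y * ε * y⁻¹)⁻¹ ∈ bb V Z C B := by
        rw [← e]
        exact mul_mem (inv_mem (key y hy).1) (key y' hy').1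
      have hcen' : ∀ D, Adj V Z D C → ∀ u ∈ UU V Z D,
          u * (y' * ε * y'⁻¹ * (y * ε * y⁻¹)⁻¹) = y' * ε * y'⁻¹ * (y * ε * y⁻¹)⁻¹ * u := by
        intro D hD
        by_cases h5 : Cmp V Z C B D
        · exact (mem_cx.1 hx).2 D hD h5
        · have h6 := h.bb_le_cx hD (B := B) (fun e => h5 e.symm) hb1
          exact (mem_cx.1 h6).2 D hD (Relation.EqvGen.refl _)
      have n1 : y * ε * y⁻¹ ≠ 1 := fun e => hε1 (by
        rw [mul_inv_eq_one] at e
        exact mul_left_cancel (e.trans (mul_one y).symm))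
      have n2 : y' * ε * y'⁻¹ ≠ 1 := fun e => hε1 (by
        rw [mul_inv_eq_one] at e
        exact mul_left_cancel (e.trans (mul_one y').symm))
      obtain ⟨L, hL, hCL, h7, h8⟩ := h.dist C (cj y' E) (cj y E) hE2 hE1 _ q2 n2 _ q1 n1 hcen'
      exact h.line_cen hC.left hL hCL (mul_mem (h7 q2) (inv_mem (h8 q1))) hcen'
  -- `C_{W_A}(ε) ≤ W_A ∩ W_B`
  have h3 : centralizer ({ε} : Set G) ⊓ ws V A ≤ ws V B := by
    rintro y ⟨hy, hyA⟩
    have hyε : y * ε = ε * y := mem_centralizer_singleton_iff.1 hy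
    have h4 : y ∈ ws V (cj ε A) := by
      rw [ws_cj, mem_cj]
      have e : ε⁻¹ * y * ε = y := by rw [mul_assoc, hyε, inv_mul_cancel_left]
      rw [e]
      exact hyA
    have h5 : cj ε A ≠ A := by
      intro e
      have h6 := hm.t3n hj.l.left (hm.twoEl_ws hC.left hεC) e α hα
      exact hε1 (hm.inf_cw hE hε (hcen ε hεC h6.symm))
    have h6 : cj ε A ≤ A ⊔ B := by
      intro x hx
      rw [mem_cj] at hx
      have h7 := h.comm C B R hcr ε hεC _ (hm.adj_le_ws hj.l.symm hx)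
      have e : x = (ε * (ε⁻¹ * x * ε) * ε⁻¹ * (ε⁻¹ * x * ε)⁻¹) * (ε⁻¹ * x * ε) := by group
      rw [e]
      exact mul_mem (mem_sup_right h7) (mem_sup_left hx)
    have h7 := h.infc R A B _ hj (hj.l.left.cj ε) h6 h5
    have h8 : y ∈ ws V A ⊓ ws V (cj ε A) := ⟨hyA, h4⟩
    rw [h7] at h8
    exact h8.2
  have h4 : (ws V B).relIndex (ws V A) ≤ (centralizer ({ε} : Set G)).relIndex (ws V A) := by
    rw [← inf_relIndex_right (centralizer ({ε} : Set G))]
    exact relIndex_le_of_le_left h3 (by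
      rw [inf_relIndex_right]
      exact Subgroup.index_ne_zero_of_finite)
  -- orders
  have h5 := card_mul_relIndex' (cx_le_cw (V := V) (Z := Z) hC.symm)
  have h6 : Nat.card (cw V Z C B) * Nat.card Z = Nat.card (ws V C) := by
    have h1 := card_mul_relIndex' (cw_le (V := V) (Z := Z) (R := C) (A := B))
    rw [cw, inf_comm, inf_relIndex_right, h.h2 C B hC.symm] at h1
    rw [cw, inf_comm]
    exact h1
  rw [h.card_pt hC.left] at h2
  rw [h.card_cx hj.l hC.symm, h.card_ws hj.l.right hC.left]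
  calc (ws V B).relIndex (ws V A) * Nat.card (cx V Z C B)
      ≤ (cx V Z C B).relIndex (cw V Z C B) * Nat.card Z * Nat.card (cx V Z C B) :=
        Nat.mul_le_mul_right _ ((h4.trans h1).trans h2)
    _ = Nat.card (cx V Z C B) * (cx V Z C B).relIndex (cw V Z C B) * Nat.card Z := by ring
    _ = Nat.card (ws V C) := by rw [h5, h6]

/-- **THEOREM N1** without (H3), second half -/
theorem false : False := by
  have hm := h.mid
  obtain ⟨B, R, B₀, hc⟩ := h.ex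
  have hB : Adj V Z B R := hc.l
  have hR := hB.right
  obtain ⟨A, hBA⟩ := h.exists_jo hB
  have hj : Jo V Z R A B := h.symm _ _ _ hBA
  obtain ⟨L, hL, hBL, hRL⟩ := hB.line
  obtain ⟨B', hB'p, hBL', hBR', hBB'⟩ := hm.exists_third hR hB.left hL hRL hBL hB.ne.symm
  have hB' : Adj V Z B' R := ⟨hB'p, hR, hBR', L, hL, hBL', hRL⟩
  have hj2 : Jo V Z R A B' := hm.jo_line_right hj hB' hL hRL hBL hBL'
  have i1 := h.index_le hj
  have i2 := h.index_le hj2
  have hn := h.le_card_ws hj.l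
  set c := Nat.card (cx V Z R A) with hc0
  set s := Nat.card Z with hs0
  set w := Nat.card (ws V R) with hw0
  have hs : 1 < s := h.one_lt
  -- the line group
  have hI : ws V B ⊓ ws V B' ≤ ws V R := hm.inf_le hL hB.left hB'p hR hBL hBL' hRL hBB'.symm
  have hIc : ws V B ⊓ ws V B' ≤ cw V Z R B := by
    intro x hx
    rw [mem_cw]
    exact ⟨hI hx, fun u hu => (mem_centralizer_iff.1 (hm.UU_le_centralizer B hu) x hx.1).symm⟩
  have hIR : (ws V B ⊓ ws V B') ⊓ cx V Z R B = R := by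
    apply le_antisymm
    · rintro u ⟨hu, hu'⟩
      exact h.inf_cx hB hL hRL hBL hu.1 (hI hu) hu'
    · exact le_inf (le_inf (hm.adj_le_ws hB) (hm.adj_le_ws hB')) (h.R_le_cx hB)
  have c1 := card_sup_mul' (h.ws_comm' hR hI (cx_le (V := V) (Z := Z) (R := R) (A := B)))
  rw [hIR, h.card_pt hR, h.card_cx hB hj.l] at c1
  have c2 : Nat.card (ws V B ⊓ ws V B' ⊔ cx V Z R B : Subgroup G) ≤ Nat.card (cw V Z R B) :=
    Nat.card_le_card_of_injective _ (Subgroup.inclusion_injective (sup_le hIc (cx_le_cw hB)))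
  have c3 : Nat.card (cw V Z R B) * s = w := by
    have h1 := card_mul_relIndex' (cw_le (V := V) (Z := Z) (R := R) (A := B))
    rw [cw, inf_comm, inf_relIndex_right, h.h2 R B hB] at h1
    rw [cw, inf_comm]
    exact h1
  -- `|I| c ≤ w`
  have c5 : Nat.card (ws V B ⊓ ws V B' : Subgroup G) * c ≤ w := by
    calc Nat.card (ws V B ⊓ ws V B' : Subgroup G) * c
        = Nat.card (ws V B ⊓ ws V B' ⊔ cx V Z R B : Subgroup G) * s := c1.symm
      _ ≤ Nat.card (cw V Z R B) * s := Nat.mul_le_mul_right _ c2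
      _ = w := c3
  -- `|D| s ≤ |I|`
  have d1 : B ⊓ (ws V B ⊓ ws V B' ⊓ ws V A) = ⊥ := by
    rw [eq_bot_iff]
    rintro x ⟨hx, -, hx'⟩
    rw [mem_bot]
    refine hm.inf_cw hj hx (mem_cw.2 ⟨hm.adj_le_ws hB.symm hx, fun u hu => ?_⟩)
    exact (mem_centralizer_iff.1 (hm.UU_le_centralizer A hu) x hx').symm
  have hBI : B ≤ ws V B ⊓ ws V B' :=
    le_inf (hm.pt_le_ws hB.left) (hm.adj_le_ws ⟨hB'p, hB.left, hBB', L, hL, hBL', hBL⟩)
  have d2 := card_sup_mul' (h.ws_comm' hB.left (hm.pt_le_ws hB.left)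
    ((inf_le_left.trans inf_le_left : ws V B ⊓ ws V B' ⊓ ws V A ≤ ws V B)))
  rw [d1, card_bot, mul_one, h.card_pt hB.left] at d2
  have d3 : s * Nat.card (ws V B ⊓ ws V B' ⊓ ws V A : Subgroup G) ≤ Nat.card (ws V B ⊓ ws V B' : Subgroup G) := by
    rw [← d2]
    exact Nat.card_le_card_of_injective _ (Subgroup.inclusion_injective (sup_le hBI inf_le_left))
  -- `|W_A| ≤ i₁ i₂ |D|`
  have e1 := card_mul_relIndex' (inf_le_right : ws V B ⊓ ws V B' ⊓ ws V A ≤ ws V A)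
  rw [inf_relIndex_right] at e1
  have e2 : (ws V B ⊓ ws V B').relIndex (ws V A) ≤ (ws V B).relIndex (ws V A) * (ws V B').relIndex (ws V A) :=
    relIndex_inf_le
  have e3 : Nat.card (ws V A) = w := h.card_ws hj.l.left hR
  have hW0 : 0 < w := Nat.card_pos
  rw [e3] at e1
  have e4 : w * s * c ^ 3 ≤ w ^ 3 := by
    calc w * s * c ^ 3
        = (Nat.card (ws V B ⊓ ws V B' ⊓ ws V A : Subgroup G) * (ws V B ⊓ ws V B').relIndex (ws V A)) * s * c ^ 3 := by
          rw [e1]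
      _ ≤ Nat.card (ws V B ⊓ ws V B' ⊓ ws V A : Subgroup G) *
            ((ws V B).relIndex (ws V A) * (ws V B').relIndex (ws V A)) * s * c ^ 3 := by gcongr
      _ = ((ws V B).relIndex (ws V A) * c) * ((ws V B').relIndex (ws V A) * c) *
            ((s * Nat.card (ws V B ⊓ ws V B' ⊓ ws V A : Subgroup G)) * c) := by ring
      _ ≤ w * w * w := by
        refine Nat.mul_le_mul (Nat.mul_le_mul i1 i2) ?_
        exact (Nat.mul_le_mul_right _ d3).trans c5
      _ = w ^ 3 := by ring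
  have e5 : w * s * (w ^ 2 * s) ≤ w ^ 3 := (Nat.mul_le_mul_left _ hn).trans e4
  have e6 : w ^ 3 * (s * s) ≤ w ^ 3 * 1 := by
    calc w ^ 3 * (s * s) = w * s * (w ^ 2 * s) := by ring
      _ ≤ w ^ 3 := e5
      _ = w ^ 3 * 1 := (mul_one _).symm
  have e7 := Nat.le_of_mul_le_mul_left e6 (pow_pos hW0 3)
  nlinarith

end FG

end TNF

end Cfsg.Agent.Omega.NO3S.MidQ

end
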